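import Mathlib.RingTheory.Filtration
import Mathlib.RingTheory.Noetherian.Basic

/-!
# Torsion subcomplexes of complexes of modules with the extension property
-/

set_option autoImplicit false

universe u v

noncomputable section

namespace Groth.Agent.FTorsL

variable {A : Type u} [CommRing A]

variable (A) in
/-- The extension property of injective modules, for finitely many elements. -/
def FinExt (M : Type v) [AddCommGroup M] [Module A M] : Prop :=
  ∀ (n : ℕ) (a : Fin n → A) (m : Fin n → M),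
    (∀ c : Fin n → A, ∑ i, c i * a i = 0 → ∑ i, c i • m i = 0) → ∃ e : M, ∀ i, m i = a i • e

/-- Killed by powers of the first elements of a family. -/
def TT {M : Type v} [AddCommGroup M] [Module A M] (g : ℕ → A) (k : ℕ) (m : M) : Prop :=
  ∀ i < k, ∃ e : ℕ, g i ^ e • m = 0

variable {M : Type v} [AddCommGroup M] [Module A M] {g : ℕ → A}

/-- Torsion elements for the first members of a family are divisible by powers of the next member, up to torsion. -/
def DivG (g : ℕ → A) (M : Type v) [AddCommGroup M] [Module A M] : Prop :=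
  ∀ (k : ℕ) (m : M), TT g k m → ∀ N : ℕ, ∃ (m' : M) (j : ℕ), TT g k m' ∧ g k ^ j • (g k ^ N • m' - m) = 0

theorem TT.sub {k : ℕ} {m m' : M} (h : TT g k m) (h' : TT g k m') : TT g k (m - m') := fun i hi => by
  obtain ⟨e, he⟩ := h i hi
  obtain ⟨e', he'⟩ := h' i hi
  refine ⟨e + e', ?_⟩
  rw [smul_sub, pow_add, mul_smul (g i ^ e) _ m', he', smul_zero, mul_comm, mul_smul, he, smul_zero, sub_zero]

theorem TT.smul {k : ℕ} {m : M} (h : TT g k m) (r : A) : TT g k (r • m) := fun i hi => by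
  obtain ⟨e, he⟩ := h i hi
  exact ⟨e, by rw [smul_comm, he, smul_zero]⟩

theorem TT.map {N : Type*} [AddCommGroup N] [Module A N] {k : ℕ} {m : M} (h : TT g k m) (f : M →ₗ[A] N) :
    TT g k (f m) := fun i hi => by
  obtain ⟨e, he⟩ := h i hi
  exact ⟨e, by rw [← map_smul, he, map_zero]⟩

theorem smul_eq_zero_of_mem_span {S : Set A} {m : M} (h : ∀ z ∈ S, z • m = 0) {a : A}
    (ha : a ∈ Submodule.span A S) : a • m = 0 := by
  induction ha using Submodule.span_induction with
  | mem z hz => exact h z hz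
  | zero => exact zero_smul A m
  | add a b _ _ ia ib => rw [add_smul, ia, ib, add_zero]
  | smul a b _ ib => rw [smul_eq_mul, mul_smul, ib, smul_zero]

variable (g) in
theorem exists_stable [IsNoetherianRing A] (G : A) :
    ∃ j, ∀ (N : ℕ) (r : A), r * G ^ (j + N) = 0 → r * G ^ j = 0 := by
  obtain ⟨j, hj⟩ := monotone_stabilizes_iff_noetherian.2 (inferInstanceAs (IsNoetherian A A))
    ⟨fun i => LinearMap.ker (LinearMap.toSpanSingleton A A (G ^ i)), fun a b hab r hr => by
      rw [LinearMap.mem_ker, LinearMap.toSpanSingleton_apply, smul_eq_mul] at hr ⊢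
      rw [show G ^ b = G ^ a * G ^ (b - a) by rw [← pow_add, Nat.add_sub_cancel' hab], ← mul_assoc, hr, zero_mul]⟩
  refine ⟨j, fun N r hr => ?_⟩
  have : r ∈ LinearMap.ker (LinearMap.toSpanSingleton A A (G ^ (j + N))) := by simpa using hr
  have h1 := (hj (j + N) (Nat.le_add_right j N)).symm
  simp only [OrderHom.coe_mk] at h1
  rw [h1] at this
  simpa using this

theorem exists_div [IsNoetherianRing A] (hM : FinExt A M) {k : ℕ} {m : M} (hm : TT g k m) (G : A) (N : ℕ) :
    ∃ (m' : M) (j : ℕ), TT g k m' ∧ G ^ j • (G ^ N • m' - m) = 0 := by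
  choose e he using hm
  let 𝔞 : Ideal A := Ideal.span (Set.range fun i : Fin k => g i ^ e i i.2)
  obtain ⟨j, hj⟩ := exists_stable G
  obtain ⟨t, ht⟩ := Ideal.exists_pow_inf_eq_pow_smul 𝔞 (Submodule.span A {G ^ (j + N)} : Submodule A A)
  obtain ⟨q, b, hb⟩ := Submodule.fg_iff_exists_fin_generating_family.1 (IsNoetherian.noetherian (𝔞 ^ (t + 1)))
  obtain ⟨x, hx⟩ := hM (q + 1) (Fin.cons (G ^ (j + N)) b) (Fin.cons (G ^ j • m) fun _ => 0) fun c hc => by
    rw [Fin.sum_univ_succ] at hc ⊢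
    simp only [Fin.cons_zero, Fin.cons_succ, smul_zero, Finset.sum_const_zero, add_zero] at hc ⊢
    have h1 : c 0 * G ^ (j + N) ∈ 𝔞 ^ (t + 1) • (⊤ : Submodule A A) ⊓ Submodule.span A {G ^ (j + N)} := by
      refine ⟨?_, Submodule.mem_span_singleton.2 ⟨c 0, rfl⟩⟩
      rw [Ideal.smul_eq_mul, Ideal.mul_top, eq_neg_of_add_eq_zero_left hc, ← hb]
      exact neg_mem (Submodule.sum_mem _ fun i _ => Submodule.smul_mem _ (c i.succ) (Submodule.subset_span ⟨i, rfl⟩))
    rw [ht (t + 1) (Nat.le_succ t), Nat.add_sub_cancel_left, pow_one] at h1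
    obtain ⟨s, hs, hs'⟩ := Submodule.mem_smul_span_singleton.1
      ((Submodule.smul_mono le_rfl inf_le_right : 𝔞 • _ ≤ 𝔞 • Submodule.span A {G ^ (j + N)}) h1)
    have h2 : (c 0 - s) * G ^ j = 0 := hj N _ (by rw [sub_mul, sub_eq_zero]; exact hs'.symm)
    have h3 : s • m = 0 := smul_eq_zero_of_mem_span (fun z hz => by obtain ⟨i, rfl⟩ := hz; exact he i i.2) hs
    rw [smul_smul, show c 0 * G ^ j = s * G ^ j by rw [← sub_eq_zero, ← sub_mul, h2], mul_comm, mul_smul, h3,
      smul_zero]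
  refine ⟨x, j, fun i hi => ?_, ?_⟩
  · refine ⟨e i hi * (t + 1), ?_⟩
    have h1 : g i ^ (e i hi * (t + 1)) ∈ 𝔞 ^ (t + 1) := by
      rw [pow_mul]
      have hmem : g i ^ e i hi ∈ 𝔞 := Ideal.subset_span ⟨(⟨i, hi⟩ : Fin k), rfl⟩
      exact Ideal.pow_mem_pow hmem _
    rw [← hb] at h1
    refine smul_eq_zero_of_mem_span (fun z hz => ?_) h1
    obtain ⟨l, rfl⟩ := hz
    simpa using (hx l.succ).symm
  · have h0 := hx 0
    simp only [Fin.cons_zero] at h0
    rw [smul_sub, smul_smul, ← pow_add, h0, sub_self]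

theorem FinExt.divG [IsNoetherianRing A] (hM : FinExt A M) : DivG g M :=
  fun k _ hm N => exists_div hM hm (g k) N

theorem DivG.prod {N : Type v} [AddCommGroup N] [Module A N] (hM : DivG g M) (hN : DivG g N) :
    DivG g (M × N) := fun k m hm e => by
  obtain ⟨a, i, ha, hi⟩ := hM k m.1 (hm.map (LinearMap.fst A M N)) e
  obtain ⟨b, j, hb, hj⟩ := hN k m.2 (hm.map (LinearMap.snd A M N)) e
  refine ⟨(a, b), i + j, fun r hr => ?_, Prod.ext ?_ ?_⟩
  · obtain ⟨p, hp⟩ := ha r hr
    obtain ⟨q, hq⟩ := hb r hr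
    refine ⟨p + q, Prod.ext ?_ ?_⟩
    · change g r ^ (p + q) • a = 0
      rw [pow_add, mul_comm, mul_smul, hp, smul_zero]
    · change g r ^ (p + q) • b = 0
      rw [pow_add, mul_smul, hq, smul_zero]
  · change g k ^ (i + j) • (g k ^ e • a - m.1) = 0
    rw [pow_add, mul_comm, mul_smul, hi, smul_zero]
  · change g k ^ (i + j) • (g k ^ e • b - m.2) = 0
    rw [pow_add, mul_smul, hj, smul_zero]

variable {X : ℤ → Type v} [∀ i, AddCommGroup (X i)] [∀ i, Module A (X i)] (d : ∀ i j, X i →ₗ[A] X j)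

/-- An element with torsion differential differs from a torsion element by a boundary. -/
theorem exists_sub_boundary_TT (hX : ∀ i, DivG g (X i))
    (hd : ∀ i j l x, d j l (d i j x) = 0)
    (k : ℕ) (hH : ∀ (i j l : ℤ), i + 1 = j → j + 1 = l → ∀ z, d j l z = 0 → ∀ r < k, ∃ (e : ℕ) (v : X i),
      g r ^ e • z = d i j v)
    (i j l : ℤ) (hij : i + 1 = j) (hjl : j + 1 = l) (w : X j) (hw : TT g k (d j l w)) :
    ∃ v : X i, TT g k (w - d i j v) := by
  induction k generalizing i j l with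
  | zero => exact ⟨0, fun r hr => absurd hr (Nat.not_lt_zero r)⟩
  | succ k ih =>
    have hH' := fun i j l hij hjl z hz r (hr : r < k) => hH i j l hij hjl z hz r (hr.trans k.lt_succ_self)
    obtain ⟨v, hv⟩ := ih hH' i j l hij hjl w fun r hr => hw r (hr.trans k.lt_succ_self)
    obtain ⟨e, he⟩ := hw k k.lt_succ_self
    have hcyc : d j l (g k ^ e • (w - d i j v)) = 0 := by rw [map_smul, map_sub, hd, sub_zero, he]
    obtain ⟨f, v₀, hv₀⟩ := hH i j l hij hjl _ hcyc k k.lt_succ_self
    obtain ⟨u, hu⟩ := ih hH' (i - 1) i j (by omega) hij v₀ (by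
      rw [← hv₀, smul_smul]; exact hv.smul _)
    obtain ⟨v', q, hv', hq⟩ := hX i k _ hu (f + e)
    refine ⟨v + v', ?_⟩
    have h1 : TT g k (w - d i j (v + v')) := by
      rw [map_add, ← sub_sub]
      exact hv.sub (hv'.map (d i j))
    intro r hr
    rcases Nat.lt_succ_iff_lt_or_eq.1 hr with hr' | rfl
    · exact h1 r hr'
    · refine ⟨q + (f + e), ?_⟩
      rw [map_add, ← sub_sub, smul_sub]
      have e1 : g r ^ (q + (f + e)) • (w - d i j v) = g r ^ q • d i j v₀ := by
        rw [← hv₀, smul_smul, smul_smul, pow_add, pow_add, mul_assoc]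
      have e2 : d i j (g r ^ q • (g r ^ (f + e) • v' - (v₀ - d (i - 1) i u))) = 0 := by rw [hq, map_zero]
      rw [map_smul, map_sub, map_smul, map_sub, hd, sub_zero, smul_sub, smul_smul, ← pow_add, sub_eq_zero] at e2
      rw [e1, e2, sub_self]

end Groth.Agent.FTorsL
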