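import Groth.Agent.FTorsL.Colim
import Mathlib.Algebra.Category.ModuleCat.Presheaf.EpiMono

/-!
# The torsion submodule of a quasi-coherent module is quasi-coherent
-/

set_option autoImplicit false
set_option backward.isDefEq.respectTransparency false
set_option backward.isDefEq.respectTransparency.types false
set_option linter.style.haveILetI false

universe u

open CategoryTheory CategoryTheory.Limits AlgebraicGeometry TopologicalSpace Opposite
open Groth.Agent.H9FCoh Groth.Agent.ClosedRinged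
open Groth.Agent.RngSp (pt gm mp fns)

noncomputable section

namespace Groth.Agent.FTorsL

/-- Vectors sent into a submodule by finitely many multipliers. -/
theorem mem_pN_colon_finite {A B : Type u} [CommRing A] [CommRing B] (φ : A →+* B) (hφ : φ.Flat) {ι : Type u}
    (N : Submodule A (ι →₀ A)) {n : ℕ} (a : Fin n → A) {w : ι →₀ B} (hw : ∀ l, φ (a l) • w ∈ pN φ N)
    (S : Submodule A (ι →₀ A)) (hS : ∀ v, (∀ l, a l • v ∈ N) → v ∈ S) : w ∈ pN φ S := by
  classical
  let col : ι → (Fin n × ι) →₀ A := fun i => ∑ l, Finsupp.single (l, i) (a l)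
  let P : Submodule A ((Fin n × ι) →₀ A) := ⨅ l, N.comap (Finsupp.lcomapDomain (Prod.mk l) (fun _ _ e => (Prod.mk.inj e).2))
  have hcm : ∀ w : ι →₀ B, colMap φ col w = ∑ l, (φ (a l) • w).mapDomain (Prod.mk l) := fun w => by
    clear hw
    induction w using Finsupp.induction_linear with
    | zero => simp
    | add u v hu hv => simp [hu, hv, smul_add, Finsupp.mapDomain_add, Finset.sum_add_distrib]
    | single i c =>
      rw [colMap, Finsupp.linearCombination_single]
      simp only [col, pv_sum, Finset.smul_sum, Finsupp.smul_single, Finsupp.mapDomain_single]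
      refine Finset.sum_congr rfl fun l _ => ?_
      rw [pv, Finsupp.mapRange_single, Finsupp.smul_single, smul_eq_mul, smul_eq_mul, mul_comm]
  have hl : ∀ l (v : ι →₀ B), v ∈ pN φ N → v.mapDomain (Prod.mk l) ∈ pN φ P := by
    intro l v hv
    induction hv using Submodule.span_induction with
    | mem v hv =>
      obtain ⟨u, hu, rfl⟩ := hv
      rw [← pv_mapDomain]
      refine pv_mem_pN _ ?_
      simp only [P, Submodule.mem_iInf, Submodule.mem_comap]
      intro l'
      by_cases e : l = l'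
      · subst e
        rw [show (Finsupp.lcomapDomain (Prod.mk l) fun _ _ e => (Prod.mk.inj e).2) (u.mapDomain (Prod.mk l)) = u from
          Finsupp.ext fun i => by
            rw [Finsupp.lcomapDomain_apply, Finsupp.comapDomain_apply, Finsupp.mapDomain_apply (fun _ _ e => (Prod.mk.inj e).2)]]
        exact hu
      · convert N.zero_mem using 1
        refine Finsupp.ext fun i => ?_
        rw [Finsupp.lcomapDomain_apply, Finsupp.comapDomain_apply, Finsupp.mapDomain_of_notMem_range]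
        · rfl
        · rintro ⟨j, hj⟩
          exact e (Prod.mk.inj hj).1
    | zero => rw [Finsupp.mapDomain_zero]; exact zero_mem _
    | add u v _ _ hu hv => rw [Finsupp.mapDomain_add]; exact add_mem hu hv
    | smul c u _ hu => rw [Finsupp.mapDomain_smul]; exact Submodule.smul_mem _ _ hu
  have h1 := mem_pN_comap_col φ hφ col (N := P) (w := w)
    ((hcm w) ▸ Submodule.sum_mem _ fun l _ => hl l _ (hw l))
  refine (Submodule.span_mono ?_ : pN φ _ ≤ pN φ S) h1
  rintro _ ⟨v, hv, rfl⟩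
  refine ⟨v, hS v fun l => ?_, rfl⟩
  have h2 : Finsupp.linearCombination A col v ∈ P := hv
  simp only [P, Submodule.mem_iInf, Submodule.mem_comap] at h2
  convert h2 l using 1
  refine Finsupp.ext fun i => ?_
  rw [Finsupp.lcomapDomain_apply, Finsupp.comapDomain_apply, Finsupp.linearCombination_apply, Finsupp.sum,
    Finsupp.finsetSum_apply, Finsupp.smul_apply]
  simp only [col, Finsupp.smul_apply, Finsupp.finsetSum_apply, Finsupp.single_apply, Prod.mk.injEq, smul_eq_mul]
  rw [Finset.sum_eq_single i]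
  · rw [Finset.sum_eq_single l]
    · simp [mul_comm]
    · intro b _ hb; simp [hb]
    · simp
  · intro b _ hb
    simp [hb]
  · intro hi
    simp [Finsupp.notMem_support_iff.1 hi]

variable {𝔛 : FSch.Sys.{u}} (h : 𝔛.IsLocNoethFormal) (M : FSch.ModF 𝔛 h.1)

instance mono_gammaTι (hF : 𝔛.IsFormal) (M : FSch.ModF 𝔛 hF) : Mono ((FTors.gammaTι 𝔛 hF).app M) := by
  haveI : Mono ((SheafOfModules.forget _).map ((FTors.gammaTι 𝔛 hF).app M)) :=
    PresheafOfModules.mono_of_injective fun {X} s t e => Subtype.ext e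
  exact (SheafOfModules.forget _).mono_of_mono_map ‹_›

theorem torsAt_fx_gammaTι {x : 𝔛.X 0} (z : ModSite.stalkAb (pt x) ((FTors.gammaT 𝔛 h.1).obj M)) :
    TorsAt h (fx ((FTors.gammaTι 𝔛 h.1).app M) x z) := by
  obtain ⟨V, hV, s, rfl⟩ := RngSp.exists_gm z
  obtain ⟨W, g, ⟨k, hk⟩, hxW⟩ := (show FTors.killSieve (FTors.openIdealFam 𝔛 h.1) M s.1 ∈
    Opens.grothendieckTopology (𝔛.X 0) V from s.2) x hV
  obtain ⟨U, hU, hxU, hle⟩ := exists_affine (W := W) hxW
  rw [fx_gm]
  have h1 : gm M (hle hxU) (FTors.res M g s.1) = gm M hV s.1 := RngSp.gm_res (M := M) g.le hxW s.1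
  exact ⟨U, hU, hxU, k + 1, fun a ha => (congrArg (fun q => gH (𝔛.Osh h.1) hxU a • q) h1.symm).trans
    (kills_of_killedBy h hk hU hle hxU a ha)⟩

theorem isTorsF_gammaT : FTors.IsTorsF 𝔛 h.1 ((FTors.gammaT 𝔛 h.1).obj M) := by
  refine isTorsF_of_torsAt h fun x z => ?_
  obtain ⟨U, hU, hx, k, hk⟩ := torsAt_fx_gammaTι h M z
  refine ⟨U, hU, hx, k, fun a ha => fx_injective ((FTors.gammaTι 𝔛 h.1).app M) x ?_⟩
  obtain ⟨V, hV, s, rfl⟩ := RngSp.exists_gm z
  have h1 := hk a ha
  rw [← gH_rO h (inf_le_left : U ⊓ V ≤ U) (show x ∈ U ⊓ V from ⟨hx, hV⟩),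
    ← RngSp.gm_res (inf_le_right : U ⊓ V ≤ V) (show x ∈ U ⊓ V from ⟨hx, hV⟩)] at h1 ⊢
  rw [fx_gm, ← gm_smul' h, ← map_smul] at h1
  rw [map_zero, ← gm_smul' h, fx_gm]
  exact h1

theorem exists_model_gammaT {V : (𝔛.X 0).Opens} (hV : IsAffineOpen V) {ι : Type u} {t : ι → M.val.obj (op V)}
    {N : Submodule (Ox h V) (ι →₀ Ox h V)} (hm : IsModel M V t N) :
    ∃ (σ : Type u) (s : σ → ((FTors.gammaT 𝔛 h.1).obj M).val.obj (op V))
      (N' : Submodule (Ox h V) (σ →₀ Ox h V)), IsModel ((FTors.gammaT 𝔛 h.1).obj M) V s N' := by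
  classical
  let K : Submodule (Ox h V) (ι →₀ Ox h V) :=
    { carrier := {v | ∃ k, ∀ a ∈ J h V ^ (k + 1), a • v ∈ N}
      add_mem' := fun {u v} ⟨k, hk⟩ ⟨l, hl⟩ => ⟨max k l, fun a ha => by
        rw [smul_add]
        exact add_mem (hk a (Ideal.pow_le_pow_right (by omega) ha)) (hl a (Ideal.pow_le_pow_right (by omega) ha))⟩
      zero_mem' := ⟨0, fun a _ => by rw [smul_zero]; exact zero_mem _⟩
      smul_mem' := fun c v ⟨k, hk⟩ => ⟨k, fun a ha => by rw [smul_comm]; exact N.smul_mem _ (hk a ha)⟩ }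
  have htor : ∀ v : K, FTors.IsTorsSect (FTors.openIdealFam 𝔛 h.1) M (cmb t v.1) := fun v => by
    obtain ⟨k, hk⟩ := v.2
    refine FTors.IsTorsSect.of_killedBy (n := k) (killedBy_of_affine h hV _ fun x hx a ha => ?_)
    rw [gm_cmb, ← map_smul, ← pv_smul]
    exact (hm.rel x hx _).2 (pv_mem_pN _ (hk a ha))
  let s : K → ((FTors.gammaT 𝔛 h.1).obj M).val.obj (op V) := fun v => ⟨cmb t v.1, htor v⟩
  let col : K → ι →₀ Ox h V := fun v => v.1
  have hs : ∀ v, mp ((FTors.gammaTι 𝔛 h.1).app M) V (s v) = cmb t (col v) := fun v => rfl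
  have hι : ∀ (x : 𝔛.X 0) (hx : x ∈ V) u, fx ((FTors.gammaTι 𝔛 h.1).app M) x (gcmb (fun j => gm _ hx (s j)) u) =
      gcmb (fun i => gm M hx (t i)) (colMap (gH (𝔛.Osh h.1) hx) col u) := fun x hx u =>
    fx_model ((FTors.gammaTι 𝔛 h.1).app M) hs hx u
  refine ⟨K, s, N.comap (Finsupp.linearCombination (Ox h V) col), fun x hx z => ?_, fun x hx u => ?_⟩
  · obtain ⟨w, hw⟩ := hm.gen x hx (fx ((FTors.gammaTι 𝔛 h.1).app M) x z)
    obtain ⟨k, hk⟩ := (torsAt_fx_gammaTι h M z).exists_kills hV hx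
    haveI := isNoetherianRing_Ox h hV
    obtain ⟨n, a, ha⟩ := Submodule.fg_iff_exists_fin_generating_family.1 (IsNoetherian.noetherian (J h V ^ (k + 1)))
    have h1 : w ∈ pN (gH (𝔛.Osh h.1) hx) K := by
      refine mem_pN_colon_finite _ ((good h).flat V hV x hx) N a (fun l => (hm.rel x hx _).1 ?_) K fun v hv => ⟨k, fun b hb => ?_⟩
      · rw [map_smul, hw]
        exact hk.mono k.le_succ _ (ha ▸ Submodule.subset_span ⟨l, rfl⟩)
      · rw [← ha] at hb
        induction hb using Submodule.span_induction with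
        | mem b hb => obtain ⟨l, rfl⟩ := hb; exact hv l
        | zero => rw [zero_smul]; exact zero_mem _
        | add b c _ _ ib ic => rw [add_smul]; exact add_mem ib ic
        | smul c b _ ib => rw [smul_eq_mul, mul_smul]; exact N.smul_mem _ ib
    have hspan : Submodule.span (Ox h V) (Set.range col) = K :=
      (congrArg _ Subtype.range_coe).trans (Submodule.span_eq _)
    rw [← hspan, pN_span, ← Set.range_comp] at h1
    obtain ⟨u, hu⟩ := Finsupp.mem_span_range_iff_exists_finsupp.1 h1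
    refine ⟨u, fx_injective ((FTors.gammaTι 𝔛 h.1).app M) x ?_⟩
    rw [hι, ← hw]
    exact congrArg _ hu
  · rw [← (fx_injective ((FTors.gammaTι 𝔛 h.1).app M) x).eq_iff, map_zero, hι, hm.rel x hx]
    exact ⟨mem_pN_comap_col _ ((good h).flat V hV x hx) col, colMap_mem_pN _ col fun v hv => hv⟩

theorem isQCT_gammaT_of_isQC (hM : IsQC M) : FTors.IsQCT 𝔛 h.1 ((FTors.gammaT 𝔛 h.1).obj M) := by
  refine ⟨isTorsF_gammaT h M, isQuasicoherent_of_models (M := (FTors.gammaT 𝔛 h.1).obj M) fun x => ?_⟩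
  obtain ⟨V, -, hxV, hV, ι, t, N, hm⟩ := exists_model_nbhd h hM (Opens.mem_top x)
  obtain ⟨σ, s, N', hs⟩ := exists_model_gammaT h M hV hm
  exact ⟨V, σ, s, N', hxV, hs⟩

end Groth.Agent.FTorsL
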