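import Groth.Agent.FTorsL.InjExt
import Groth.Agent.FTorsL.DivTors
import Groth.Agent.FTorsL.Gamma
import Mathlib.Algebra.Homology.HomologySequence
import Mathlib.RingTheory.Noetherian.Nilpotent

/-!
# The torsion subcomplex of a complex of injectives with torsion cohomology
-/

set_option autoImplicit false
set_option backward.isDefEq.respectTransparency false
set_option backward.isDefEq.respectTransparency.types false
set_option linter.style.haveILetI false

universe u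

open CategoryTheory CategoryTheory.Limits AlgebraicGeometry TopologicalSpace Opposite
open Groth.Agent.H9FCoh Groth.Agent.ClosedRinged Groth.Agent.ModPull
open Groth.Agent.RngSp (pt gm mp fns)

noncomputable section

namespace Groth.Agent.FTorsL

section General

variable {X : TopCat.{u}} {O : TopCat.Sheaf CommRingCat.{u} X} {M N : ModSite.Mod O}

theorem fx_smul (f : M ⟶ N) {U : Opens X} {x : X} (hx : x ∈ U) (a : Fn O U) (z : ModSite.stalkAb (pt x) M) :
    fx f x (gH O hx a • z) = gH O hx a • fx f x z := by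
  obtain ⟨V, hV, s, rfl⟩ := RngSp.exists_gm z
  rw [← gH_rr (inf_le_left : U ⊓ V ≤ U) (show x ∈ U ⊓ V from ⟨hx, hV⟩),
    ← RngSp.gm_res (inf_le_right : U ⊓ V ≤ V) (show x ∈ U ⊓ V from ⟨hx, hV⟩), fx_gm]
  refine (congrArg (fx f x) (RngSp.gm_smul _ (show fns O (U ⊓ V) from rr O inf_le_left a) _).symm).trans ?_
  rw [fx_gm, map_smul]
  exact RngSp.gm_smul _ _ _

theorem fx_zero (x : X) (z : ModSite.stalkAb (pt x) M) : fx (0 : M ⟶ N) x z = 0 := by
  obtain ⟨V, hV, s, rfl⟩ := RngSp.exists_gm z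
  rw [fx_gm]
  exact RngSp.gm_zero hV

theorem eq_zero_of_fx (f : M ⟶ N) (hf : ∀ (x : X) (z : ModSite.stalkAb (pt x) M), fx f x z = 0) : f = 0 :=
  SheafOfModules.hom_ext (PresheafOfModules.Hom.ext (funext fun A => ModuleCat.hom_ext
    (LinearMap.ext fun z => eq_of_gm fun x hx => by
      rw [← fx_gm f hx z, hf]
      exact (RngSp.gm_zero hx).symm)))

theorem fx_surjective_of_epi (f : M ⟶ N) [Epi f] (x : X) : Function.Surjective (fx f x) := fun z => by
  obtain ⟨V, hV, s, rfl⟩ := RngSp.exists_gm z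
  obtain ⟨W, hW, hxW, t, ht⟩ := RngSp.exists_mp_eq f s x hV
  refine ⟨gm M hxW t, ?_⟩
  rw [fx_gm, ← RngSp.gm_res hW hxW s]
  exact congrArg (gm N hxW) ht

theorem exists_fx_kernel (f : M ⟶ N) (x : X) (z : ModSite.stalkAb (pt x) M) (hz : fx f x z = 0) :
    ∃ a, fx (kernel.ι f) x a = z := by
  obtain ⟨V, hV, s, rfl⟩ := RngSp.exists_gm z
  rw [fx_gm, ← RngSp.gm_zero (M := N) hV] at hz
  obtain ⟨W, hW, hxW, he⟩ := (RngSp.gm_eq_iff hV _ _).1 hz
  rw [res_zero, ← RngSp.mp_res] at he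
  obtain ⟨a, ha⟩ := exists_mp_kernel_eq f (res M hW s) he
  refine ⟨gm _ hxW a, ?_⟩
  rw [fx_gm, ha, RngSp.gm_res]

theorem exists_fx_of_exact {S : ShortComplex (ModSite.Mod O)} (hS : S.Exact) (x : X)
    (z : ModSite.stalkAb (pt x) S.X₂) (hz : fx S.g x z = 0) : ∃ a, fx S.f x a = z := by
  obtain ⟨b, rfl⟩ := exists_fx_kernel S.g x z hz
  haveI := hS.epi_kernelLift
  obtain ⟨a, rfl⟩ := fx_surjective_of_epi (kernel.lift S.g S.f S.zero) x b
  exact ⟨a, by rw [fx_comp, kernel.lift_ι]⟩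

theorem exact_of_fx {S : ShortComplex (ModSite.Mod O)}
    (hS : ∀ (x : X) (z : ModSite.stalkAb (pt x) S.X₂), fx S.g x z = 0 → ∃ a, fx S.f x a = z) : S.Exact := by
  rw [ShortComplex.exact_iff_epi_kernel_lift]
  refine Preadditive.epi_of_cancel_zero _ fun q hq => eq_zero_of_fx q fun x b => ?_
  obtain ⟨a, ha⟩ := hS x (fx (kernel.ι S.g) x b) (by rw [fx_comp, kernel.condition, fx_zero])
  have hb : fx (kernel.lift S.g S.f S.zero) x a = b :=
    fx_injective (kernel.ι S.g) x (by rw [fx_comp, kernel.lift_ι, ha])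
  rw [← hb, fx_comp, hq, fx_zero]

theorem quasiIso_of_mono {K L : CochainComplex (ModSite.Mod O) ℤ} (f : K ⟶ L) [Mono f]
    (hf : ∀ i, (cokernel f).ExactAt i) : QuasiIso f := by
  have hS : (ShortComplex.mk f (cokernel.π f) (cokernel.condition _)).ShortExact :=
    { exact := ShortComplex.exact_cokernel f }
  have h₃ : ∀ i, IsZero ((cokernel f).homology i) := fun i => (hf i).isZero_homology
  refine ⟨fun i => ?_⟩
  rw [quasiIsoAt_iff_isIso_homologyMap]
  haveI : Mono (HomologicalComplex.homologyMap f i) :=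
    (hS.homology_exact₁ (i - 1) i (by simp)).mono_g ((h₃ _).eq_of_src _ _)
  haveI : Epi (HomologicalComplex.homologyMap f i) :=
    (hS.homology_exact₂ i).epi_f ((h₃ _).eq_of_tgt _ _)
  exact isIso_of_mono_of_epi _

end General

variable {𝔛 : FSch.Sys.{u}} (h : 𝔛.IsLocNoethFormal)

/-- The inclusion of the torsion subcomplex. -/
def gammaCx {𝔛 : FSch.Sys.{u}} {hF : 𝔛.IsFormal} (I : CochainComplex (FSch.ModF 𝔛 hF) ℤ) :
    ((FTors.gammaT 𝔛 hF).mapHomologicalComplex (ComplexShape.up ℤ)).obj I ⟶ I where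
  f i := (FTors.gammaTι 𝔛 hF).app (I.X i)
  comm' i j _ := ((FTors.gammaTι 𝔛 hF).naturality (I.d i j)).symm

theorem mono_gammaCx (I : CochainComplex (FSch.ModF 𝔛 h.1) ℤ) : Mono (gammaCx I) := by
  exact HomologicalComplex.mono_of_mono_f _ fun i => inferInstanceAs (Mono ((FTors.gammaTι 𝔛 h.1).app (I.X i)))

theorem torsAt_iff_exists_gamma {M : FSch.ModF 𝔛 h.1} {x : 𝔛.X 0} (z : ModSite.stalkAb (pt x) M) :
    TorsAt h z ↔ ∃ a, fx ((FTors.gammaTι 𝔛 h.1).app M) x a = z := by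
  constructor
  · intro hz
    obtain ⟨V, hV, s, rfl⟩ := RngSp.exists_gm z
    obtain ⟨W, hW, hWV, k, hxW, hk⟩ := exists_nbhd_kills hV hz
    have ht : FTors.IsTorsSect (FTors.openIdealFam 𝔛 h.1) M (res M hWV s) :=
      FTors.IsTorsSect.of_killedBy (killedBy_of_affine h hW _ fun y hy => by
        rw [RngSp.gm_res]; exact (hk y hy).mono k.le_succ)
    refine ⟨gm ((FTors.gammaT 𝔛 h.1).obj M) hxW ⟨res M hWV s, ht⟩, ?_⟩
    rw [fx_gm]
    exact RngSp.gm_res hWV hxW s
  · rintro ⟨a, rfl⟩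
    refine (torsAt_of_isTorsF h ?_ a).map _
    intro U s
    exact (FTors.IsTorsSect.iff_exists s).2 ((FTors.IsTorsSect.iff_exists s.1).1 s.2 |>.imp fun S hS =>
      ⟨hS.1, fun V g hg => (hS.2 g hg).imp fun n hn W g' a ha => Subtype.ext (hn g' a ha)⟩)

theorem torsAt_iff_TT {M : FSch.ModF 𝔛 h.1} {W : (𝔛.X 0).Opens} (hW : IsAffineOpen W) {x : 𝔛.X 0} (hx : x ∈ W)
    {n : ℕ} (g : Fin n → Ox h W) (hg : Submodule.span (Ox h W) (Set.range g) = J h W)
    (z : ModSite.stalkAb (pt x) M) :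
    TorsAt h z ↔
      letI : Module (Ox h W) (ModSite.stalkAb (pt x) M) := Module.compHom _ (gH (𝔛.Osh h.1) hx)
      TT (fun i => if hi : i < n then g ⟨i, hi⟩ else 0) n z := by
  letI : Module (Ox h W) (ModSite.stalkAb (pt x) M) := Module.compHom _ (gH (𝔛.Osh h.1) hx)
  constructor
  · intro hz i hi
    obtain ⟨k, hk⟩ := hz.exists_kills hW hx
    refine ⟨k, hk _ (Ideal.pow_mem_pow ?_ k)⟩
    simp only [dif_pos hi]
    exact hg ▸ Submodule.subset_span ⟨⟨i, hi⟩, rfl⟩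
  · intro hz
    choose e he using hz
    haveI := isNoetherianRing_Ox h hW
    let 𝔞 : Ideal (Ox h W) := Ideal.span (Set.range fun i : Fin n => g i ^ e i i.2)
    have hrad : J h W ≤ 𝔞.radical := by
      rw [← hg]
      refine Submodule.span_le.2 ?_
      rintro _ ⟨i, rfl⟩
      exact ⟨e i i.2, Ideal.subset_span ⟨i, rfl⟩⟩
    obtain ⟨k, hk⟩ := Ideal.exists_pow_le_of_le_radical_of_fg hrad (IsNoetherian.noetherian _)
    refine ⟨W, hW, hx, k, fun a ha => ?_⟩
    refine smul_eq_zero_of_mem_span (A := Ox h W) (M := ModSite.stalkAb (pt x) M) (fun b hb => ?_) (hk ha)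
    obtain ⟨i, rfl⟩ := hb
    have := he i i.2
    simp only [dif_pos i.2] at this
    exact this

theorem exists_pow_eq_boundary (I : CochainComplex (FSch.ModF 𝔛 h.1) ℤ)
    (hH : ∀ i, FTors.IsTorsF 𝔛 h.1 (I.homology i)) {i j l : ℤ} (hij : i + 1 = j) (hjl : j + 1 = l)
    {W : (𝔛.X 0).Opens} (hW : IsAffineOpen W) {x : 𝔛.X 0} (hx : x ∈ W) (a : Ox h W) (ha : a ∈ J h W)
    (z : ModSite.stalkAb (pt x) (I.X j)) (hz : fx (I.d j l) x z = 0) :
    ∃ (e : ℕ) (v : ModSite.stalkAb (pt x) (I.X i)), gH (𝔛.Osh h.1) hx (a ^ e) • z = fx (I.d i j) x v := by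
  obtain ⟨b, rfl⟩ := exists_fx_kernel (I.d j l) x z hz
  let L : kernel (I.d j l) ⟶ I.cycles j := I.liftCycles (kernel.ι _) l (by simp [← hjl]) (kernel.condition _)
  obtain ⟨k, hk⟩ := (torsAt_of_isTorsF h (hH j) (fx (L ≫ I.homologyπ j) x b)).exists_kills hW hx
  refine ⟨k, ?_⟩
  have h1 := hk (a ^ k) (Ideal.pow_mem_pow ha k)
  rw [← fx_smul, ← fx_comp] at h1
  have hex : (ShortComplex.mk (I.toCycles i j) (I.homologyπ j) (I.toCycles_comp_homologyπ i j)).Exact :=
    ShortComplex.exact_of_g_is_cokernel _ (I.homologyIsCokernel i j (by simp [← hij]))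
  obtain ⟨v, hv⟩ := exists_fx_of_exact hex x _ h1
  refine ⟨v, ?_⟩
  have h2 := congrArg (fx (I.iCycles j) x) hv
  rw [fx_comp, I.toCycles_i, fx_comp] at h2
  rw [h2, HomologicalComplex.liftCycles_i, fx_smul]

/-- The family defined by finitely many functions. -/
abbrev famG {R : Type*} [Zero R] {n : ℕ} (g : Fin n → R) : ℕ → R := fun i => if hi : i < n then g ⟨i, hi⟩ else 0

/-- The germs of the complex are divisible up to torsion. -/
def DivCx (I : CochainComplex (FSch.ModF 𝔛 h.1) ℤ) : Prop :=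
  ∀ x : 𝔛.X 0, ∃ (W : (𝔛.X 0).Opens) (_ : IsAffineOpen W) (hx : x ∈ W) (n : ℕ) (g : Fin n → Ox h W),
    Submodule.span (Ox h W) (Set.range g) = J h W ∧ ∀ i,
      letI : Module (Ox h W) (ModSite.stalkAb (pt x) (I.X i)) := Module.compHom _ (gH (𝔛.Osh h.1) hx)
      DivG (famG g) (ModSite.stalkAb (pt x) (I.X i))

theorem divCx_of_injective (I : CochainComplex (FSch.ModF 𝔛 h.1) ℤ) (hI : ∀ i, Injective (I.X i)) :
    DivCx h I := fun x => by
  obtain ⟨W, hW, hx, -⟩ := exists_affine (W := (⊤ : (𝔛.X 0).Opens)) (x := x) trivial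
  haveI := isNoetherianRing_Ox h hW
  obtain ⟨n, g, hg⟩ := Submodule.fg_iff_exists_fin_generating_family.1 (IsNoetherian.noetherian (J h W))
  refine ⟨W, hW, hx, n, g, hg, fun i => ?_⟩
  letI : Module (Ox h W) (ModSite.stalkAb (pt x) (I.X i)) := Module.compHom _ (gH (𝔛.Osh h.1) hx)
  refine FinExt.divG fun n a m hm => ?_
  haveI := hI i
  haveI : IsNoetherianRing (Fn (𝔛.Osh h.1) W) := isNoetherianRing_Ox h hW
  exact exists_smul_eq_of_injective (I.X i) hx ((good h).flat W hW) a m hm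

theorem exists_sub_boundary_of_divCx (I : CochainComplex (FSch.ModF 𝔛 h.1) ℤ) (hI : DivCx h I)
    (hH : ∀ i, FTors.IsTorsF 𝔛 h.1 (I.homology i)) {i j l : ℤ} (hij : i + 1 = j) (hjl : j + 1 = l)
    {x : 𝔛.X 0} (w : ModSite.stalkAb (pt x) (I.X j)) (hw : TorsAt h (fx (I.d j l) x w)) :
    ∃ v, TorsAt h (w - fx (I.d i j) x v) := by
  obtain ⟨W, hW, hx, n, g, hg, hX⟩ := hI x
  letI : ∀ (M : FSch.ModF 𝔛 h.1), Module (Ox h W) (ModSite.stalkAb (pt x) M) := fun M =>
    Module.compHom _ (gH (𝔛.Osh h.1) hx)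
  let d : ∀ i j, ModSite.stalkAb (pt x) (I.X i) →ₗ[Ox h W] ModSite.stalkAb (pt x) (I.X j) := fun i j =>
    { toFun := fx (I.d i j) x
      map_add' := map_add _
      map_smul' := fun a z => fx_smul (I.d i j) hx a z }
  have hd : ∀ i j l z, d j l (d i j z) = 0 := fun i j l z =>
    show fx (I.d j l) x (fx (I.d i j) x z) = 0 by rw [fx_comp, I.d_comp_d, fx_zero]
  obtain ⟨v, hv⟩ := exists_sub_boundary_TT (g := famG g) d hX hd n
    (fun i j l hij hjl z hz r hr => by
      have hGr : famG g r ∈ J h W := by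
        simp only [famG, dif_pos hr]
        exact hg ▸ Submodule.subset_span ⟨⟨r, hr⟩, rfl⟩
      exact exists_pow_eq_boundary h I hH hij hjl hW hx (famG g r) hGr z hz)
    i j l hij hjl w ((torsAt_iff_TT h hW hx g hg _).1 hw)
  exact ⟨v, (torsAt_iff_TT h hW hx g hg _).2 hv⟩

theorem quasiIso_gammaCx_of_divCx (I : CochainComplex (FSch.ModF 𝔛 h.1) ℤ) (hI : DivCx h I)
    (hH : ∀ i, FTors.IsTorsF 𝔛 h.1 (I.homology i)) : QuasiIso (gammaCx I) := by
  haveI := mono_gammaCx h I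
  refine quasiIso_of_mono _ fun j => ?_
  rw [HomologicalComplex.exactAt_iff' _ (j - 1) j (j + 1) (by simp) (by simp)]
  let π := cokernel.π (gammaCx I)
  haveI : ∀ m, Epi (π.f m) := fun m => inferInstanceAs (Epi ((HomologicalComplex.eval _ _ m).map π))
  have hex : ∀ m, (ShortComplex.mk ((gammaCx I).f m) (π.f m) (by
      rw [← HomologicalComplex.comp_f, cokernel.condition]; rfl)).Exact := fun m =>
    (ShortComplex.exact_cokernel (gammaCx I)).map (HomologicalComplex.eval _ _ m)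
  refine exact_of_fx fun x z hz => ?_
  obtain ⟨w, rfl⟩ := fx_surjective_of_epi (π.f j) x z
  change fx ((cokernel (gammaCx I)).d j (j + 1)) x (fx (π.f j) x w) = 0 at hz
  rw [fx_comp, π.comm, ← fx_comp] at hz
  have hw : TorsAt h (fx (I.d j (j + 1)) x w) :=
    (torsAt_iff_exists_gamma h _).2 (exists_fx_of_exact (hex (j + 1)) x _ hz)
  obtain ⟨v, hv⟩ := exists_sub_boundary_of_divCx h I hI hH (i := j - 1) (by omega) rfl w hw
  obtain ⟨a, ha⟩ := (torsAt_iff_exists_gamma h _).1 hv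
  refine ⟨fx (π.f (j - 1)) x v, ?_⟩
  change fx ((cokernel (gammaCx I)).d (j - 1) j) x (fx (π.f (j - 1)) x v) = fx (π.f j) x w
  rw [fx_comp, π.comm, ← fx_comp, eq_comm, ← sub_eq_zero, ← map_sub, ← ha]
  refine (fx_comp ((gammaCx I).f j) (π.f j) x a).trans ?_
  rw [show (gammaCx I).f j ≫ π.f j = 0 by rw [← HomologicalComplex.comp_f, cokernel.condition]; rfl, fx_zero]

/-- The torsion subcomplex of a complex of injectives with torsion cohomology is quasi-isomorphic to it. -/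
theorem quasiIso_gammaCx (I : CochainComplex (FSch.ModF 𝔛 h.1) ℤ) (hI : ∀ i, Injective (I.X i))
    (hH : ∀ i, FTors.IsTorsF 𝔛 h.1 (I.homology i)) : QuasiIso (gammaCx I) :=
  quasiIso_gammaCx_of_divCx h I (divCx_of_injective h I hI) hH

end Groth.Agent.FTorsL
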