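import Groth.Agent.KFlatLib.Scheme.ExtZero
import Groth.Agent.KFlatLib.PsiC
import Mathlib.CategoryTheory.Localization.Adjunction

/-!
# Derived adjunctions of exact functors
-/

set_option autoImplicit false
set_option backward.isDefEq.respectTransparency false
set_option backward.isDefEq.respectTransparency.types false
set_option linter.style.haveILetI false

universe w w' v v' u u'

open CategoryTheory CategoryTheory.Limits DerivedCategory

noncomputable section

namespace Groth.Agent.FTorsL

variable {A : Type u} [Category.{v} A] [Abelian A] [HasDerivedCategory.{w} A] {B : Type u'} [Category.{v'} B]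
  [Abelian B] [HasDerivedCategory.{w'} B]

/-- A natural transformation of exact endofunctors is a quasi-isomorphism on a complex where it is an
isomorphism on cohomology. -/
theorem quasiIso_app_of_homology {F G : A ⥤ A} [F.Additive] [G.Additive] [PreservesFiniteLimits F]
    [PreservesFiniteColimits F] [PreservesFiniteLimits G] [PreservesFiniteColimits G] (τ : F ⟶ G)
    (K : CochainComplex A ℤ) (hK : ∀ i, IsIso (τ.app (K.homology i))) :
    QuasiIso ((NatTrans.mapHomologicalComplex τ (ComplexShape.up ℤ)).app K) := by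
  refine ⟨fun i => ?_⟩
  rw [quasiIsoAt_iff_isIso_homologyMap]
  have e := NatTrans.app_homology τ (K.sc i)
  haveI : IsIso (τ.app (K.sc i).homology) := hK i
  haveI : IsIso (((K.sc i).mapHomologyIso F).inv ≫ ShortComplex.homologyMap ((K.sc i).mapNatTrans τ) ≫
      ((K.sc i).mapHomologyIso G).hom) := by rw [← e]; infer_instance
  haveI := IsIso.of_isIso_comp_left ((K.sc i).mapHomologyIso F).inv
    (ShortComplex.homologyMap ((K.sc i).mapNatTrans τ) ≫ ((K.sc i).mapHomologyIso G).hom)
  exact IsIso.of_isIso_comp_right (ShortComplex.homologyMap ((K.sc i).mapNatTrans τ))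
    ((K.sc i).mapHomologyIso G).hom

variable {F : A ⥤ B} {G : B ⥤ A} [F.Additive] [G.Additive] [PreservesFiniteLimits F] [PreservesFiniteColimits F]
  [PreservesFiniteLimits G] [PreservesFiniteColimits G]

/-- The adjunction of the derived functors of two exact adjoint functors. -/
def exactDerAdj (adj : F ⊣ G) : F.mapDerivedCategory ⊣ G.mapDerivedCategory :=
  letI : CatCommSq (F.mapHomologicalComplex (ComplexShape.up ℤ)) Q Q F.mapDerivedCategory :=
    ⟨F.mapDerivedCategoryFactors.symm⟩
  letI : CatCommSq (G.mapHomologicalComplex (ComplexShape.up ℤ)) Q Q G.mapDerivedCategory :=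
    ⟨G.mapDerivedCategoryFactors.symm⟩
  (KFlatLib.adjCx adj (ComplexShape.up ℤ)).localization Q (HomologicalComplex.quasiIso A (ComplexShape.up ℤ))
    Q (HomologicalComplex.quasiIso B (ComplexShape.up ℤ)) F.mapDerivedCategory G.mapDerivedCategory

theorem isIso_derUnit (adj : F ⊣ G) (E : DerivedCategory A)
    (hE : ∀ i, IsIso (adj.unit.app ((homologyFunctor A i).obj E))) : IsIso ((exactDerAdj adj).unit.app E) := by
  haveI := Localization.essSurj (Q (C := A)) (HomologicalComplex.quasiIso A (ComplexShape.up ℤ))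
  let K := Q.objPreimage E
  rw [← NatTrans.isIso_app_iff_of_iso (exactDerAdj adj).unit (Q.objObjPreimageIso E)]
  haveI : QuasiIso ((KFlatLib.adjCx adj (ComplexShape.up ℤ)).unit.app K) := by
    have hu : ∀ i, IsIso (adj.unit.app (K.homology i)) := fun i =>
      (NatTrans.isIso_app_iff_of_iso adj.unit (((homologyFunctor A i).mapIso (Q.objObjPreimageIso E)).symm ≪≫
        (homologyFunctorFactors A i).app K)).1 (hE i)
    have hq := quasiIso_app_of_homology adj.unit K hu
    refine ⟨fun i => ?_⟩
    rw [quasiIsoAt_iff_isIso_homologyMap]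
    exact (quasiIsoAt_iff_isIso_homologyMap _ i).1 (hq.quasiIsoAt i)
  haveI : IsIso (Q.map ((KFlatLib.adjCx adj (ComplexShape.up ℤ)).unit.app K)) := inferInstance
  unfold exactDerAdj
  rw [Adjunction.localization_unit_app]
  infer_instance

theorem isIso_derCounit (adj : F ⊣ G) (E : DerivedCategory B)
    (hE : ∀ i, IsIso (adj.counit.app ((homologyFunctor B i).obj E))) : IsIso ((exactDerAdj adj).counit.app E) := by
  haveI := Localization.essSurj (Q (C := B)) (HomologicalComplex.quasiIso B (ComplexShape.up ℤ))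
  let K := Q.objPreimage E
  rw [← NatTrans.isIso_app_iff_of_iso (exactDerAdj adj).counit (Q.objObjPreimageIso E)]
  haveI : QuasiIso ((KFlatLib.adjCx adj (ComplexShape.up ℤ)).counit.app K) := by
    have hu : ∀ i, IsIso (adj.counit.app (K.homology i)) := fun i =>
      (NatTrans.isIso_app_iff_of_iso adj.counit (((homologyFunctor B i).mapIso (Q.objObjPreimageIso E)).symm ≪≫
        (homologyFunctorFactors B i).app K)).1 (hE i)
    have hq := quasiIso_app_of_homology adj.counit K hu
    refine ⟨fun i => ?_⟩
    rw [quasiIsoAt_iff_isIso_homologyMap]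
    exact (quasiIsoAt_iff_isIso_homologyMap _ i).1 (hq.quasiIsoAt i)
  haveI : IsIso (Q.map ((KFlatLib.adjCx adj (ComplexShape.up ℤ)).counit.app K)) := inferInstance
  unfold exactDerAdj
  rw [Adjunction.localization_counit_app]
  infer_instance

/-- The left adjoint is bijective on maps into an object with invertible unit. -/
theorem bijective_map_left {C D : Type*} [Category C] [Category D] {L : C ⥤ D} {R : D ⥤ C} (a : L ⊣ R) (E E' : C)
    (hE : IsIso (a.unit.app E')) : Function.Bijective (fun φ : E ⟶ E' => L.map φ) := by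
  have hb : Function.Bijective (fun φ : E ⟶ E' => φ ≫ a.unit.app E') :=
    ⟨fun φ φ' e => (cancel_mono _).1 e, fun ψ => ⟨ψ ≫ inv (a.unit.app E'), by simp⟩⟩
  convert (a.homEquiv E (L.obj E')).symm.bijective.comp hb using 1
  funext φ
  change L.map φ = (a.homEquiv E (L.obj E')).symm (φ ≫ a.unit.app E')
  rw [Equiv.eq_symm_apply, a.homEquiv_unit]
  exact (a.unit.naturality φ).symm

/-- The right adjoint is bijective on maps out of an object with invertible counit. -/
theorem bijective_map_right {C D : Type*} [Category C] [Category D] {L : C ⥤ D} {R : D ⥤ C} (a : L ⊣ R) (E E' : D)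
    (hE : IsIso (a.counit.app E)) : Function.Bijective (fun φ : E ⟶ E' => R.map φ) := by
  have hb : Function.Bijective (fun φ : E ⟶ E' => a.counit.app E ≫ φ) :=
    ⟨fun φ φ' e => (cancel_epi _).1 e, fun ψ => ⟨inv (a.counit.app E) ≫ ψ, by simp⟩⟩
  convert (a.homEquiv (R.obj E) E').bijective.comp hb using 1
  funext φ
  change R.map φ = (a.homEquiv (R.obj E) E') (a.counit.app E ≫ φ)
  rw [← Equiv.symm_apply_eq, a.homEquiv_counit]
  exact a.counit.naturality φ

/-- A morphism with the universal property of a coreflection transfers along an adjunction. -/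
theorem comp_map_bijective {C D : Type*} [Category C] [Category D] {L : C ⥤ D} {R : D ⥤ C} (a : L ⊣ R) (Y : C)
    {P Q : D} (ε : P ⟶ Q) (hb : Function.Bijective (fun φ : L.obj Y ⟶ P => φ ≫ ε)) :
    Function.Bijective (fun φ : Y ⟶ R.obj P => φ ≫ R.map ε) := by
  convert (a.homEquiv Y Q).bijective.comp (hb.comp (a.homEquiv Y P).symm.bijective) using 1
  funext φ
  change φ ≫ R.map ε = a.homEquiv Y Q ((a.homEquiv Y P).symm φ ≫ ε)
  rw [a.homEquiv_naturality_right, Equiv.apply_symm_apply]

/-- Two universal morphisms to the same object differ by a unique isomorphism. -/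
theorem existsUnique_iso {C : Type*} [Category C] (P : ObjectProperty C) {A B T : C} (α : A ⟶ T) (β : B ⟶ T)
    (hA : P A) (hB : P B) (hα : ∀ Y, P Y → Function.Bijective (fun φ : Y ⟶ A => φ ≫ α))
    (hβ : ∀ Y, P Y → Function.Bijective (fun φ : Y ⟶ B => φ ≫ β)) : ∃! e : A ≅ B, e.hom ≫ β = α := by
  obtain ⟨f, hf⟩ := (hβ A hA).2 α
  obtain ⟨g, hg⟩ := (hα B hB).2 β
  dsimp only at hf hg
  have h1 : f ≫ g = 𝟙 A := (hα A hA).1 (by
    change (f ≫ g) ≫ α = 𝟙 A ≫ α
    rw [Category.assoc, hg, hf, Category.id_comp])
  have h2 : g ≫ f = 𝟙 B := (hβ B hB).1 (by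
    change (g ≫ f) ≫ β = 𝟙 B ≫ β
    rw [Category.assoc, hf, hg, Category.id_comp])
  exact ⟨⟨f, g, h1, h2⟩, hf, fun e he => Iso.ext ((hβ A hA).1 (he.trans hf.symm))⟩

end Groth.Agent.FTorsL
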