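import Groth.Agent.FTorsL.QC
import Groth.Agent.H9FCoh.IndExt
import Mathlib.CategoryTheory.Limits.Constructions.Filtered

/-!
# Quasi-coherent torsion modules: colimits and exact sequences
-/

set_option autoImplicit false
set_option backward.isDefEq.respectTransparency false
set_option backward.isDefEq.respectTransparency.types false
set_option linter.style.haveILetI false

universe u

open CategoryTheory CategoryTheory.Limits AlgebraicGeometry TopologicalSpace Opposite
open Groth.Agent.H9FCoh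

noncomputable section

namespace Groth.Agent.FTorsL

section General

variable {C : Type*} [Category.{u} C] [Abelian C] [HasColimitsOfSize.{u, u} C] (P : ObjectProperty C)
  [WSerre.IsWeakSerre P]

theorem prop_finite_coproduct {ι : Type u} [Finite ι] (f : ι → C) (hf : ∀ i, P (f i)) : P (∐ f) := by
  haveI := Abelian.hasFiniteBiproducts (C := C)
  exact   P.prop_of_iso ((biproduct.isoProduct f).symm ≪≫ biproduct.isoCoproduct f)
    (P.prop_limit (Discrete.functor f) fun j => hf j.as)

theorem prop_coproduct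
    (hP : ∀ (J : Type u) [SmallCategory J] [IsFiltered J], P.IsClosedUnderColimitsOfShape J)
    {α : Type u} (f : α → C) (hf : ∀ a, P (f a)) : P (∐ f) := by
  haveI := hP (Finset (Discrete α))
  let e : colimit (CoproductsFromFiniteFiltered.liftToFinsetObj (Discrete.functor f)) ≅ ∐ f :=
    (colimit.isoColimitCocone (CoproductsFromFiniteFiltered.liftToFinsetColimitCocone (Discrete.functor f))).symm
  exact P.prop_of_iso e (P.prop_colimit _ fun s => prop_finite_coproduct P _ fun i => hf _)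

theorem prop_colimit_of_filtered
    (hP : ∀ (J : Type u) [SmallCategory J] [IsFiltered J], P.IsClosedUnderColimitsOfShape J)
    {J : Type u} [SmallCategory J] {D : J ⥤ C} {c : Cocone D} (hc : IsColimit c) (hD : ∀ j, P (D.obj j)) :
    P c.pt := by
  let A : (Σ p : J × J, (p.1 ⟶ p.2)) → C := fun q => D.obj q.1.1
  let φ : ∐ A ⟶ ∐ D.obj :=
    Sigma.desc fun q => D.map q.2 ≫ Sigma.ι D.obj q.1.2 - Sigma.ι D.obj q.1.1
  have hφ : ∀ {i j : J} (g : i ⟶ j), D.map g ≫ Sigma.ι D.obj j ≫ cokernel.π φ = Sigma.ι D.obj i ≫ cokernel.π φ :=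
    fun {i j} g => by
      have h1 := congrArg (Sigma.ι A ⟨(i, j), g⟩ ≫ ·) (cokernel.condition φ)
      simp only [φ, comp_zero, colimit.ι_desc_assoc, Cofan.mk_ι_app, Preadditive.sub_comp, Category.assoc] at h1
      exact sub_eq_zero.1 h1
  let c' : Cocone D :=
    { pt := cokernel φ
      ι := { app := fun j => Sigma.ι D.obj j ≫ cokernel.π φ
             naturality := fun i j g => (hφ g).trans (Category.comp_id _).symm } }
  have hd : φ ≫ Sigma.desc c.ι.app = 0 := Sigma.hom_ext _ _ fun q => by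
    simp [φ, Preadditive.sub_comp]
  let hc' : IsColimit c' :=
    { desc := fun s => cokernel.desc φ (Sigma.desc s.ι.app) (Sigma.hom_ext _ _ fun q => by
        simp [φ, Preadditive.sub_comp])
      fac := fun s j => by simp [c']
      uniq := fun s m hm => coequalizer.hom_ext (Sigma.hom_ext _ _ fun j => by
        change Sigma.ι D.obj j ≫ cokernel.π φ ≫ m = Sigma.ι D.obj j ≫ cokernel.π φ ≫ _
        rw [cokernel.π_desc, Sigma.ι_desc, ← Category.assoc]
        exact hm j) }
  refine P.prop_of_iso (hc'.coconePointUniqueUpToIso hc) (P.prop_cokernel φ ?_ ?_)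
  · exact prop_coproduct P hP _ fun q => hD _
  · exact prop_coproduct P hP _ hD

end General

variable {𝔛 : FSch.Sys.{u}} (h : 𝔛.IsLocNoethFormal)

theorem isQCT_iff (M : FSch.ModF 𝔛 h.1) :
    FTors.IsQCT 𝔛 h.1 M ↔ FTors.IsTorsF 𝔛 h.1 M ∧ lqP h M :=
  ⟨fun hM => ⟨hM.1, lqP_of_qct h hM.1 hM.2⟩, fun hM => ⟨hM.1, isQC_of_lqP h M hM.2⟩⟩

theorem lqP_isClosedUnderFilteredColimits (J : Type u) [SmallCategory J] [IsFiltered J] :
    (lqP h).IsClosedUnderColimitsOfShape J :=
  ObjectProperty.IsClosedUnderColimitsOfShape.mk' (by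
    rintro _ ⟨F, hF⟩ V hV
    choose ι t N hm using fun j => hF j V hV
    exact ⟨_, _, _, isModel_colimit t N hm (good h) (colimit.isColimit F) hV⟩)

theorem isQCT_colimit {J : Type u} [SmallCategory J] {D : J ⥤ FSch.ModF 𝔛 h.1} {c : Cocone D} (hc : IsColimit c)
    (hD : ∀ j, FTors.IsQCT 𝔛 h.1 (D.obj j)) : FTors.IsQCT 𝔛 h.1 c.pt :=
  (isQCT_iff h _).2 ⟨isTorsF_colimit h hc fun j => (hD j).1,
    prop_colimit_of_filtered (lqP h) (fun J' _ _ => lqP_isClosedUnderFilteredColimits h J') hc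
      fun j => ((isQCT_iff h _).1 (hD j)).2⟩

theorem isQCT_of_exact_five (S : ComposableArrows (FSch.ModF 𝔛 h.1) 4) (hS : S.Exact)
    (h₀ : FTors.IsQCT 𝔛 h.1 (S.obj 0)) (h₁ : FTors.IsQCT 𝔛 h.1 (S.obj 1))
    (h₃ : FTors.IsQCT 𝔛 h.1 (S.obj 3)) (h₄ : FTors.IsQCT 𝔛 h.1 (S.obj 4)) :
    FTors.IsQCT 𝔛 h.1 (S.obj 2) := by
  refine ⟨?_, isQC_of_exact_five h S hS h₀.2 h₁.2 h₃.2 h₄.2⟩
  have e₂ := hS.exact 1
  let f₁ := S.map' 1 2
  let g₁ := S.map' 2 3
  have hsE : (ShortComplex.mk (Abelian.image.ι f₁) (cokernel.π (Abelian.image.ι f₁)) (cokernel.condition _)).ShortExact :=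
    .mk' (ShortComplex.exact_of_g_is_cokernel _ (cokernelIsCokernel _)) inferInstance inferInstance
  refine isTorsF_extension h hsE ?_ ?_
  · exact isTorsF_of_epi h (Abelian.factorThruImage f₁) h₁.1
  · have hz : Abelian.image.ι f₁ ≫ g₁ = 0 := by
      rw [← cancel_epi (Abelian.factorThruImage f₁), ← Category.assoc, Abelian.image.fac, comp_zero]
      exact hS.toIsComplex.zero 1
    have hE : (ShortComplex.mk (Abelian.image.ι f₁) g₁ hz).Exact := by
      let φ : S.sc hS.toIsComplex 1 ⟶ ShortComplex.mk (Abelian.image.ι f₁) g₁ hz :=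
        { τ₁ := Abelian.factorThruImage f₁, τ₂ := 𝟙 _, τ₃ := 𝟙 _
          comm₁₂ := (Abelian.image.fac f₁).trans (Category.comp_id _).symm
          comm₂₃ := (Category.id_comp _).trans (Category.comp_id _).symm }
      exact (ShortComplex.exact_iff_of_epi_of_isIso_of_mono φ).1 e₂
    haveI : Mono (cokernel.desc (Abelian.image.ι f₁) g₁ hz) := hE.mono_cokernelDesc
    exact isTorsF_of_mono h (cokernel.desc (Abelian.image.ι f₁) g₁ hz) h₃.1

end Groth.Agent.FTorsL
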