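import Groth.Agent.FTorsL.Ext

/-!
# The coreflection onto quasi-coherent torsion modules
-/

set_option autoImplicit false
set_option backward.isDefEq.respectTransparency false
set_option backward.isDefEq.respectTransparency.types false
set_option linter.style.haveILetI false

universe u

open CategoryTheory CategoryTheory.Limits AlgebraicGeometry TopologicalSpace Opposite
open Groth.Agent.H9FCoh Groth.Agent.ClosedRinged
open Groth.Agent.RngSp (pt gm mp fns)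

noncomputable section

namespace Groth.Agent.FTorsL

variable {𝔛 : FSch.Sys.{u}} (h : 𝔛.IsLocNoethFormal)

theorem ind_of_isQCT {M : FSch.ModF 𝔛 h.1} (hM : FTors.IsQCT 𝔛 h.1 M) :
    (ObjectProperty.ind.{u} fun 𝔊 : FSch.ModF 𝔛 h.1 => FSch.IsCohF 𝔛 h.1 𝔊) M :=
  ind_of_lqP_tors h ((isQCT_iff h M).1 hM).2 hM.1

theorem isQC_of_ind {M : FSch.ModF 𝔛 h.1} (hM : ObjectProperty.ind.{u} (fpP (𝔛.Osh h.1)) M) : IsQC M :=
  isQC_ind h M hM

theorem isIso_gammaTι_of_tors {A : FSch.ModF 𝔛 h.1} (hA : FTors.IsTorsF 𝔛 h.1 A) :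
    IsIso ((FTors.gammaTι 𝔛 h.1).app A) :=
  isIso_of_bijective_mp _ fun W => ⟨fun s t e => Subtype.ext e, fun s => ⟨⟨s, hA W s⟩, rfl⟩⟩

theorem exists_coreflection_qct (M : FSch.ModF 𝔛 h.1) :
    ∃ (Q : FSch.ModF 𝔛 h.1) (ε : Q ⟶ M), FTors.IsQCT 𝔛 h.1 Q ∧
      ∀ A : FSch.ModF 𝔛 h.1, FTors.IsQCT 𝔛 h.1 A → ∀ f : A ⟶ M, ∃! g : A ⟶ Q, g ≫ ε = f := by
  obtain ⟨Q, ε, hQ, huniv⟩ := exists_coreflection (good h) (fun A hA => isQC_ind h A hA) M
  let i := (FTors.gammaTι 𝔛 h.1).app Q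
  refine ⟨(FTors.gammaT 𝔛 h.1).obj Q, i ≫ ε, isQCT_gammaT_of_isQC h Q (isQC_ind h Q hQ), fun A hA f => ?_⟩
  obtain ⟨g, hg, hgu⟩ := huniv A (ind_of_isQCT h hA) f
  haveI := isIso_gammaTι_of_tors h hA.1
  let g' : A ⟶ (FTors.gammaT 𝔛 h.1).obj Q := inv ((FTors.gammaTι 𝔛 h.1).app A) ≫ (FTors.gammaT 𝔛 h.1).map g
  have hg' : g' ≫ i = g := by
    simp only [g', i, Category.assoc]
    rw [IsIso.inv_comp_eq]
    exact (FTors.gammaTι 𝔛 h.1).naturality g
  refine ⟨g', ?_, fun k hk => ?_⟩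
  · change g' ≫ i ≫ ε = f
    rw [← Category.assoc, hg', hg]
  · haveI : Mono i := mono_gammaTι h.1 Q
    rw [← cancel_mono i, hg']
    exact hgu _ ((Category.assoc _ _ _).trans hk)

theorem isLeftAdjoint_ι_qct : (FTors.IsQCT 𝔛 h.1).ι.IsLeftAdjoint := by
  choose Q ε hQ huniv using exists_coreflection_qct h
  refine ⟨_, ⟨Adjunction.adjunctionOfEquivRight
    (F := (FTors.IsQCT 𝔛 h.1).ι) (G_obj := fun M => ⟨Q M, hQ M⟩)
    (fun A M =>
      { toFun := fun f => ObjectProperty.homMk (huniv M A.obj A.property f).exists.choose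
        invFun := fun g => g.hom ≫ ε M
        left_inv := fun f => (huniv M A.obj A.property f).exists.choose_spec
        right_inv := fun g => ObjectProperty.hom_ext _ ((huniv M A.obj A.property (g.hom ≫ ε M)).unique
          (huniv M A.obj A.property (g.hom ≫ ε M)).exists.choose_spec rfl) }) ?_⟩⟩
  intro A' A M f g
  refine ObjectProperty.hom_ext _ ((huniv M A'.obj A'.property _).unique
    (huniv M A'.obj A'.property _).exists.choose_spec ?_)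
  simp only [Equiv.coe_fn_mk, ObjectProperty.FullSubcategory.comp_hom, ObjectProperty.homMk_hom, Category.assoc]
  rw [(huniv M A.obj A.property g).exists.choose_spec]
  rfl

theorem gammaT_clauses :
    (∀ (M : FSch.ModF 𝔛 h.1) [SheafOfModules.IsQuasicoherent.{u} M],
      FTors.IsQCT 𝔛 h.1 ((FTors.gammaT 𝔛 h.1).obj M) ∧
        (ObjectProperty.ind.{u} fun 𝔊 : FSch.ModF 𝔛 h.1 => FSch.IsCohF 𝔛 h.1 𝔊) ((FTors.gammaT 𝔛 h.1).obj M)) ∧
    ∀ M : FSch.ModF 𝔛 h.1, FTors.IsQCT 𝔛 h.1 M →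
      (ObjectProperty.ind.{u} fun 𝔊 : FSch.ModF 𝔛 h.1 => FSch.IsCohF 𝔛 h.1 𝔊) M :=
  ⟨fun M hM => ⟨isQCT_gammaT_of_isQC h M hM, ind_of_isQCT h (isQCT_gammaT_of_isQC h M hM)⟩, fun _ hM => ind_of_isQCT h hM⟩

end Groth.Agent.FTorsL
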