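import Groth.Agent.H9Misc.GPDerived
import Groth.Agent.TriCat.GrothInst
import Groth.Agent.KFlatLib.PsiC

/-!
# Derived categories of coreflective exact subcategories
-/

set_option autoImplicit false
set_option backward.isDefEq.respectTransparency false
set_option backward.isDefEq.respectTransparency.types false
set_option linter.style.haveILetI false

universe w v u

open CategoryTheory CategoryTheory.Limits DerivedCategory

attribute [local instance] HasDerivedCategory.standard

noncomputable section

namespace Groth.Agent.FTorsL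

variable {A : Type v} [Category.{w} A] [Abelian A] {B : Type (u + 1)} [Category.{u} B] [Abelian B]
  {F : A ⥤ B} {G : B ⥤ A} (adj : F ⊣ G) [F.Additive] [G.Additive]

/-- The counit on complexes. -/
def counitCx (I : CochainComplex B ℤ) :
    (F.mapHomologicalComplex (ComplexShape.up ℤ)).obj ((G.mapHomologicalComplex (ComplexShape.up ℤ)).obj I) ⟶ I where
  f i := adj.counit.app (I.X i)
  comm' i j _ := (adj.counit.naturality (I.d i j)).symm

include adj in
/-- The derived category of a coreflective exact subcategory, when complexes of injectives with cohomology in it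
are resolved by their coreflections. -/
theorem mapDerived_equiv [IsGrothendieckAbelian.{u} B] [PreservesFiniteLimits F] [PreservesFiniteColimits F]
    [F.ReflectsIsomorphisms] (P : ObjectProperty B) [P.IsClosedUnderIsomorphisms] (hP : ∀ a, P (F.obj a))
    (hI : ∀ I : CochainComplex B ℤ, (∀ i, Injective (I.X i)) → (∀ i, P (I.homology i)) →
      QuasiIso (counitCx adj I)) :
    F.mapDerivedCategory.Full ∧ F.mapDerivedCategory.Faithful ∧
      ∀ X : DerivedCategory B,
        F.mapDerivedCategory.essImage X ↔ ∀ i : ℤ, P ((homologyFunctor B i).obj X) := by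
  haveI := H9Misc.GPDerived.qh_isLeftAdjoint B
  let adjQ := Adjunction.ofIsLeftAdjoint (Qh (C := B))
  let D : DerivedCategory A ⥤ DerivedCategory B := F.mapDerivedCategory
  let a := H9Misc.AdjDescend.derivedAdj adj adjQ
  let PH : ObjectProperty (DerivedCategory B) := fun X => ∀ i : ℤ, P ((homologyFunctor B i).obj X)
  haveI : PH.IsClosedUnderIsomorphisms :=
    ⟨fun e hX i => P.prop_of_iso ((homologyFunctor B i).mapIso e) (hX i)⟩
  have hcoh : ∀ K, PH (D.obj K) := fun K i =>
    P.prop_of_iso ((KFlatLib.mapDCHomologyIso F i).app K).symm (hP ((homologyFunctor A i).obj K))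
  have hc : ∀ X, PH X → IsIso (a.counit.app X) := fun X hX => by
    haveI := Localization.essSurj (Q (C := B)) (HomologicalComplex.quasiIso B (ComplexShape.up ℤ))
    obtain ⟨I, f, hIK, hf, -, hinj⟩ := TriCat.exists_kInjective_resolution' (Q.objPreimage X)
    let eX : Qh.obj ((HomotopyCategory.quotient B _).obj I) ≅ X :=
      (quotientCompQhIso B).app I ≪≫
        (@asIso _ _ _ _ (Q.map f) ((isIso_Q_map_iff_quasiIso (φ := f)).2 hf)).symm ≪≫ Q.objObjPreimageIso X
    have hun := TriCat.isIso_unit_of_isKInjective adjQ I
    have hq : QuasiIso (counitCx adj I) := hI I hinj fun i =>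
      P.prop_of_iso ((homologyFunctor B i).mapIso ((quotientCompQhIso B).app I) ≪≫
        (homologyFunctorFactors B i).app I) (PH.prop_of_iso eX.symm hX i)
    let b := H9Misc.SerreDerived.adjHtpy (ComplexShape.up ℤ) adj
    have h1 : IsIso (Qh.map (b.counit.app ((HomotopyCategory.quotient B _).obj I))) := by
      change IsIso (Qh.map ((HomotopyCategory.quotient B _).map (counitCx adj I)))
      exact (NatIso.isIso_map_iff (quotientCompQhIso B) (counitCx adj I)).2
        ((isIso_Q_map_iff_quasiIso (φ := counitCx adj I)).2 hq)
    have h2 : IsIso (Qh.map (b.counit.app (Qh.rightAdjoint.obj X))) := by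
      let e : (HomotopyCategory.quotient B _).obj I ≅ Qh.rightAdjoint.obj X :=
        @asIso _ _ _ _ (adjQ.unit.app _) hun ≪≫ Qh.rightAdjoint.mapIso eX
      exact (NatTrans.isIso_app_iff_of_iso (Functor.whiskerRight b.counit Qh) e).1 h1
    have hq' : IsIso (adjQ.counit.app X) := by
      have h3 : IsIso (adjQ.counit.app (Qh.obj ((HomotopyCategory.quotient B _).obj I))) := by
        have : IsIso (Qh.map (adjQ.unit.app ((HomotopyCategory.quotient B _).obj I)) ≫ adjQ.counit.app _) := by
          erw [adjQ.left_triangle_components]; exact IsIso.id _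
        exact IsIso.of_isIso_comp_left (Qh.map (adjQ.unit.app _)) _
      exact (NatTrans.isIso_app_iff_of_iso adjQ.counit eX).1 h3
    rw [show a = H9Misc.AdjDescend.derivedAdj adj adjQ from rfl, H9Misc.AdjDescend.derivedAdj,
      H9Misc.AdjDescend.descend_counit_app]
    have : IsIso ((b.comp adjQ).counit.app X) := by
      rw [Adjunction.comp_counit_app]
      exact IsIso.comp_isIso' h2 hq'
    exact IsIso.comp_isIso' (Iso.isIso_hom (F.mapDerivedCategoryFactorsh.app _)) this
  have hrefl : ∀ {K L} (f : K ⟶ L), IsIso (D.map f) → IsIso f := fun {K L} f hf => by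
    rw [DerivedCategory.isIso_iff]
    intro n
    have : IsIso (F.map ((homologyFunctor A n).map f)) :=
      (NatIso.isIso_map_iff (KFlatLib.mapDCHomologyIso F n) f).1
        (inferInstanceAs (IsIso ((homologyFunctor B n).map (D.map f))))
    exact isIso_of_reflects_iso _ F
  have hu : IsIso a.unit := by
    have : ∀ K, IsIso (a.unit.app K) := fun K => by
      refine hrefl _ ?_
      have := hc (D.obj K) (hcoh K)
      have : IsIso (D.map (a.unit.app K) ≫ a.counit.app (D.obj K)) := by
        erw [a.left_triangle_components]; exact IsIso.id _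
      exact IsIso.of_isIso_comp_right _ (a.counit.app (D.obj K))
    exact NatIso.isIso_of_isIso_app _
  refine ⟨a.fullyFaithfulLOfIsIsoUnit.full, a.fullyFaithfulLOfIsIsoUnit.faithful, fun X => ⟨?_, fun hX => ?_⟩⟩
  · rintro ⟨K, ⟨e⟩⟩
    exact PH.prop_of_iso e (hcoh K)
  · have := hc X hX
    exact ⟨_, ⟨asIso (a.counit.app X)⟩⟩

end Groth.Agent.FTorsL
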