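import Groth.Agent.FTorsL.Deriv
import Groth.Agent.FTorsL.DerEquiv

/-!
# The derived category of torsion modules
-/

set_option autoImplicit false
set_option backward.isDefEq.respectTransparency false
set_option backward.isDefEq.respectTransparency.types false
set_option linter.style.haveILetI false

universe u

open CategoryTheory CategoryTheory.Limits AlgebraicGeometry TopologicalSpace Opposite DerivedCategory

attribute [local instance] HasDerivedCategory.standard

noncomputable section

namespace Groth.Agent.FTorsL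

variable {𝔛 : FSch.Sys.{u}} (h : 𝔛.IsLocNoethFormal)

/-- The torsion functor, with values in torsion modules. -/
abbrev gammaTfull : FSch.ModF 𝔛 h.1 ⥤ (FTors.IsTorsF 𝔛 h.1).FullSubcategory :=
  ObjectProperty.lift _ (FTors.gammaT 𝔛 h.1) fun M => isTorsF_gammaT h M

theorem gammaTι_lift_aux {A M : FSch.ModF 𝔛 h.1} (hA : FTors.IsTorsF 𝔛 h.1 A) (f : A ⟶ M) :
    ∃ g : A ⟶ (FTors.gammaT 𝔛 h.1).obj M, g ≫ (FTors.gammaTι 𝔛 h.1).app M = f := by
  haveI := isIso_gammaTι_of_tors h hA
  refine ⟨inv ((FTors.gammaTι 𝔛 h.1).app A) ≫ (FTors.gammaT 𝔛 h.1).map f, ?_⟩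
  rw [Category.assoc, IsIso.inv_comp_eq]
  exact (FTors.gammaTι 𝔛 h.1).naturality f

/-- The torsion functor is right adjoint to the inclusion. -/
def gammaTAdj : (FTors.IsTorsF 𝔛 h.1).ι ⊣ gammaTfull h :=
  Adjunction.mkOfHomEquiv
    { homEquiv := fun A M =>
        { toFun := fun f => ObjectProperty.homMk (gammaTι_lift_aux h A.property f).choose
          invFun := fun g => g.hom ≫ (FTors.gammaTι 𝔛 h.1).app M
          left_inv := fun f => (gammaTι_lift_aux h A.property f).choose_spec
          right_inv := fun g => ObjectProperty.hom_ext _ (by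
            haveI := mono_gammaTι h.1 M
            rw [← cancel_mono ((FTors.gammaTι 𝔛 h.1).app M)]
            exact (gammaTι_lift_aux h A.property (g.hom ≫ (FTors.gammaTι 𝔛 h.1).app M)).choose_spec) }
      homEquiv_naturality_left_symm := fun f g => Category.assoc f.hom g.hom _
      homEquiv_naturality_right := fun {A M M'} f g => ObjectProperty.hom_ext _ (by
        haveI := mono_gammaTι h.1 M'
        rw [← cancel_mono ((FTors.gammaTι 𝔛 h.1).app M')]
        refine (gammaTι_lift_aux h A.property (f ≫ g)).choose_spec.trans ?_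
        change f ≫ g = ((gammaTι_lift_aux h A.property f).choose ≫ (FTors.gammaT 𝔛 h.1).map g) ≫ _
        rw [Category.assoc]
        refine Eq.trans ?_ (congrArg (_ ≫ ·) ((FTors.gammaTι 𝔛 h.1).naturality g).symm)
        exact (congrArg (· ≫ g) (gammaTι_lift_aux h A.property f).choose_spec).symm.trans (Category.assoc _ _ _)) }

theorem gammaTAdj_counit_app (M : FSch.ModF 𝔛 h.1) :
    (gammaTAdj h).counit.app M = (FTors.gammaTι 𝔛 h.1).app M := by
  dsimp [gammaTAdj, Adjunction.mkOfHomEquiv]
  exact Category.id_comp ((FTors.gammaTι 𝔛 h.1).app M)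

include h in
theorem mapDerived_tors_equiv [(FTors.IsTorsF 𝔛 h.1).ContainsZero] [(FTors.IsTorsF 𝔛 h.1).IsClosedUnderKernels]
    [(FTors.IsTorsF 𝔛 h.1).IsClosedUnderCokernels] [(FTors.IsTorsF 𝔛 h.1).IsClosedUnderFiniteProducts]
    [PreservesFiniteLimits (FTors.IsTorsF 𝔛 h.1).ι] [PreservesFiniteColimits (FTors.IsTorsF 𝔛 h.1).ι] :
    (FTors.IsTorsF 𝔛 h.1).ι.mapDerivedCategory.Full ∧ (FTors.IsTorsF 𝔛 h.1).ι.mapDerivedCategory.Faithful ∧
      ∀ G : DerivedCategory (FSch.ModF 𝔛 h.1),
        (FTors.IsTorsF 𝔛 h.1).ι.mapDerivedCategory.essImage G ↔ FTors.IsDTorsF 𝔛 h.1 G := by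
  haveI := isGrothendieckAbelian_modF h
  haveI := isClosedUnderIsomorphisms_isTorsF h
  haveI : (gammaTfull h).Additive := (gammaTAdj h).right_adjoint_additive
  refine mapDerived_equiv (gammaTAdj h) (FTors.IsTorsF 𝔛 h.1) (fun a => a.property) fun I hI hH => ?_
  have e : counitCx (gammaTAdj h) I = gammaCx I :=
    HomologicalComplex.hom_ext _ _ fun i => gammaTAdj_counit_app h (I.X i)
  rw [e]
  exact quasiIso_gammaCx h I hI hH

end Groth.Agent.FTorsL
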