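import Groth.Agent.FTorsL.Acyc
import Groth.Agent.FTorsL.Coref
import Groth.Agent.H9Misc.GPDerived
import Groth.Agent.S0484

/-!
# The derived torsion functor of a formal scheme
-/

set_option autoImplicit false
set_option backward.isDefEq.respectTransparency false
set_option backward.isDefEq.respectTransparency.types false
set_option linter.style.haveILetI false

universe u

open CategoryTheory CategoryTheory.Limits AlgebraicGeometry TopologicalSpace Opposite DerivedCategory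
open Groth.Agent.H9FCoh

attribute [local instance] HasDerivedCategory.standard

noncomputable section

namespace Groth.Agent.FTorsL

/-- Objects of the derived category of a Grothendieck category have K-injective representatives. -/
theorem exists_rep {A : Type (u + 1)} [Category.{u} A] [Abelian A] [IsGrothendieckAbelian.{u} A]
    (E : DerivedCategory A) : ∃ I : CochainComplex A ℤ, I.IsKInjective ∧ (∀ i, Injective (I.X i)) ∧
      Nonempty (Qh.obj ((HomotopyCategory.quotient A (ComplexShape.up ℤ)).obj I) ≅ E) := by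
  haveI := Localization.essSurj (Q (C := A)) (HomologicalComplex.quasiIso A (ComplexShape.up ℤ))
  obtain ⟨I, f, hI, hf, -, hinj⟩ := TriCat.exists_kInjective_resolution' (Q.objPreimage E)
  exact ⟨I, hI, hinj, ⟨(quotientCompQhIso A).app I ≪≫
    (@asIso _ _ _ _ (Q.map f) ((isIso_Q_map_iff_quasiIso (φ := f)).2 hf)).symm ≪≫ Q.objObjPreimageIso E⟩⟩

variable {𝔛 : FSch.Sys.{u}}

/-- The class of a complex in the homotopy category. -/
abbrev hq {A : Type (u + 1)} [Category.{u} A] [Abelian A] (I : CochainComplex A ℤ) :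
    HomotopyCategory A (ComplexShape.up ℤ) :=
  (HomotopyCategory.quotient A (ComplexShape.up ℤ)).obj I

/-- The universal map into the derived torsion functor. -/
abbrev uR (hF : 𝔛.IsFormal) [FTors.HasRgammaT 𝔛 hF] :
    FTors.gammaKh (FTors.openIdealFam 𝔛 hF) ⟶ Qh ⋙ FTors.RgammaT 𝔛 hF :=
  (FTors.gammaKh (FTors.openIdealFam 𝔛 hF)).totalRightDerivedUnit Qh
    (HomotopyCategory.quasiIso (FSch.ModF 𝔛 hF) (ComplexShape.up ℤ))

theorem uR_fac (hF : 𝔛.IsFormal) [FTors.HasRgammaT 𝔛 hF]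
    (K : HomotopyCategory (FSch.ModF 𝔛 hF) (ComplexShape.up ℤ)) :
    (uR hF).app K ≫ (FTors.RgammaTε 𝔛 hF).app (Qh.obj K) = (FTors.gammaτ (FTors.openIdealFam 𝔛 hF)).app K := by
  refine ((FTors.RgammaT 𝔛 hF).rightDerived_fac_app (uR hF)
    (HomotopyCategory.quasiIso (FSch.ModF 𝔛 hF) (ComplexShape.up ℤ)) (𝟭 _)
    (FTors.gammaτ (FTors.openIdealFam 𝔛 hF) ≫ (Functor.rightUnitor _).inv) K).trans ?_
  rw [NatTrans.comp_app, Functor.rightUnitor_inv_app]
  exact Category.comp_id _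

theorem gammaτ_app (hF : 𝔛.IsFormal) (I : CochainComplex (FSch.ModF 𝔛 hF) ℤ) :
    (FTors.gammaτ (FTors.openIdealFam 𝔛 hF)).app (hq I) =
      Qh.map (((FTors.gammaT 𝔛 hF).mapHomotopyCategoryFactors (ComplexShape.up ℤ)).hom.app I) ≫
        Qh.map ((HomotopyCategory.quotient (FSch.ModF 𝔛 hF) (ComplexShape.up ℤ)).map (gammaCx I)) := by
  have e : (NatTrans.mapHomologicalComplex (FTors.gammaι (FTors.openIdealFam 𝔛 hF)) (ComplexShape.up ℤ)).app I ≫
      (Functor.mapHomologicalComplexIdIso (FSch.ModF 𝔛 hF) (ComplexShape.up ℤ)).hom.app I = gammaCx I :=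
    HomologicalComplex.hom_ext _ _ fun i => Category.comp_id _
  rw [← e, Functor.map_comp, Functor.map_comp]
  refine (Quotient.natTransLift_app _ _ _ (FTors.gammaτ0 (FTors.openIdealFam 𝔛 hF)) I).trans ?_
  simp only [FTors.gammaτ0, NatTrans.comp_app, Functor.associator_inv_app, Functor.associator_hom_app,
    Functor.whiskerRight_app, Functor.leftUnitor_hom_app]
  erw [Category.id_comp, Category.id_comp, Category.comp_id]

theorem isIso_gammaτ_app_iff (hF : 𝔛.IsFormal) (I : CochainComplex (FSch.ModF 𝔛 hF) ℤ) :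
    IsIso ((FTors.gammaτ (FTors.openIdealFam 𝔛 hF)).app (hq I)) ↔ QuasiIso (gammaCx I) := by
  rw [gammaτ_app, isIso_comp_left_iff, ← isIso_Q_map_iff_quasiIso]
  exact NatIso.isIso_map_iff (quotientCompQhIso (FSch.ModF 𝔛 hF)) (gammaCx I)

variable (h : 𝔛.IsLocNoethFormal)

theorem isTorsF_homology_of_tors {I : CochainComplex (FSch.ModF 𝔛 h.1) ℤ}
    (hI : ∀ i, FTors.IsTorsF 𝔛 h.1 (I.X i)) (i : ℤ) : FTors.IsTorsF 𝔛 h.1 (I.homology i) :=
  isTorsF_of_epi h (I.homologyπ i) (isTorsF_of_mono h (I.iCycles i) (hI i))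

theorem quasiIso_gammaCx_of_tors {I : CochainComplex (FSch.ModF 𝔛 h.1) ℤ}
    (hI : ∀ i, FTors.IsTorsF 𝔛 h.1 (I.X i)) : QuasiIso (gammaCx I) := by
  haveI : ∀ i, IsIso ((gammaCx I).f i) := fun i => isIso_gammaTι_of_tors h (hI i)
  haveI := HomologicalComplex.Hom.isIso_of_components (gammaCx I)
  infer_instance

theorem homology_iso_HMod (hF : 𝔛.IsFormal) (I : CochainComplex (FSch.ModF 𝔛 hF) ℤ) (i : ℤ) :
    Nonempty (SiteCmp.HMod (Qh.obj (hq I)) i ≅ I.homology i) :=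
  ⟨(homologyFunctor (FSch.ModF 𝔛 hF) i).mapIso ((quotientCompQhIso (FSch.ModF 𝔛 hF)).app I) ≪≫
    (homologyFunctorFactors (FSch.ModF 𝔛 hF) i).app I⟩

theorem isDTorsF_iff (I : CochainComplex (FSch.ModF 𝔛 h.1) ℤ) :
    FTors.IsDTorsF 𝔛 h.1 (Qh.obj (hq I)) ↔ ∀ i, FTors.IsTorsF 𝔛 h.1 (I.homology i) := by
  haveI := isClosedUnderIsomorphisms_isTorsF h
  refine forall_congr' fun i => ?_
  obtain ⟨e⟩ := homology_iso_HMod h.1 I i
  exact (FTors.IsTorsF 𝔛 h.1).prop_iff_of_iso e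

theorem isClosedUnderIsomorphisms_isDTorsF : (FTors.IsDTorsF 𝔛 h.1).IsClosedUnderIsomorphisms :=
  ⟨fun e hX i =>
    haveI := isClosedUnderIsomorphisms_isTorsF h
    (FTors.IsTorsF 𝔛 h.1).prop_of_iso ((homologyFunctor (FSch.ModF 𝔛 h.1) i).mapIso e) (hX i)⟩

include h in
theorem isGrothendieckAbelian_modF : IsGrothendieckAbelian.{u} (FSch.ModF 𝔛 h.1) :=
  S0484.result (Opens.grothendieckTopology (𝔛.X 0).toPresheafedSpace.carrier) (ModSite.ringSh (𝔛.Osh h.1))

include h in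
/-- Every object is represented by a K-injective complex of injectives. -/
theorem exists_kInjective_rep (E : DerivedCategory (FSch.ModF 𝔛 h.1)) :
    ∃ I : CochainComplex (FSch.ModF 𝔛 h.1) ℤ,
      I.IsKInjective ∧ (∀ i, Injective (I.X i)) ∧ Nonempty (Qh.obj (hq I) ≅ E) :=
  @exists_rep (FSch.ModF 𝔛 h.1) _ _ (isGrothendieckAbelian_modF h) E

variable [FTors.HasRgammaT 𝔛 h.1]

theorem isIso_uR_app (I : CochainComplex (FSch.ModF 𝔛 h.1) ℤ) [I.IsKInjective] :
    IsIso ((uR h.1).app (hq I)) := by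
  haveI := isGrothendieckAbelian_modF h
  haveI := H9Misc.GPDerived.qh_isLeftAdjoint (FSch.ModF 𝔛 h.1)
  let adjQ := Adjunction.ofIsLeftAdjoint (Qh (C := FSch.ModF 𝔛 h.1))
  let W := HomotopyCategory.quasiIso (FSch.ModF 𝔛 h.1) (ComplexShape.up ℤ)
  let G := FTors.gammaKh (FTors.openIdealFam 𝔛 h.1)
  haveI := TriCat.isRightDerivedFunctor_of_adjunction adjQ W G
  let β : G ⟶ Qh ⋙ Qh.rightAdjoint ⋙ G := Functor.whiskerRight adjQ.unit G
  let θ := (Qh.rightAdjoint ⋙ G).rightDerivedDesc β W _ (uR h.1)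
  haveI : IsIso θ :=
    ((Qh.rightAdjoint ⋙ G).isRightDerivedFunctor_iff_isIso_rightDerivedDesc β W _ (uR h.1)).1 inferInstance
  have e := (Qh.rightAdjoint ⋙ G).rightDerived_fac_app β W _ (uR h.1) (hq I)
  rw [← e]
  haveI := TriCat.isIso_unit_of_isKInjective adjQ I
  haveI : IsIso (β.app (hq I)) := inferInstanceAs (IsIso (G.map (adjQ.unit.app (hq I))))
  infer_instance

theorem isDTorsF_RgammaT (E : DerivedCategory (FSch.ModF 𝔛 h.1)) :
    FTors.IsDTorsF 𝔛 h.1 ((FTors.RgammaT 𝔛 h.1).obj E) := by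
  obtain ⟨I, hI, -, ⟨e⟩⟩ := exists_kInjective_rep h E
  haveI := isClosedUnderIsomorphisms_isDTorsF h
  haveI := hI
  haveI := isIso_uR_app h I
  refine (FTors.IsDTorsF 𝔛 h.1).prop_of_iso
    ((Qh.mapIso (((FTors.gammaT 𝔛 h.1).mapHomotopyCategoryFactors (ComplexShape.up ℤ)).app I)).symm ≪≫
      asIso ((uR h.1).app (hq I)) ≪≫ (FTors.RgammaT 𝔛 h.1).mapIso e) ?_
  exact (isDTorsF_iff h _).2 (isTorsF_homology_of_tors h fun i => isTorsF_gammaT h (I.X i))

/-- A complex has torsion cohomology iff its derived torsion maps isomorphically to it. -/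
theorem isDTorsF_iff_isIso (E : DerivedCategory (FSch.ModF 𝔛 h.1)) :
    FTors.IsDTorsF 𝔛 h.1 E ↔ IsIso ((FTors.RgammaTε 𝔛 h.1).app E) := by
  haveI := isClosedUnderIsomorphisms_isDTorsF h
  constructor
  · intro hE
    obtain ⟨I, hI, hinj, ⟨e⟩⟩ := exists_kInjective_rep h E
    haveI := hI
    haveI := isIso_uR_app h I
    haveI : IsIso ((uR h.1).app (hq I) ≫ (FTors.RgammaTε 𝔛 h.1).app (Qh.obj (hq I))) := by
      rw [uR_fac]
      exact (isIso_gammaτ_app_iff h.1 I).2 (quasiIso_gammaCx h I hinj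
        ((isDTorsF_iff h I).1 ((FTors.IsDTorsF 𝔛 h.1).prop_of_iso e.symm hE)))
    haveI := IsIso.of_isIso_comp_left ((uR h.1).app (hq I)) ((FTors.RgammaTε 𝔛 h.1).app (Qh.obj (hq I)))
    exact (NatTrans.isIso_app_iff_of_iso (FTors.RgammaTε 𝔛 h.1) e).1 inferInstance
  · intro hE
    exact (FTors.IsDTorsF 𝔛 h.1).prop_of_iso (asIso ((FTors.RgammaTε 𝔛 h.1).app E)) (isDTorsF_RgammaT h E)

theorem isIso_uR_app_of_tors {I : CochainComplex (FSch.ModF 𝔛 h.1) ℤ}
    (hI : ∀ i, FTors.IsTorsF 𝔛 h.1 (I.X i)) : IsIso ((uR h.1).app (hq I)) := by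
  haveI := (isDTorsF_iff_isIso h _).1 ((isDTorsF_iff h I).2 (isTorsF_homology_of_tors h hI))
  haveI : IsIso ((uR h.1).app (hq I) ≫ (FTors.RgammaTε 𝔛 h.1).app (Qh.obj (hq I))) := by
    rw [uR_fac]
    exact (isIso_gammaτ_app_iff h.1 I).2 (quasiIso_gammaCx_of_tors h hI)
  exact IsIso.of_isIso_comp_right _ ((FTors.RgammaTε 𝔛 h.1).app (Qh.obj (hq I)))

omit [FTors.HasRgammaT 𝔛 h.1] in
theorem isIso_gammaT_map_gammaCx (I : CochainComplex (FSch.ModF 𝔛 h.1) ℤ) :
    IsIso (((FTors.gammaT 𝔛 h.1).mapHomologicalComplex (ComplexShape.up ℤ)).map (gammaCx I)) := by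
  haveI : ∀ i, IsIso ((FTors.gammaT 𝔛 h.1).map ((FTors.gammaTι 𝔛 h.1).app (I.X i))) := fun i => by
    haveI := isIso_gammaTι_of_tors h (isTorsF_gammaT h (I.X i))
    haveI := mono_gammaTι h.1 (I.X i)
    have : (FTors.gammaT 𝔛 h.1).map ((FTors.gammaTι 𝔛 h.1).app (I.X i)) =
        (FTors.gammaTι 𝔛 h.1).app ((FTors.gammaT 𝔛 h.1).obj (I.X i)) := by
      rw [← cancel_mono ((FTors.gammaTι 𝔛 h.1).app (I.X i))]
      exact (FTors.gammaTι 𝔛 h.1).naturality ((FTors.gammaTι 𝔛 h.1).app (I.X i))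
    rw [this]
    infer_instance
  haveI : ∀ i, IsIso ((((FTors.gammaT 𝔛 h.1).mapHomologicalComplex (ComplexShape.up ℤ)).map (gammaCx I)).f i) :=
    fun i => this i
  exact HomologicalComplex.Hom.isIso_of_components _

theorem isIso_map_RgammaTε (F : DerivedCategory (FSch.ModF 𝔛 h.1)) :
    IsIso ((FTors.RgammaT 𝔛 h.1).map ((FTors.RgammaTε 𝔛 h.1).app F)) := by
  obtain ⟨I, hI, -, ⟨e⟩⟩ := exists_kInjective_rep h F
  haveI := hI
  haveI := isIso_uR_app h I
  suffices hs : IsIso ((FTors.RgammaT 𝔛 h.1).map ((FTors.RgammaTε 𝔛 h.1).app (Qh.obj (hq I)))) by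
    haveI := hs
    have e1 : (FTors.RgammaTε 𝔛 h.1).app F = (FTors.RgammaT 𝔛 h.1).map e.inv ≫
        (FTors.RgammaTε 𝔛 h.1).app (Qh.obj (hq I)) ≫ e.hom := by
      refine ((cancel_epi ((FTors.RgammaT 𝔛 h.1).map e.hom)).1 ?_)
      rw [← Category.assoc ((FTors.RgammaT 𝔛 h.1).map e.hom), ← Functor.map_comp, Iso.hom_inv_id,
        CategoryTheory.Functor.map_id, Category.id_comp]
      exact (FTors.RgammaTε 𝔛 h.1).naturality e.hom
    rw [e1, Functor.map_comp, Functor.map_comp]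
    infer_instance
  let G := FTors.gammaKh (FTors.openIdealFam 𝔛 h.1)
  let K : CochainComplex (FSch.ModF 𝔛 h.1) ℤ :=
    ((FTors.gammaT 𝔛 h.1).mapHomologicalComplex (ComplexShape.up ℤ)).obj I
  let ι : hq K ⟶ hq I := (HomotopyCategory.quotient (FSch.ModF 𝔛 h.1) (ComplexShape.up ℤ)).map (gammaCx I)
  haveI : IsIso ((uR h.1).app (hq K)) := isIso_uR_app_of_tors h fun i => isTorsF_gammaT h (I.X i)
  haveI : IsIso (G.map ι) := by
    haveI := isIso_gammaT_map_gammaCx h I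
    haveI : IsIso (((FTors.gammaT 𝔛 h.1).mapHomotopyCategory (ComplexShape.up ℤ)).map ι) :=
      (NatIso.isIso_map_iff ((FTors.gammaT 𝔛 h.1).mapHomotopyCategoryFactors (ComplexShape.up ℤ)) (gammaCx I)).2
        (inferInstanceAs (IsIso ((HomotopyCategory.quotient (FSch.ModF 𝔛 h.1) (ComplexShape.up ℤ)).map
          (((FTors.gammaT 𝔛 h.1).mapHomologicalComplex (ComplexShape.up ℤ)).map (gammaCx I)))))
    exact inferInstanceAs (IsIso (Qh.map (((FTors.gammaT 𝔛 h.1).mapHomotopyCategory (ComplexShape.up ℤ)).map ι)))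
  have n : G.map ι ≫ (uR h.1).app (hq I) = (uR h.1).app (hq K) ≫ (FTors.RgammaT 𝔛 h.1).map (Qh.map ι) :=
    (uR h.1).naturality ι
  haveI : IsIso ((uR h.1).app (hq K) ≫ (FTors.RgammaT 𝔛 h.1).map (Qh.map ι)) := by rw [← n]; infer_instance
  haveI := IsIso.of_isIso_comp_left ((uR h.1).app (hq K)) ((FTors.RgammaT 𝔛 h.1).map (Qh.map ι))
  have e2 : (FTors.RgammaTε 𝔛 h.1).app (Qh.obj (hq I)) = inv ((uR h.1).app (hq I)) ≫
      Qh.map (((FTors.gammaT 𝔛 h.1).mapHomotopyCategoryFactors (ComplexShape.up ℤ)).hom.app I) ≫ Qh.map ι := by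
    rw [IsIso.eq_inv_comp, uR_fac, gammaτ_app]
  rw [e2, Functor.map_comp, Functor.map_comp]
  infer_instance

/-- Maps from complexes with torsion cohomology factor uniquely through the derived torsion. -/
theorem comp_ε_bijective {E F : DerivedCategory (FSch.ModF 𝔛 h.1)} (hE : FTors.IsDTorsF 𝔛 h.1 E) :
    Function.Bijective (fun φ : E ⟶ (FTors.RgammaT 𝔛 h.1).obj F => φ ≫ (FTors.RgammaTε 𝔛 h.1).app F) := by
  haveI := (isDTorsF_iff_isIso h E).1 hE
  haveI := isIso_map_RgammaTε h F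
  constructor
  · intro a b hab
    have h1 := congrArg ((FTors.RgammaT 𝔛 h.1).map) hab
    rw [Functor.map_comp, Functor.map_comp, cancel_mono] at h1
    refine (cancel_epi ((FTors.RgammaTε 𝔛 h.1).app E)).1 ?_
    exact ((FTors.RgammaTε 𝔛 h.1).naturality a).symm.trans
      ((congrArg (· ≫ (FTors.RgammaTε 𝔛 h.1).app _) h1).trans ((FTors.RgammaTε 𝔛 h.1).naturality b))
  · intro ψ
    refine ⟨inv ((FTors.RgammaTε 𝔛 h.1).app E) ≫ (FTors.RgammaT 𝔛 h.1).map ψ, ?_⟩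
    change (_ ≫ _) ≫ _ = ψ
    rw [Category.assoc, IsIso.inv_comp_eq]
    exact (FTors.RgammaTε 𝔛 h.1).naturality ψ

end Groth.Agent.FTorsL
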