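import Groth.Agent.FTorsL.Sub

/-!
# Quasi-coherent torsion modules are filtered colimits of coherent modules
-/

set_option autoImplicit false
set_option backward.isDefEq.respectTransparency false
set_option backward.isDefEq.respectTransparency.types false
set_option linter.style.haveILetI false

universe u

open CategoryTheory CategoryTheory.Limits AlgebraicGeometry TopologicalSpace Opposite
open Groth.Agent.H9FCoh Groth.Agent.ClosedRinged
open Groth.Agent.RngSp (pt gm mp fns)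

noncomputable section

namespace Groth.Agent.FTorsL

variable {𝔛 : FSch.Sys.{u}} (h : 𝔛.IsLocNoethFormal) {M : FSch.ModF 𝔛 h.1}

/-- An open together with a finitely generated family of submodules of the stalks on it. -/
structure Part (M : FSch.ModF 𝔛 h.1) : Type u where
  U : (𝔛.X 0).Opens
  S : ∀ x : 𝔛.X 0, Submodule (St (𝔛.Osh h.1) x) (ModSite.stalkAb (pt x) M)
  gen : ∀ x ∈ U, ∃ W : (𝔛.X 0).Opens, IsAffineOpen W ∧ x ∈ W ∧ W ≤ U ∧ GenS h W S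

instance : Preorder (Part h M) where
  le p q := p.U ≤ q.U ∧ ∀ x ∈ p.U, q.S x = p.S x
  le_refl p := ⟨le_rfl, fun _ _ => rfl⟩
  le_trans p q r hpq hqr := ⟨hpq.1.trans hqr.1, fun x hx => (hqr.2 x (hpq.1 hx)).trans (hpq.2 x hx)⟩

theorem exists_ub (c : Set (Part h M)) (hc : IsChain (· ≤ ·) c) : BddAbove c := by
  classical
  let U : (𝔛.X 0).Opens := ⨆ p : c, p.1.U
  let S : ∀ x : 𝔛.X 0, Submodule (St (𝔛.Osh h.1) x) (ModSite.stalkAb (pt x) M) := fun x =>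
    if hx : ∃ p : c, x ∈ p.1.U then hx.choose.1.S x else ⊥
  have hS : ∀ (p : c) x, x ∈ p.1.U → S x = p.1.S x := fun p x hx => by
    have hx' : ∃ q : c, x ∈ q.1.U := ⟨p, hx⟩
    simp only [S, dif_pos hx']
    rcases hc.total p.2 hx'.choose.2 with hle | hle
    · exact hle.2 x hx
    · exact (hle.2 x hx'.choose_spec).symm
  refine ⟨⟨U, S, fun x hx => ?_⟩, fun p hp => ⟨le_iSup (fun q : c => q.1.U) ⟨p, hp⟩, fun x hx => hS ⟨p, hp⟩ x hx⟩⟩
  obtain ⟨p, hpx⟩ := Opens.mem_iSup.1 hx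
  obtain ⟨W, hW, hxW, hWU, ι, hι, t, ht⟩ := p.1.gen x hpx
  exact ⟨W, hW, hxW, hWU.trans (le_iSup (fun q : c => q.1.U) p), ι, hι, t,
    fun y hy => (hS p y (hWU hy)).trans (ht y hy)⟩

variable (hl : lqP h M) (hT : FTors.IsTorsF 𝔛 h.1 M)

theorem exists_cover_units {W Q : (𝔛.X 0).Opens} (hW : IsAffineOpen W) (hQ : Q ≤ W)
    (P : (𝔛.X 0).Opens → Prop) (hP : ∀ y ∈ Q, ∃ V, y ∈ V ∧ V ≤ Q ∧ P V) :
    ∃ (κ : Type u) (_ : Finite κ) (g : κ → Ox h W) (D V : κ → (𝔛.X 0).Opens), (∀ a, D a ≤ V a ∧ V a ≤ Q ∧ P (V a)) ∧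
      (∀ a y (hy : y ∈ W), y ∈ D a ↔ IsUnit (gH (𝔛.Osh h.1) hy (g a))) ∧ ∀ y ∈ Q, ∃ a, y ∈ D a := by
  obtain ⟨κ, hκ, D, hD, hcov, hPD⟩ := exists_cover (isCompact_of_le h hW hQ)
    (fun D => ∃ (g : Ox h W) (V : (𝔛.X 0).Opens), D ≤ V ∧ V ≤ Q ∧ P V ∧
      ∀ y (hy : y ∈ W), y ∈ D ↔ IsUnit (gH (𝔛.Osh h.1) hy g)) fun y hy => by
      obtain ⟨V, hyV, hVQ, hV⟩ := hP y hy
      obtain ⟨g, hg, hgV⟩ := exists_unit_nbhd h hW (W' := V) (hQ hy) hyV
      obtain ⟨D, hDW, hD⟩ := exists_unitOpen h g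
      have hDV : D ≤ V := fun z hz => hgV z (hDW hz) ((hD z (hDW hz)).1 hz)
      exact ⟨D, hDV.trans hVQ, (hD y (hQ hy)).2 hg, g, V, hDV, hVQ, hV, hD⟩
  choose g V hDV hVQ hV hgD using hPD
  exact ⟨κ, hκ, g, D, V, fun a => ⟨hDV a, hVQ a, hV a⟩, hgD, hcov⟩

include hl hT in
/-- The submodule extends over one more affine open. -/
theorem exists_gens_affine (p : Part h M) {W : (𝔛.X 0).Opens} (hW : IsAffineOpen W) :
    ∃ (ι : Type u) (_ : Finite ι) (z : ι → M.val.obj (op W)), ∀ y (hy : y ∈ W), y ∈ p.U →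
      p.S y = Submodule.span _ (Set.range fun i => gm M hy (z i)) := by
  obtain ⟨κ, hκ, g, D, V, hDV, hgD, hcov⟩ := exists_cover_units h hW (Q := p.U ⊓ W) inf_le_right
    (fun V => IsAffineOpen V ∧ GenS h V p.S) fun y hy => by
      obtain ⟨V₁, hV₁, hyV₁, hV₁U, hg⟩ := p.gen y hy.1
      obtain ⟨V, hV, hyV, hle⟩ := exists_affine (W := V₁ ⊓ W) (x := y) ⟨hyV₁, hy.2⟩
      exact ⟨V, hyV, le_inf ((hle.trans inf_le_left).trans hV₁U) (hle.trans inf_le_right), hV,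
        hg.mono h (hle.trans inf_le_left)⟩
  have hDW : ∀ a, D a ≤ W := fun a => ((hDV a).1.trans (hDV a).2.1).trans inf_le_right
  have hVW : ∀ a, V a ≤ W := fun a => (hDV a).2.1.trans inf_le_right
  choose σ hσ t ht using fun a => (hDV a).2.2.2
  have hQC : IsQC M := isQC_of_lqP h M hl
  choose m z hz using fun p : Σ a, σ a =>
    exists_extend h hT hQC hW (g p.1) (hDW p.1) (fun y hy => (hgD p.1 y hy).2) (res M (hDV p.1).1 (t p.1 p.2))
  have hz' : ∀ (q : Σ a, σ a) y (hy : y ∈ D q.1),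
      gm M (hDW q.1 hy) (z q) = gH (𝔛.Osh h.1) (hDW q.1 hy) (g q.1) ^ m q • gm M ((hDV q.1).1 hy) (t q.1 q.2) :=
    fun q y hy => by rw [hz q y hy, RngSp.gm_res]
  have hmem : ∀ (q : Σ a, σ a) (b : κ), ∃ n, ∀ y (hy : y ∈ V b),
      gH (𝔛.Osh h.1) (hVW b hy) (g q.1) ^ n • gm M (hVW b hy) (z q) ∈ p.S y := fun q b => by
    obtain ⟨n, hn⟩ := exists_pow_mem_S h hl hT (hDV b).2.2.1 p.S (hDV b).2.2.2 (rO h (hVW b) (g q.1))
      (res M (hVW b) (z q)) fun y hy hu => by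
        rw [gH_rO] at hu
        have hyD := (hgD q.1 y (hVW b hy)).2 hu
        rw [RngSp.gm_res, hz' q y hyD, ht q.1 y ((hDV q.1).1 hyD)]
        exact Submodule.smul_mem _ _ (Submodule.subset_span ⟨q.2, rfl⟩)
    refine ⟨n, fun y hy => ?_⟩
    have := hn y hy
    rwa [gH_rO, RngSp.gm_res] at this
  choose n hn using hmem
  choose N hN using fun q => exists_bound (n q)
  let z' : (Σ a, σ a) → M.val.obj (op W) := fun q => HSMul.hSMul (α := fns (𝔛.Osh h.1) W) (g q.1 ^ N q) (z q)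
  have hzg : ∀ q y (hy : y ∈ W), gm M hy (z' q) = gH (𝔛.Osh h.1) hy (g q.1) ^ N q • gm M hy (z q) :=
    fun q y hy => by simp only [z']; rw [gm_smul' h, map_pow]
  refine ⟨Σ a, σ a, inferInstance, z', fun y hy hyU => le_antisymm ?_ ?_⟩
  · obtain ⟨a, ha⟩ := hcov y ⟨hyU, hy⟩
    rw [ht a y ((hDV a).1 ha), Submodule.span_le]
    rintro _ ⟨i, rfl⟩
    have hu := (hgD a y hy).1 ha
    have h1 : gm M hy (z' ⟨a, i⟩) =
        gH (𝔛.Osh h.1) hy (g a) ^ (N ⟨a, i⟩ + m ⟨a, i⟩) • gm M ((hDV a).1 ha) (t a i) := by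
      rw [hzg, hz' ⟨a, i⟩ y ha, smul_smul, ← pow_add]
    rw [SetLike.mem_coe, ← Submodule.smul_mem_iff_of_isUnit _ (hu.pow (N ⟨a, i⟩ + m ⟨a, i⟩))]
    rw [← h1]
    exact Submodule.subset_span ⟨⟨a, i⟩, rfl⟩
  · rw [Submodule.span_le]
    rintro _ ⟨q, rfl⟩
    obtain ⟨b, hb⟩ := hcov y ⟨hyU, hy⟩
    have hyV : y ∈ V b := (hDV b).1 hb
    rw [SetLike.mem_coe]
    change gm M hy (z' q) ∈ p.S y
    rw [hzg, ← Nat.sub_add_cancel (hN q b), pow_add, mul_smul]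
    exact Submodule.smul_mem _ _ (hn q b y hyV)

include hl hT in
theorem exists_coherent_hit {x : 𝔛.X 0} (z : ModSite.stalkAb (pt x) M) :
    ∃ (P : FSch.ModF 𝔛 h.1) (f : P ⟶ M) (a : ModSite.stalkAb (pt x) P), IsFP P ∧ fx f x a = z := by
  classical
  obtain ⟨V₀, hxV₀, s₀, rfl⟩ := RngSp.exists_gm z
  obtain ⟨W₀, hW₀, hxW₀, hle₀⟩ := exists_affine (W := V₀) hxV₀
  let t₀ : PUnit.{u + 1} → M.val.obj (op W₀) := fun _ => res M hle₀ s₀
  let S₀ : ∀ y : 𝔛.X 0, Submodule (St (𝔛.Osh h.1) y) (ModSite.stalkAb (pt y) M) := fun y =>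
    if hy : y ∈ W₀ then Submodule.span _ (Set.range fun i => gm M hy (t₀ i)) else ⊥
  let p₀ : Part h M := ⟨W₀, S₀, fun y hy => ⟨W₀, hW₀, hy, le_rfl, _, inferInstance, t₀, fun w hw => by simp [S₀, hw]⟩⟩
  obtain ⟨⟨p, hp⟩, hmax⟩ := zorn_le (α := {p : Part h M // p₀ ≤ p}) fun c hc => by
    by_cases hne : c.Nonempty
    · obtain ⟨q, hq⟩ := exists_ub h (Subtype.val '' c) (by
        rintro _ ⟨a, ha, rfl⟩ _ ⟨b, hb, rfl⟩ hab
        exact hc ha hb fun e => hab (congrArg Subtype.val e))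
      obtain ⟨r, hr⟩ := hne
      exact ⟨⟨q, r.2.trans (hq ⟨r, hr, rfl⟩)⟩, fun r' hr' => hq ⟨r', hr', rfl⟩⟩
    · exact ⟨⟨p₀, le_rfl⟩, fun r hr => absurd ⟨r, hr⟩ hne⟩
  have htop : ∀ y, y ∈ p.U := fun y => by
    by_contra hyU
    obtain ⟨W, hW, hyW, -⟩ := exists_affine (W := ⊤) (Opens.mem_top y)
    obtain ⟨ι, hι, zz, hzz⟩ := exists_gens_affine h hl hT p hW
    let S' : ∀ w : 𝔛.X 0, Submodule (St (𝔛.Osh h.1) w) (ModSite.stalkAb (pt w) M) := fun w =>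
      if w ∈ p.U then p.S w else if hw : w ∈ W then Submodule.span _ (Set.range fun i => gm M hw (zz i)) else ⊥
    have hW' : ∀ w (hw : w ∈ W), S' w = Submodule.span _ (Set.range fun i => gm M hw (zz i)) := fun w hw => by
      by_cases hwU : w ∈ p.U
      · simp only [S', if_pos hwU]
        exact hzz w hw hwU
      · simp only [S', if_neg hwU, dif_pos hw]
    let p' : Part h M := ⟨p.U ⊔ W, S', fun w hw => by
      rcases hw with hw | hw
      · obtain ⟨V, hV, hwV, hVU, σ, hσ, tt, htt⟩ := p.gen w hw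
        exact ⟨V, hV, hwV, hVU.trans le_sup_left, σ, hσ, tt, fun v hv => by
          simp only [S', if_pos (hVU hv)]
          exact htt v hv⟩
      · exact ⟨W, hW, hw, le_sup_right, ι, hι, zz, hW'⟩⟩
    have hle : p ≤ p' := ⟨le_sup_left, fun w hw => by simp [p', S', hw]⟩
    have h2 : p' ≤ p := hmax (b := ⟨p', hp.trans hle⟩) hle
    exact hyU (h2.1 (Or.inr hyW))
  have hgen : ∀ y, ∃ W : (𝔛.X 0).Opens, IsAffineOpen W ∧ y ∈ W ∧ GenS h W p.S := fun y => by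
    obtain ⟨W, hW, hyW, -, hg⟩ := p.gen y (htop y)
    exact ⟨W, hW, hyW, hg⟩
  obtain ⟨W, hW, hxW, ι, hι, t, ht⟩ := hgen x
  have hz : gm M hxV₀ s₀ ∈ p.S x := by
    rw [hp.2 x hxW₀]
    simp only [p₀, S₀, dif_pos hxW₀]
    refine Submodule.subset_span ⟨PUnit.unit, ?_⟩
    exact RngSp.gm_res (M := M) hle₀ hxW₀ s₀
  rw [ht x hxW, span_eq_range_gcmb h] at hz
  obtain ⟨w, hw⟩ := hz
  let s : ι → (sub p.S).val.obj (op W) := fun i => ⟨t i, fun y hy => ht y hy ▸ Submodule.subset_span ⟨i, rfl⟩⟩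
  refine ⟨sub p.S, subι p.S, gcmb (fun i => gm (sub p.S) hxW (s i)) w, isFP_sub h hl p.S hgen, ?_⟩
  exact (fx_gcmb (subι p.S) s hxW w).trans hw

include hl hT in
/-- A quasi-coherent torsion module is a filtered colimit of coherent modules. -/
theorem ind_of_lqP_tors : (ObjectProperty.ind.{u} fun 𝔊 : FSch.ModF 𝔛 h.1 => FSch.IsCohF 𝔛 h.1 𝔊) M := by
  change (ObjectProperty.ind.{u} (fpP (𝔛.Osh h.1))) M
  have hqc : ∀ A : ModSite.Mod (𝔛.Osh h.1), ObjectProperty.ind.{u} (fpP (𝔛.Osh h.1)) A → IsQC A :=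
    fun A hA => isQC_ind h A hA
  obtain ⟨Q, ε, hQ, huniv⟩ := exists_coreflection (good h) hqc M
  have hinj : ∀ y, Function.Injective (fx ε y) := fun y => by
    rw [injective_iff_map_eq_zero]
    intro q hq
    obtain ⟨J', hJ, hJf, pres, hpres⟩ := id hQ
    haveI := RngSp.preservesColimits_stalkF (O := 𝔛.Osh h.1) y
    obtain ⟨j, a, ha⟩ := Types.jointly_surjective_of_isColimit
      (isColimitOfPreserves (RngSp.stalkF (𝔛.Osh h.1) y ⋙ forget AddCommGrpCat.{u}) pres.isColimit) q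
    have ha : fx (pres.ι.app j) y a = q := ha
    let b := pres.ι.app j ≫ ε
    have hI : IsFP (Abelian.image b) := isFP_of_epi (good h) (hpres j)
      (isQC_image (good h) (isQC_of_isFP (hpres j)) (isQC_of_lqP h M hl) b) (Abelian.factorThruImage b)
    obtain ⟨g, hg, -⟩ := huniv _ (ObjectProperty.le_ind.{u} (fpP (𝔛.Osh h.1)) _ hI) (Abelian.image.ι b)
    have e : Abelian.factorThruImage b ≫ g = pres.ι.app j :=
      (huniv _ (ObjectProperty.le_ind.{u} (fpP (𝔛.Osh h.1)) _ (hpres j)) b).unique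
        (by rw [Category.assoc, hg, Abelian.image.fac]) rfl
    rw [← ha, ← e, ← fx_comp]
    have h0 : fx (Abelian.factorThruImage b) y a = 0 := by
      refine fx_injective (Abelian.image.ι b) y ?_
      rw [fx_comp, Abelian.image.fac, map_zero, ← fx_comp, ha]
      exact hq
    rw [h0, map_zero]
  have hsurj : ∀ y, Function.Surjective (fx ε y) := fun y z => by
    obtain ⟨P, f, a, hP, ha⟩ := exists_coherent_hit h hl hT z
    obtain ⟨g, hg, -⟩ := huniv _ (ObjectProperty.le_ind.{u} (fpP (𝔛.Osh h.1)) _ hP) f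
    exact ⟨fx g y a, by rw [fx_comp, hg, ha]⟩
  haveI : IsIso ε := by
    have hi : ∀ V, Function.Injective (mp ε V) := fun V s s' e => eq_of_gm fun y hy => hinj y (by
      rw [fx_gm, fx_gm, e])
    refine isIso_of_bijective_mp ε fun V => ⟨hi V, fun s => ?_⟩
    have hloc : ∀ y : V, ∃ (W : (𝔛.X 0).Opens) (hW : W ≤ V) (q : Q.val.obj (op W)), y.1 ∈ W ∧
        mp ε W q = res M hW s := fun y => by
      obtain ⟨a, ha⟩ := hsurj y.1 (gm M y.2 s)
      obtain ⟨W, hyW, q, rfl⟩ := RngSp.exists_gm a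
      rw [fx_gm] at ha
      obtain ⟨W', hW'1, hW'2, hyW', he⟩ := RngSp.exists_gm_eq hyW y.2 _ _ ha
      exact ⟨W', hW'2, res Q hW'1 q, hyW', (RngSp.mp_res ε hW'1 q).trans he⟩
    choose W hW q hyW hq using hloc
    obtain ⟨q', hq'⟩ := ClosedRinged.exists_glue Q W hW (fun y hy => ⟨⟨y, hy⟩, hyW _⟩) q fun a b => hi _ (by
      rw [RngSp.mp_res, RngSp.mp_res, hq, hq, res_res, res_res])
    refine ⟨q', eq_of_gm fun y hy => ?_⟩
    rw [← RngSp.gm_res (hW ⟨y, hy⟩) (hyW ⟨y, hy⟩), ← RngSp.mp_res, hq', hq, RngSp.gm_res]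
  exact (ObjectProperty.ind.{u} (fpP (𝔛.Osh h.1))).prop_of_iso (asIso ε) hQ

end Groth.Agent.FTorsL
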