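import Groth.Agent.FTorsL.GTors
import Groth.Agent.FTorsL.Deriv
import Groth.Agent.H9Misc.GPDerived
import Groth.Agent.S0484

/-!
# The derived torsion functor of a formal scheme
-/

set_option autoImplicit false
set_option backward.isDefEq.respectTransparency false
set_option backward.isDefEq.respectTransparency.types false
set_option linter.style.haveILetI false

universe u

open CategoryTheory CategoryTheory.Limits AlgebraicGeometry TopologicalSpace Opposite DerivedCategory
open Groth.Agent.H9FCoh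

attribute [local instance] HasDerivedCategory.standard

noncomputable section

namespace Groth.Agent.FTorsL.Gen

variable {T : TopCat.{u}} {O : TopCat.Sheaf CommRingCat.{u} T} (I₀ : FTors.IdealFam O)

/-- The universal map into the derived torsion functor. -/
abbrev uR [FTors.HasRgamma I₀] :
    FTors.gammaKh I₀ ⟶ Qh ⋙ FTors.Rgamma I₀ :=
  (FTors.gammaKh I₀).totalRightDerivedUnit Qh
    (HomotopyCategory.quasiIso (ModSite.Mod O) (ComplexShape.up ℤ))

theorem uR_fac [FTors.HasRgamma I₀]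
    (K : HomotopyCategory (ModSite.Mod O) (ComplexShape.up ℤ)) :
    (uR I₀).app K ≫ (FTors.Rgammaε I₀).app (Qh.obj K) = (FTors.gammaτ I₀).app K := by
  refine ((FTors.Rgamma I₀).rightDerived_fac_app (uR I₀)
    (HomotopyCategory.quasiIso (ModSite.Mod O) (ComplexShape.up ℤ)) (𝟭 _)
    (FTors.gammaτ I₀ ≫ (Functor.rightUnitor _).inv) K).trans ?_
  rw [NatTrans.comp_app, Functor.rightUnitor_inv_app]
  exact Category.comp_id _

theorem gammaτ_app (I : CochainComplex (ModSite.Mod O) ℤ) :
    (FTors.gammaτ I₀).app (hq I) =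
      Qh.map (((FTors.gamma O I₀).mapHomotopyCategoryFactors (ComplexShape.up ℤ)).hom.app I) ≫
        Qh.map ((HomotopyCategory.quotient (ModSite.Mod O) (ComplexShape.up ℤ)).map (gammaCx I₀ I)) := by
  have e : (NatTrans.mapHomologicalComplex (FTors.gammaι I₀) (ComplexShape.up ℤ)).app I ≫
      (Functor.mapHomologicalComplexIdIso (ModSite.Mod O) (ComplexShape.up ℤ)).hom.app I = gammaCx I₀ I :=
    HomologicalComplex.hom_ext _ _ fun i => Category.comp_id _
  rw [← e, Functor.map_comp, Functor.map_comp]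
  refine (Quotient.natTransLift_app _ _ _ (FTors.gammaτ0 I₀) I).trans ?_
  simp only [FTors.gammaτ0, NatTrans.comp_app, Functor.associator_inv_app, Functor.associator_hom_app,
    Functor.whiskerRight_app, Functor.leftUnitor_hom_app]
  erw [Category.id_comp, Category.id_comp, Category.comp_id]

theorem isIso_gammaτ_app_iff (I : CochainComplex (ModSite.Mod O) ℤ) :
    IsIso ((FTors.gammaτ I₀).app (hq I)) ↔ QuasiIso (gammaCx I₀ I) := by
  rw [gammaτ_app, isIso_comp_left_iff, ← isIso_Q_map_iff_quasiIso]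
  exact NatIso.isIso_map_iff (quotientCompQhIso (ModSite.Mod O)) (gammaCx I₀ I)


theorem isTorsF_homology_of_tors {I : CochainComplex (ModSite.Mod O) ℤ}
    (hI : ∀ i, FTors.IsTors I₀ (I.X i)) (i : ℤ) : FTors.IsTors I₀ (I.homology i) :=
  isTors_of_epi I₀ (I.homologyπ i) (isTors_of_mono I₀ (I.iCycles i) (hI i))

theorem quasiIso_gammaCx_of_tors {I : CochainComplex (ModSite.Mod O) ℤ}
    (hI : ∀ i, FTors.IsTors I₀ (I.X i)) : QuasiIso (gammaCx I₀ I) := by
  haveI : ∀ i, IsIso ((gammaCx I₀ I).f i) := fun i => isIso_gammaι_of_tors I₀ (hI i)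
  haveI := HomologicalComplex.Hom.isIso_of_components (gammaCx I₀ I)
  infer_instance

theorem homology_iso_HMod (I : CochainComplex (ModSite.Mod O) ℤ) (i : ℤ) :
    Nonempty (SiteCmp.HMod (Qh.obj (hq I)) i ≅ I.homology i) :=
  ⟨(homologyFunctor (ModSite.Mod O) i).mapIso ((quotientCompQhIso (ModSite.Mod O)).app I) ≪≫
    (homologyFunctorFactors (ModSite.Mod O) i).app I⟩

theorem isDTorsF_iff (I : CochainComplex (ModSite.Mod O) ℤ) :
    FTors.IsDTors I₀ (Qh.obj (hq I)) ↔ ∀ i, FTors.IsTors I₀ (I.homology i) := by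
  haveI := isClosedUnderIsomorphisms_isTors I₀
  refine forall_congr' fun i => ?_
  obtain ⟨e⟩ := homology_iso_HMod I i
  exact (FTors.IsTors I₀).prop_iff_of_iso e

theorem isClosedUnderIsomorphisms_isDTorsF : (FTors.IsDTors I₀).IsClosedUnderIsomorphisms :=
  ⟨fun e hX i =>
    haveI := isClosedUnderIsomorphisms_isTors I₀
    (FTors.IsTors I₀).prop_of_iso ((homologyFunctor (ModSite.Mod O) i).mapIso e) (hX i)⟩

theorem isGrothendieckAbelian_modF : IsGrothendieckAbelian.{u} (ModSite.Mod O) :=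
  S0484.result (Opens.grothendieckTopology T) (ModSite.ringSh O)

/-- Every object is represented by a K-injective complex of injectives. -/
theorem exists_kInjective_rep (E : DerivedCategory (ModSite.Mod O)) :
    ∃ I : CochainComplex (ModSite.Mod O) ℤ,
      I.IsKInjective ∧ (∀ i, Injective (I.X i)) ∧ Nonempty (Qh.obj (hq I) ≅ E) :=
  @exists_rep (ModSite.Mod O) _ _ (isGrothendieckAbelian_modF (T := T) (O := O)) E

variable [FTors.HasRgamma I₀]

theorem isIso_uR_app (I : CochainComplex (ModSite.Mod O) ℤ) [I.IsKInjective] :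
    IsIso ((uR I₀).app (hq I)) := by
  haveI := isGrothendieckAbelian_modF (T := T) (O := O)
  haveI := H9Misc.GPDerived.qh_isLeftAdjoint (ModSite.Mod O)
  let adjQ := Adjunction.ofIsLeftAdjoint (Qh (C := ModSite.Mod O))
  let W := HomotopyCategory.quasiIso (ModSite.Mod O) (ComplexShape.up ℤ)
  let G := FTors.gammaKh I₀
  haveI := TriCat.isRightDerivedFunctor_of_adjunction adjQ W G
  let β : G ⟶ Qh ⋙ Qh.rightAdjoint ⋙ G := Functor.whiskerRight adjQ.unit G
  let θ := (Qh.rightAdjoint ⋙ G).rightDerivedDesc β W _ (uR I₀)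
  haveI : IsIso θ :=
    ((Qh.rightAdjoint ⋙ G).isRightDerivedFunctor_iff_isIso_rightDerivedDesc β W _ (uR I₀)).1 inferInstance
  have e := (Qh.rightAdjoint ⋙ G).rightDerived_fac_app β W _ (uR I₀) (hq I)
  rw [← e]
  haveI := TriCat.isIso_unit_of_isKInjective adjQ I
  haveI : IsIso (β.app (hq I)) := inferInstanceAs (IsIso (G.map (adjQ.unit.app (hq I))))
  infer_instance

theorem isDTorsF_RgammaT (E : DerivedCategory (ModSite.Mod O)) :
    FTors.IsDTors I₀ ((FTors.Rgamma I₀).obj E) := by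
  obtain ⟨I, hI, -, ⟨e⟩⟩ := exists_kInjective_rep E
  haveI := isClosedUnderIsomorphisms_isDTorsF I₀
  haveI := hI
  haveI := isIso_uR_app I₀ I
  refine (FTors.IsDTors I₀).prop_of_iso
    ((Qh.mapIso (((FTors.gamma O I₀).mapHomotopyCategoryFactors (ComplexShape.up ℤ)).app I)).symm ≪≫
      asIso ((uR I₀).app (hq I)) ≪≫ (FTors.Rgamma I₀).mapIso e) ?_
  exact (isDTorsF_iff I₀ _).2 (isTorsF_homology_of_tors I₀ fun i => isTors_gamma I₀ (I.X i))

/-- A complex has torsion cohomology iff its derived torsion maps isomorphically to it. -/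
theorem isDTorsF_iff_isIso (hA : HasAcyc I₀) (E : DerivedCategory (ModSite.Mod O)) :
    FTors.IsDTors I₀ E ↔ IsIso ((FTors.Rgammaε I₀).app E) := by
  haveI := isClosedUnderIsomorphisms_isDTorsF I₀
  constructor
  · intro hE
    obtain ⟨I, hI, hinj, ⟨e⟩⟩ := exists_kInjective_rep E
    haveI := hI
    haveI := isIso_uR_app I₀ I
    haveI : IsIso ((uR I₀).app (hq I) ≫ (FTors.Rgammaε I₀).app (Qh.obj (hq I))) := by
      rw [uR_fac]
      exact (isIso_gammaτ_app_iff I₀ I).2 (hA I hinj
        ((isDTorsF_iff I₀ I).1 ((FTors.IsDTors I₀).prop_of_iso e.symm hE)))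
    haveI := IsIso.of_isIso_comp_left ((uR I₀).app (hq I)) ((FTors.Rgammaε I₀).app (Qh.obj (hq I)))
    exact (NatTrans.isIso_app_iff_of_iso (FTors.Rgammaε I₀) e).1 inferInstance
  · intro hE
    exact (FTors.IsDTors I₀).prop_of_iso (asIso ((FTors.Rgammaε I₀).app E)) (isDTorsF_RgammaT I₀ E)

theorem isIso_uR_app_of_tors (hA : HasAcyc I₀) {I : CochainComplex (ModSite.Mod O) ℤ}
    (hI : ∀ i, FTors.IsTors I₀ (I.X i)) : IsIso ((uR I₀).app (hq I)) := by
  haveI := (isDTorsF_iff_isIso I₀ hA _).1 ((isDTorsF_iff I₀ I).2 (isTorsF_homology_of_tors I₀ hI))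
  haveI : IsIso ((uR I₀).app (hq I) ≫ (FTors.Rgammaε I₀).app (Qh.obj (hq I))) := by
    rw [uR_fac]
    exact (isIso_gammaτ_app_iff I₀ I).2 (quasiIso_gammaCx_of_tors I₀ hI)
  exact IsIso.of_isIso_comp_right _ ((FTors.Rgammaε I₀).app (Qh.obj (hq I)))

omit [FTors.HasRgamma I₀] in
theorem isIso_gammaT_map_gammaCx I₀ (I : CochainComplex (ModSite.Mod O) ℤ) :
    IsIso (((FTors.gamma O I₀).mapHomologicalComplex (ComplexShape.up ℤ)).map (gammaCx I₀ I)) := by
  haveI : ∀ i, IsIso ((FTors.gamma O I₀).map ((FTors.gammaι I₀).app (I.X i))) := fun i => by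
    haveI := isIso_gammaι_of_tors I₀ (isTors_gamma I₀ (I.X i))
    haveI := mono_gammaι I₀ (I.X i)
    have : (FTors.gamma O I₀).map ((FTors.gammaι I₀).app (I.X i)) =
        (FTors.gammaι I₀).app ((FTors.gamma O I₀).obj (I.X i)) := by
      rw [← cancel_mono ((FTors.gammaι I₀).app (I.X i))]
      exact (FTors.gammaι I₀).naturality ((FTors.gammaι I₀).app (I.X i))
    rw [this]
    infer_instance
  haveI : ∀ i, IsIso ((((FTors.gamma O I₀).mapHomologicalComplex (ComplexShape.up ℤ)).map (gammaCx I₀ I)).f i) :=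
    fun i => this i
  exact HomologicalComplex.Hom.isIso_of_components _

theorem isIso_map_RgammaTε (hA : HasAcyc I₀) (F : DerivedCategory (ModSite.Mod O)) :
    IsIso ((FTors.Rgamma I₀).map ((FTors.Rgammaε I₀).app F)) := by
  obtain ⟨I, hI, -, ⟨e⟩⟩ := exists_kInjective_rep F
  haveI := hI
  haveI := isIso_uR_app I₀ I
  suffices hs : IsIso ((FTors.Rgamma I₀).map ((FTors.Rgammaε I₀).app (Qh.obj (hq I)))) by
    haveI := hs
    have e1 : (FTors.Rgammaε I₀).app F = (FTors.Rgamma I₀).map e.inv ≫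
        (FTors.Rgammaε I₀).app (Qh.obj (hq I)) ≫ e.hom := by
      refine ((cancel_epi ((FTors.Rgamma I₀).map e.hom)).1 ?_)
      rw [← Category.assoc ((FTors.Rgamma I₀).map e.hom), ← Functor.map_comp, Iso.hom_inv_id,
        CategoryTheory.Functor.map_id, Category.id_comp]
      exact (FTors.Rgammaε I₀).naturality e.hom
    rw [e1, Functor.map_comp, Functor.map_comp]
    infer_instance
  let G := FTors.gammaKh I₀
  let K : CochainComplex (ModSite.Mod O) ℤ :=
    ((FTors.gamma O I₀).mapHomologicalComplex (ComplexShape.up ℤ)).obj I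
  let ι : hq K ⟶ hq I := (HomotopyCategory.quotient (ModSite.Mod O) (ComplexShape.up ℤ)).map (gammaCx I₀ I)
  haveI : IsIso ((uR I₀).app (hq K)) := isIso_uR_app_of_tors I₀ hA fun i => isTors_gamma I₀ (I.X i)
  haveI : IsIso (G.map ι) := by
    haveI := isIso_gammaT_map_gammaCx I₀ I
    haveI : IsIso (((FTors.gamma O I₀).mapHomotopyCategory (ComplexShape.up ℤ)).map ι) :=
      (NatIso.isIso_map_iff ((FTors.gamma O I₀).mapHomotopyCategoryFactors (ComplexShape.up ℤ)) (gammaCx I₀ I)).2
        (inferInstanceAs (IsIso ((HomotopyCategory.quotient (ModSite.Mod O) (ComplexShape.up ℤ)).map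
          (((FTors.gamma O I₀).mapHomologicalComplex (ComplexShape.up ℤ)).map (gammaCx I₀ I)))))
    exact inferInstanceAs (IsIso (Qh.map (((FTors.gamma O I₀).mapHomotopyCategory (ComplexShape.up ℤ)).map ι)))
  have n : G.map ι ≫ (uR I₀).app (hq I) = (uR I₀).app (hq K) ≫ (FTors.Rgamma I₀).map (Qh.map ι) :=
    (uR I₀).naturality ι
  haveI : IsIso ((uR I₀).app (hq K) ≫ (FTors.Rgamma I₀).map (Qh.map ι)) := by rw [← n]; infer_instance
  haveI := IsIso.of_isIso_comp_left ((uR I₀).app (hq K)) ((FTors.Rgamma I₀).map (Qh.map ι))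
  have e2 : (FTors.Rgammaε I₀).app (Qh.obj (hq I)) = inv ((uR I₀).app (hq I)) ≫
      Qh.map (((FTors.gamma O I₀).mapHomotopyCategoryFactors (ComplexShape.up ℤ)).hom.app I) ≫ Qh.map ι := by
    rw [IsIso.eq_inv_comp, uR_fac, gammaτ_app]
  rw [e2, Functor.map_comp, Functor.map_comp]
  infer_instance

/-- Maps from complexes with torsion cohomology factor uniquely through the derived torsion. -/
theorem comp_ε_bijective (hA : HasAcyc I₀) {E F : DerivedCategory (ModSite.Mod O)} (hE : FTors.IsDTors I₀ E) :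
    Function.Bijective (fun φ : E ⟶ (FTors.Rgamma I₀).obj F => φ ≫ (FTors.Rgammaε I₀).app F) := by
  haveI := (isDTorsF_iff_isIso I₀ hA E).1 hE
  haveI := isIso_map_RgammaTε I₀ hA F
  constructor
  · intro a b hab
    have h1 := congrArg ((FTors.Rgamma I₀).map) hab
    rw [Functor.map_comp, Functor.map_comp, cancel_mono] at h1
    refine (cancel_epi ((FTors.Rgammaε I₀).app E)).1 ?_
    exact ((FTors.Rgammaε I₀).naturality a).symm.trans
      ((congrArg (· ≫ (FTors.Rgammaε I₀).app _) h1).trans ((FTors.Rgammaε I₀).naturality b))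
  · intro ψ
    refine ⟨inv ((FTors.Rgammaε I₀).app E) ≫ (FTors.Rgamma I₀).map ψ, ?_⟩
    change (_ ≫ _) ≫ _ = ψ
    rw [Category.assoc, IsIso.inv_comp_eq]
    exact (FTors.Rgammaε I₀).naturality ψ

end Groth.Agent.FTorsL.Gen
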