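import Groth.Agent.FTorsL.Acyc
import Groth.Prelude.Def_FTors3

/-!
# Torsion for a family of ideals on a space
-/

set_option autoImplicit false
set_option backward.isDefEq.respectTransparency false
set_option backward.isDefEq.respectTransparency.types false
set_option linter.style.haveILetI false

universe u

open CategoryTheory CategoryTheory.Limits AlgebraicGeometry TopologicalSpace Opposite
open Groth.Agent.H9FCoh Groth.Agent.ClosedRinged
open Groth.Agent.RngSp (pt gm mp fns)

noncomputable section

namespace Groth.Agent.FTorsL.Gen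

variable {T : TopCat.{u}} {O : TopCat.Sheaf CommRingCat.{u} T} (I : FTors.IdealFam O)

theorem injective_gammaι (M : ModSite.Mod O) (W : Opens T) :
    Function.Injective (mp ((FTors.gammaι I).app M) W) := fun _ _ e => Subtype.ext e

theorem isIso_gammaι_of_tors {M : ModSite.Mod O} (hM : FTors.IsTors I M) : IsIso ((FTors.gammaι I).app M) :=
  isIso_of_bijective_mp _ fun W => ⟨injective_gammaι I M W, fun s => ⟨⟨s, hM W s⟩, rfl⟩⟩

theorem mono_gammaι (M : ModSite.Mod O) : Mono ((FTors.gammaι I).app M) :=
  ⟨fun a b e => SheafOfModules.hom_ext (PresheafOfModules.Hom.ext (funext fun W => ModuleCat.hom_ext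
    (LinearMap.ext fun z => injective_gammaι I M W.unop (congrArg (fun t => mp t W.unop z) e))))⟩

theorem isTors_gamma (M : ModSite.Mod O) : FTors.IsTors I ((FTors.gamma O I).obj M) := by
  intro U s
  exact (FTors.IsTorsSect.iff_exists s).2 ((FTors.IsTorsSect.iff_exists s.1).1 s.2 |>.imp fun S hS =>
    ⟨hS.1, fun V g hg => (hS.2 g hg).imp fun n hn W g' a ha => Subtype.ext (hn g' a ha)⟩)

theorem isTors_of_mono {M N : ModSite.Mod O} (f : M ⟶ N) [Mono f] (hN : FTors.IsTors I N) : FTors.IsTors I M := by
  intro U s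
  refine (FTors.IsTorsSect.iff_exists s).2 ((FTors.IsTorsSect.iff_exists (mp f U s)).1 (hN U _) |>.imp fun S hS =>
    ⟨hS.1, fun V g hg => (hS.2 g hg).imp fun n hn W g' a ha => ?_⟩)
  refine eq_of_gm fun p hp => fx_injective f p ?_
  rw [RngSp.gm_zero, map_zero, fx_gm]
  have h1 : mp f W (HSMul.hSMul (α := fns O W) a (res M g'.le (res M g.le s))) = 0 := by
    rw [map_smul, RngSp.mp_res, RngSp.mp_res]
    exact hn g' a ha
  exact (congrArg (gm N hp) h1).trans (RngSp.gm_zero hp)

theorem isTors_of_epi {M N : ModSite.Mod O} (f : M ⟶ N) [Epi f] (hM : FTors.IsTors I M) : FTors.IsTors I N := by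
  intro U s x hx
  obtain ⟨W, hW, hxW, t, ht⟩ := RngSp.exists_mp_eq f s x hx
  obtain ⟨V, g, ⟨n, hn⟩, hxV⟩ := (show FTors.killSieve I M t ∈ Opens.grothendieckTopology T W from hM W t) x hxW
  refine ⟨V, g ≫ homOfLE hW, ⟨n, ?_⟩, hxV⟩
  have e : mp f V (res M g.le t) = res N (g.le.trans hW) s := by rw [RngSp.mp_res, ht, res_res]
  have h1 : FTors.KilledBy I N n (mp f V (res M g.le t)) := FTors.KilledBy.hom f hn
  rw [e] at h1
  exact h1

theorem isClosedUnderIsomorphisms_isTors : (FTors.IsTors I).IsClosedUnderIsomorphisms :=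
  ⟨fun e hM => isTors_of_epi I e.hom hM⟩

/-- The inclusion of the torsion subcomplex. -/
def gammaCx (K : CochainComplex (ModSite.Mod O) ℤ) :
    ((FTors.gamma O I).mapHomologicalComplex (ComplexShape.up ℤ)).obj K ⟶ K where
  f i := (FTors.gammaι I).app (K.X i)
  comm' i j _ := ((FTors.gammaι I).naturality (K.d i j)).symm

theorem mono_gammaCx (K : CochainComplex (ModSite.Mod O) ℤ) : Mono (gammaCx I K) := by
  haveI : ∀ i, Mono ((gammaCx I K).f i) := fun i => mono_gammaι I (K.X i)
  exact HomologicalComplex.mono_of_mono_f _ inferInstance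

/-- Complexes of injectives with torsion cohomology are resolved by their torsion subcomplexes. -/
def HasAcyc : Prop :=
  ∀ K : CochainComplex (ModSite.Mod O) ℤ, (∀ i, Injective (K.X i)) → (∀ i, FTors.IsTors I (K.homology i)) →
    QuasiIso (gammaCx I K)

end Groth.Agent.FTorsL.Gen
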