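import Groth.Agent.FTorsL.Coref
import Groth.Agent.H9FCoh.RAdj
import Groth.Agent.H9Misc.AdjDescend
import Groth.Agent.TriCat.KInjRes
import Groth.Agent.S19542
import Groth.Agent.S0484

/-!
# The category of quasi-coherent torsion modules and the derived direct image
-/

set_option autoImplicit false
set_option backward.isDefEq.respectTransparency false
set_option backward.isDefEq.respectTransparency.types false
set_option linter.style.haveILetI false

universe u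

open CategoryTheory CategoryTheory.Limits AlgebraicGeometry TopologicalSpace Opposite DerivedCategory
open Groth.Agent.H9FCoh

attribute [local instance] HasDerivedCategory.standard

noncomputable section

namespace Groth.Agent.FTorsL

variable {𝔛 : FSch.Sys.{u}} (h : 𝔛.IsLocNoethFormal)

theorem isClosedUnderIsomorphisms_qct : (FTors.IsQCT 𝔛 h.1).IsClosedUnderIsomorphisms :=
  ⟨fun e hM => ⟨isTorsF_of_epi h e.hom hM.1,
    (SheafOfModules.isQuasicoherent (ModSite.ringSh (𝔛.Osh h.1))).prop_of_iso e hM.2⟩⟩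

include h in
theorem isGrothendieckAbelian_qct [(FTors.IsQCT 𝔛 h.1).ContainsZero] [(FTors.IsQCT 𝔛 h.1).IsClosedUnderKernels]
    [(FTors.IsQCT 𝔛 h.1).IsClosedUnderCokernels] [(FTors.IsQCT 𝔛 h.1).IsClosedUnderFiniteProducts]
    [PreservesFiniteLimits (FTors.IsQCT 𝔛 h.1).ι] :
    IsGrothendieckAbelian.{u} (FTors.IsQCT 𝔛 h.1).FullSubcategory := by
  haveI : IsGrothendieckAbelian.{u} (FSch.ModF 𝔛 h.1) :=
    S0484.result (Opens.grothendieckTopology (𝔛.X 0).toPresheafedSpace.carrier) (ModSite.ringSh (𝔛.Osh h.1))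
  let P : ObjectProperty (FSch.ModF 𝔛 h.1) := FTors.IsQCT 𝔛 h.1
  haveI : P.IsClosedUnderIsomorphisms := isClosedUnderIsomorphisms_qct h
  haveI hcl : ∀ (J : Type u) [SmallCategory J], P.IsClosedUnderColimitsOfShape J := fun J _ =>
    ObjectProperty.IsClosedUnderColimitsOfShape.mk' (by
      rintro _ ⟨F, hF⟩
      exact isQCT_colimit h (colimit.isColimit F) hF)
  haveI hcol : ∀ (J : Type u) [SmallCategory J], HasColimitsOfShape J P.FullSubcategory := fun J _ => inferInstance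
  haveI : P.ι.IsLeftAdjoint := isLeftAdjoint_ι_qct h
  haveI : HasColimitsOfSize.{u, u} P.FullSubcategory := ⟨fun J => inferInstance⟩
  haveI : HasFilteredColimitsOfSize.{u, u} P.FullSubcategory := ⟨fun _ _ _ => inferInstance⟩
  haveI : ReflectsFiniteLimits P.ι := ⟨fun J _ _ => inferInstance⟩
  haveI : AB5OfSize.{u, u} P.FullSubcategory :=
    ⟨fun J _ _ => HasExactColimitsOfShape.domain_of_functor J P.ι⟩
  haveI : ObjectProperty.EssentiallySmall.{u} (fpP (𝔛.Osh h.1)) :=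
    haveI := essentiallySmall_isFT (O := 𝔛.Osh h.1)
    ObjectProperty.EssentiallySmall.of_le (Q := fun M : ModSite.Mod (𝔛.Osh h.1) => IsFT M) fun P hP => isFT_of_isFP hP
  obtain ⟨Q, hQ, hQle, hle⟩ := ObjectProperty.EssentiallySmall.exists_small_le.{u} (fpP (𝔛.Osh h.1))
  let obj : {a : Shrink.{u} (Subtype Q) // FTors.IsTorsF 𝔛 h.1 ((equivShrink (Subtype Q)).symm a).1} → P.FullSubcategory :=
    fun a => ⟨((equivShrink (Subtype Q)).symm a.1).1, a.2, isQC_of_isFP (hQle _ ((equivShrink (Subtype Q)).symm a.1).2)⟩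
  refine { hasSeparator := ⟨∐ obj, (isSeparator_sigma obj).2 fun A B f g hfg => ?_⟩ }
  obtain ⟨J, hJ, hJf, pres, hP, hmono⟩ := S19542.result 𝔛 h A.obj (ind_of_isQCT h A.property)
  refine ObjectProperty.hom_ext _ (pres.isColimit.hom_ext fun j => ?_)
  obtain ⟨M, hM, ⟨e⟩⟩ := hle _ (hP j)
  haveI := hmono j
  have hMt : FTors.IsTorsF 𝔛 h.1 M := isTorsF_of_mono h (e.inv ≫ pres.ι.app j) A.property.1
  let a : {a : Shrink.{u} (Subtype Q) // FTors.IsTorsF 𝔛 h.1 ((equivShrink (Subtype Q)).symm a).1} :=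
    ⟨equivShrink (Subtype Q) ⟨M, hM⟩, by rw [Equiv.symm_apply_apply]; exact hMt⟩
  have := congrArg (fun q => q.hom) (hfg (obj a) (ObjectProperty.ofObj_apply obj _)
    (ObjectProperty.homMk ((eqToHom (by simp [obj, a]) : (obj a).obj ⟶ M) ≫ e.inv ≫ pres.ι.app j)))
  simp only [ObjectProperty.FullSubcategory.comp_hom, ObjectProperty.homMk_hom, Category.assoc] at this
  exact (cancel_epi e.inv).1 ((cancel_epi (eqToHom _)).1 this)

include h in
theorem isLeftAdjoint_mapDerived_qct [(FTors.IsQCT 𝔛 h.1).ContainsZero] [(FTors.IsQCT 𝔛 h.1).IsClosedUnderKernels]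
    [(FTors.IsQCT 𝔛 h.1).IsClosedUnderCokernels] [(FTors.IsQCT 𝔛 h.1).IsClosedUnderFiniteProducts]
    [PreservesFiniteLimits (FTors.IsQCT 𝔛 h.1).ι] [PreservesFiniteColimits (FTors.IsQCT 𝔛 h.1).ι] :
    (FTors.IsQCT 𝔛 h.1).ι.mapDerivedCategory.IsLeftAdjoint := by
  haveI : IsGrothendieckAbelian.{u} (FSch.ModF 𝔛 h.1) :=
    S0484.result _ (ModSite.ringSh (𝔛.Osh h.1))
  haveI hι : (FTors.IsQCT 𝔛 h.1).ι.IsLeftAdjoint := isLeftAdjoint_ι_qct h
  haveI : (DerivedCategory.Qh (C := FSch.ModF 𝔛 h.1)).IsLeftAdjoint :=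
    TriCat.qh_isLeftAdjoint_of_exists_resolution fun L => by
      obtain ⟨I, f, hI, hf, -, -⟩ := TriCat.exists_kInjective_resolution' L
      exact ⟨I, f, hI, hf⟩
  let adj := Adjunction.ofIsLeftAdjoint (FTors.IsQCT 𝔛 h.1).ι
  haveI : (FTors.IsQCT 𝔛 h.1).ι.rightAdjoint.Additive := adj.right_adjoint_additive
  exact (H9Misc.AdjDescend.derivedAdj adj
    (Adjunction.ofIsLeftAdjoint (DerivedCategory.Qh (C := FSch.ModF 𝔛 h.1)))).isLeftAdjoint

variable {𝔜 : FSch.Sys.{u}} (h𝔜 : 𝔜.IsFormal) (g : 𝔛 ⟶ 𝔜)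
  [CompactSpace (𝔛.X 0)] [CompactSpace (𝔜.X 0)] [SiteCmp.HasRpushD (FSch.homMor g h.1 h𝔜)]

theorem isLeftAdjoint_mapDerived_qct_RpushD [(FTors.IsQCT 𝔛 h.1).ContainsZero] [(FTors.IsQCT 𝔛 h.1).IsClosedUnderKernels]
    [(FTors.IsQCT 𝔛 h.1).IsClosedUnderCokernels] [(FTors.IsQCT 𝔛 h.1).IsClosedUnderFiniteProducts]
    [PreservesFiniteLimits (FTors.IsQCT 𝔛 h.1).ι] [PreservesFiniteColimits (FTors.IsQCT 𝔛 h.1).ι] :
    ((FTors.IsQCT 𝔛 h.1).ι.mapDerivedCategory ⋙ SiteCmp.RpushD (FSch.homMor g h.1 h𝔜)).IsLeftAdjoint := by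
  haveI : IsGrothendieckAbelian.{u} (FSch.ModF 𝔛 h.1) :=
    S0484.result (Opens.grothendieckTopology (𝔛.X 0).toPresheafedSpace.carrier) (ModSite.ringSh (𝔛.Osh h.1))
  haveI : IsGrothendieckAbelian.{u} (FSch.ModF 𝔜 h𝔜) :=
    S0484.result (Opens.grothendieckTopology (𝔜.X 0).toPresheafedSpace.carrier) (ModSite.ringSh (𝔜.Osh h𝔜))
  haveI := isGrothendieckAbelian_qct h
  haveI := isLeftAdjoint_mapDerived_qct h
  haveI := isClosedUnderIsomorphisms_qct h
  let P : ObjectProperty (FSch.ModF 𝔛 h.1) := FTors.IsQCT 𝔛 h.1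
  let R := SiteCmp.RpushD (FSch.homMor g h.1 h𝔜)
  obtain ⟨R', hR', hR'', ⟨e⟩⟩ := SiteCmpLib.Secs.exists_commShift_RG (FSch.homMor g h.1 h𝔜).push
  haveI hpres : ∀ ι : Type u, PreservesColimitsOfShape (Discrete ι) (P.ι.mapDerivedCategory ⋙ R') := fun ι => by
    suffices h : ∀ C : ι → DerivedCategory P.FullSubcategory,
        PreservesColimit (Discrete.functor C) (P.ι.mapDerivedCategory ⋙ R') from
      ⟨fun {K} => haveI := h (fun j => K.obj ⟨j⟩); preservesColimit_of_iso_diagram _ Discrete.natIsoFunctor.symm⟩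
    intro C
    haveI := preservesColimit_RpushD_discrete h h𝔜 g ι (fun a => P.ι.mapDerivedCategory.obj (C a))
      fun a i => ind_of_isQCT h (prop_homology_mapDerivedCategory P P.ι (fun M => M.property) (C a) i)
    haveI : PreservesColimit (Discrete.functor fun a => P.ι.mapDerivedCategory.obj (C a)) R' :=
      preservesColimit_of_natIso _ e.symm
    haveI : PreservesColimit (Discrete.functor C ⋙ P.ι.mapDerivedCategory) R' :=
      preservesColimit_of_iso_diagram _ (Discrete.natIso fun _ => Iso.refl _ :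
        Discrete.functor (fun a => P.ι.mapDerivedCategory.obj (C a)) ≅ Discrete.functor C ⋙ P.ι.mapDerivedCategory)
    infer_instance
  haveI := isLeftAdjoint_of_std (P.ι.mapDerivedCategory ⋙ R')
  exact Functor.isLeftAdjoint_of_iso (Functor.isoWhiskerLeft P.ι.mapDerivedCategory e)

theorem isLeftAdjoint_dqct_RpushD [(FTors.IsQCT 𝔛 h.1).ContainsZero] [(FTors.IsQCT 𝔛 h.1).IsClosedUnderKernels]
    [(FTors.IsQCT 𝔛 h.1).IsClosedUnderCokernels] [(FTors.IsQCT 𝔛 h.1).IsClosedUnderFiniteProducts]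
    [PreservesFiniteLimits (FTors.IsQCT 𝔛 h.1).ι] [PreservesFiniteColimits (FTors.IsQCT 𝔛 h.1).ι]
    (hj : (FTors.IsQCT 𝔛 h.1).ι.mapDerivedCategory.Full ∧ (FTors.IsQCT 𝔛 h.1).ι.mapDerivedCategory.Faithful ∧
      ∀ G : DerivedCategory (FSch.ModF 𝔛 h.1),
        (FTors.IsQCT 𝔛 h.1).ι.mapDerivedCategory.essImage G ↔ FTors.IsDQCT 𝔛 h.1 G) :
    ((FTors.IsDQCT 𝔛 h.1).ι ⋙ SiteCmp.RpushD (FSch.homMor g h.1 h𝔜)).IsLeftAdjoint := by
  obtain ⟨hfull, hfaith, hess⟩ := hj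
  haveI := hfull
  haveI := hfaith
  let j := (FTors.IsQCT 𝔛 h.1).ι.mapDerivedCategory
  let L := (FTors.IsDQCT 𝔛 h.1).lift j fun X => (hess _).1 (j.obj_mem_essImage X)
  haveI : L.EssSurj := ⟨fun G => by
    obtain ⟨X, ⟨e⟩⟩ := (hess G.obj).2 G.property
    exact ⟨X, ⟨ObjectProperty.isoMk _ e⟩⟩⟩
  haveI : L.IsEquivalence := {}
  haveI := isLeftAdjoint_mapDerived_qct_RpushD h h𝔜 g
  haveI : (L ⋙ (FTors.IsDQCT 𝔛 h.1).ι ⋙ SiteCmp.RpushD (FSch.homMor g h.1 h𝔜)).IsLeftAdjoint :=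
    Functor.isLeftAdjoint_of_iso
      (Functor.isoWhiskerRight ((FTors.IsDQCT 𝔛 h.1).liftCompιIso j fun X => (hess _).1 (j.obj_mem_essImage X)).symm
        (SiteCmp.RpushD (FSch.homMor g h.1 h𝔜)) ≪≫ Functor.associator _ _ _)
  let e : L.asEquivalence.inverse ⋙ L ⋙ (FTors.IsDQCT 𝔛 h.1).ι ⋙ SiteCmp.RpushD (FSch.homMor g h.1 h𝔜) ≅
      (FTors.IsDQCT 𝔛 h.1).ι ⋙ SiteCmp.RpushD (FSch.homMor g h.1 h𝔜) :=
    (Functor.associator _ _ _).symm ≪≫ Functor.isoWhiskerRight L.asEquivalence.counitIso _ ≪≫ Functor.leftUnitor _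
  exact Functor.isLeftAdjoint_of_iso e

end Groth.Agent.FTorsL
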