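import Groth.Agent.FTorsL.Sub
import Groth.Agent.H9FCoh.Lin2

/-!
# Germs of injective modules have extensions of compatible values
-/

set_option autoImplicit false
set_option backward.isDefEq.respectTransparency false
set_option backward.isDefEq.respectTransparency.types false
set_option linter.style.haveILetI false

universe u

open CategoryTheory CategoryTheory.Limits TopologicalSpace Opposite
open Groth.Agent.H9FCoh Groth.Agent.ClosedRinged Groth.Agent.ModPull
open Groth.Agent.RngSp (pt gm mp fns)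

noncomputable section

namespace Groth.Agent.FTorsL

variable {X : TopCat.{u}} {O : TopCat.Sheaf CommRingCat.{u} X}

variable (O) in
/-- The structure sheaf as a module. -/
abbrev unitM : ModSite.Mod O := SheafOfModules.unit (ModSite.ringSh O)

/-- The unit section. -/
def one' (V : Opens X) : (unitM O).val.obj (op V) := (1 : fns O V)

/-- A function as a section of the structure sheaf. -/
def fn' {V : Opens X} (a : Fn O V) : (unitM O).val.obj (op V) := (show fns O V from a)

theorem gm_fn' {V : Opens X} {x : X} (hx : x ∈ V) (a : Fn O V) :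
    gm (unitM O) hx (fn' a) = gH O hx a • gm (unitM O) hx (one' V) :=
  (congrArg (gm (unitM O) hx) (mul_one (show fns O V from a)).symm).trans (RngSp.gm_smul hx _ _)

theorem gm_one_res {U V : Opens X} (hVU : V ≤ U) {x : X} (hx : x ∈ V) :
    gm (unitM O) hx (one' V) = gm (unitM O) (hVU hx) (one' U) :=
  (congrArg (gm (unitM O) hx) (map_one ((ModSite.ringSh O).obj.map (homOfLE hVU).op).hom).symm).trans
    (RngSp.gm_res (M := unitM O) hVU hx (one' U))

theorem eq_zero_of_smul_one {V : Opens X} {x : X} (hx : x ∈ V) (r : St O x)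
    (hr : r • gm (unitM O) hx (one' V) = 0) : r = 0 := by
  obtain ⟨W, hxW, a, rfl⟩ := exists_gH r
  have h1 : gm (unitM O) (show x ∈ W ⊓ V from ⟨hxW, hx⟩) (fn' (rr O inf_le_left a)) = 0 := by
    rw [gm_fn', gH_rr, gm_one_res (inf_le_right : W ⊓ V ≤ V)]
    exact hr
  rw [← RngSp.gm_zero (M := unitM O) (show x ∈ W ⊓ V from ⟨hxW, hx⟩)] at h1
  obtain ⟨V', hV', hxV', he⟩ := (RngSp.gm_eq_iff _ _ _).1 h1
  rw [res_zero] at he
  have h2 := congrArg (fun z => gH O hxV' (show Fn O V' from z)) (show rr O hV' (rr O inf_le_left a) = 0 from he)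
  simpa only [gH_rr, map_zero] using h2

/-- A module with the extension property of injective modules, over functions on an open. -/
theorem exists_smul_eq_of_injective (I : ModSite.Mod O) [Injective I] {U : Opens X} {x : X} (hx : x ∈ U)
    [IsNoetherianRing (Fn O U)] (hflat : ∀ (y : X) (hy : y ∈ U), (gH O hy).Flat)
    {n : ℕ} (a : Fin n → Fn O U) (m : Fin n → ModSite.stalkAb (pt x) I)
    (hm : ∀ c : Fin n → Fn O U, ∑ i, c i * a i = 0 → ∑ i, gH O hx (c i) • m i = 0) :
    ∃ e : ModSite.stalkAb (pt x) I, ∀ i, m i = gH O hx (a i) • e := by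
  classical
  choose W hW s hs using fun i => RngSp.exists_gm (m i)
  let K : Submodule (Fn O U) (Fin n → Fn O U) := LinearMap.ker (Fintype.linearCombination (Fn O U) a)
  obtain ⟨k, r, hr⟩ := Submodule.fg_iff_exists_fin_generating_family.1 (IsNoetherian.noetherian K)
  let V₀ : Opens X := U ⊓ ⨅ i, W i
  have hx₀ : x ∈ V₀ := ⟨hx, (Opens.coe_iInf W).ge (Set.mem_iInter.2 hW)⟩
  let s₀ : Fin n → I.val.obj (op V₀) := fun i => res I (inf_le_right.trans (iInf_le _ i)) (s i)
  have hs₀ : ∀ i, gm I hx₀ (s₀ i) = m i := fun i => (RngSp.gm_res _ hx₀ _).trans (hs i)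
  have hrel : ∀ l, ∃ (V : Opens X) (hV : V ≤ V₀), x ∈ V ∧
      ∀ y (hy : y ∈ V), ∑ i, gH O (hV hy).1 (r l i) • gm I (hV hy) (s₀ i) = 0 := fun l => by
    have hl : r l ∈ K := hr ▸ Submodule.subset_span ⟨l, rfl⟩
    have h0 := hm (r l) (by simpa [K, LinearMap.mem_ker, Fintype.linearCombination_apply] using hl)
    have hev : ∀ y (hy : y ∈ V₀), gm I hy (∑ i, (show fns O V₀ from rr O inf_le_left (r l i)) • s₀ i) =
        ∑ i, gH O hy.1 (r l i) • gm I hy (s₀ i) := fun y hy => by
      rw [RngSp.gm_sum]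
      refine Finset.sum_congr rfl fun i _ => (RngSp.gm_smul hy _ _).trans ?_
      rw [show RngSp.gR hy (show fns O V₀ from rr O inf_le_left (r l i)) = gH O hy.1 (r l i) from gH_rr _ hy _]
    have h1 : gm I hx₀ (∑ i, (show fns O V₀ from rr O inf_le_left (r l i)) • s₀ i) = gm I hx₀ 0 := by
      rw [hev, RngSp.gm_zero]
      simp only [hs₀]
      exact h0
    obtain ⟨V, hV, hxV, he⟩ := (RngSp.gm_eq_iff hx₀ _ _).1 h1
    refine ⟨V, hV, hxV, fun y hy => ?_⟩
    have h2 := congrArg (gm I hy) he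
    rw [RngSp.gm_res, RngSp.gm_res, hev, RngSp.gm_zero] at h2
    exact h2
  choose V hV hxV hVrel using hrel
  let V₁ : Opens X := V₀ ⊓ ⨅ l, V l
  have hx₁ : x ∈ V₁ := ⟨hx₀, (Opens.coe_iInf V).ge (Set.mem_iInter.2 hxV)⟩
  have hV₁U : V₁ ≤ U := inf_le_left.trans inf_le_left
  let B : ModSite.Mod O := unitM O ⊞ I
  let g : ULift.{u} (Fin n) → B.val.obj (op V₁) := fun i =>
    mp biprod.inl V₁ (fn' (rr O hV₁U (a i.down))) + mp biprod.inr V₁ (res I inf_le_left (s₀ i.down))
  let S : ∀ y : X, Submodule (St O y) (ModSite.stalkAb (pt y) B) := fun y =>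
    if hy : y ∈ V₁ then Submodule.span _ (Set.range fun i => gm B hy (g i)) else ⊥
  have hgS : ∀ i, g i ∈ inS S V₁ := fun i y hy => by
    simp only [S, dif_pos hy]
    exact Submodule.subset_span ⟨i, rfl⟩
  have hfst : ∀ i, mp (biprod.fst : B ⟶ unitM O) V₁ (g i) = fn' (rr O hV₁U (a i.down)) := fun i => by
    change mp _ V₁ (_ + _) = _
    rw [map_add]
    change mp ((biprod.inl : unitM O ⟶ B) ≫ biprod.fst) V₁ _ + mp ((biprod.inr : I ⟶ B) ≫ biprod.fst) V₁ _ = _
    rw [biprod.inl_fst, biprod.inr_fst]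
    exact add_zero _
  have hsnd : ∀ i, mp (biprod.snd : B ⟶ I) V₁ (g i) = res I inf_le_left (s₀ i.down) := fun i => by
    change mp _ V₁ (_ + _) = _
    rw [map_add]
    change mp ((biprod.inl : unitM O ⟶ B) ≫ biprod.snd) V₁ _ + mp ((biprod.inr : I ⟶ B) ≫ biprod.snd) V₁ _ = _
    rw [biprod.inl_snd, biprod.inr_snd]
    exact zero_add _
  let p : sub S ⟶ unitM O := subι S ≫ biprod.fst
  have hp0 : ∀ (y : X) (z : ModSite.stalkAb (pt y) B), z ∈ S y → fx (biprod.fst : B ⟶ unitM O) y z = 0 → z = 0 := by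
    intro y z hz h0
    by_cases hy : y ∈ V₁
    · simp only [S, dif_pos hy] at hz
      obtain ⟨w, rfl⟩ := (Submodule.mem_span_range_iff_exists_fun _).1 hz
      have e1 : ∀ {N : ModSite.Mod O} (t : ULift.{u} (Fin n) → N.val.obj (op V₁)),
          gcmb (fun i => gm N hy (t i)) (Finsupp.equivFunOnFinite.symm w) = ∑ i, w i • gm N hy (t i) := fun t => by
        rw [gcmb, Finsupp.linearCombination_apply]
        exact Finsupp.sum_fintype _ _ fun i => zero_smul _ _
      rw [← e1, fx_gcmb, e1] at h0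
      simp only [hfst, gm_fn', gH_rr, smul_smul, ← Finset.sum_smul] at h0
      have h1 := eq_zero_of_smul_one hy _ h0
      have h1' : ∑ j : Fin n, w ⟨j⟩ * gH O (hV₁U hy) (a j) = 0 := by
        rw [← h1]
        exact Fintype.sum_equiv Equiv.ulift.symm _ _ fun j => rfl
      obtain ⟨k', b, y', hb, hc⟩ := exists_of_sum_eq_zero (ι := PUnit.{u + 1}) (gH O (hV₁U hy))
        (hflat y (hV₁U hy)) (σ := Fin n) (fun j => Finsupp.single PUnit.unit (a j)) (fun j => w ⟨j⟩) (by
          refine Finsupp.ext fun i => ?_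
          simp only [Finsupp.finsetSum_apply, Finsupp.smul_apply, pv_apply, Finsupp.single_eq_same, smul_eq_mul,
            Finsupp.zero_apply]
          exact h1')
      have hb' : ∀ l, b l ∈ K := fun l => by
        have := DFunLike.congr_fun (hb l) PUnit.unit
        simpa [K, LinearMap.mem_ker, Fintype.linearCombination_apply, Finsupp.finsetSum_apply] using this
      have hsn : fx (biprod.snd : B ⟶ I) y (∑ i, w i • gm B hy (g i)) = 0 := by
        rw [← e1, fx_gcmb, e1]
        simp only [hsnd, RngSp.gm_res]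
        rw [show ∑ i : ULift.{u} (Fin n), w i • gm I hy.1 (s₀ i.down) = ∑ j : Fin n, w ⟨j⟩ • gm I hy.1 (s₀ j) from
          Fintype.sum_equiv Equiv.ulift _ _ fun j => rfl]
        simp only [hc, Finset.sum_smul, mul_smul]
        rw [Finset.sum_comm]
        refine Finset.sum_eq_zero fun l _ => ?_
        rw [← Finset.smul_sum]
        have key : ∀ c ∈ K, ∑ j, gH O (hV₁U hy) (c j) • gm I hy.1 (s₀ j) = 0 := fun c hc => by
          rw [← hr] at hc
          induction hc using Submodule.span_induction with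
          | mem c hc =>
            obtain ⟨q, rfl⟩ := hc
            exact hVrel q y ((show V₁ ≤ V q from inf_le_right.trans (iInf_le _ q)) hy)
          | zero => simp
          | add c c' _ _ ih ih' =>
            simp only [Pi.add_apply, map_add, add_smul, Finset.sum_add_distrib, ih, ih', add_zero]
          | smul t c _ ih =>
            simp only [Pi.smul_apply, smul_eq_mul, map_mul, mul_smul, ← Finset.smul_sum, ih, smul_zero]
        rw [key _ (hb' l), smul_zero]
      have hfs : fx (biprod.fst : B ⟶ unitM O) y (∑ i, w i • gm B hy (g i)) = 0 := by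
        rw [← e1, fx_gcmb, e1]
        simp only [hfst, gm_fn', gH_rr, smul_smul, ← Finset.sum_smul]
        exact h0
      generalize (∑ i, w i • gm B hy (g i)) = z at hsn hfs ⊢
      obtain ⟨W', hyW', t, rfl⟩ := RngSp.exists_gm z
      have e2 : t = mp (biprod.inl : unitM O ⟶ B) W' (mp (biprod.fst : B ⟶ unitM O) W' t) +
          mp (biprod.inr : I ⟶ B) W' (mp (biprod.snd : B ⟶ I) W' t) :=
        (congrArg (fun q : B ⟶ B => mp q W' t) (biprod.total (X := unitM O) (Y := I))).symm
      rw [e2, RngSp.gm_add, ← fx_gm, ← fx_gm, ← fx_gm, ← fx_gm, hsn, hfs, map_zero, map_zero, add_zero]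
    · simp only [S, dif_neg hy, Submodule.mem_bot] at hz
      exact hz
  haveI : Mono p := by
    haveI : Mono ((SheafOfModules.forget _).map p) := PresheafOfModules.mono_of_injective fun {W'} z z' hzz => by
      refine Subtype.ext (eq_of_gm fun y hy => sub_eq_zero.1 (hp0 y _ (sub_mem (z.2 y hy) (z'.2 y hy)) ?_))
      rw [map_sub, fx_gm, fx_gm, sub_eq_zero]
      exact congrArg (gm (unitM O) hy) hzz
    exact (SheafOfModules.forget _).mono_of_mono_map ‹_›
  let Φ : unitM O ⟶ I := Injective.factorThru (subι S ≫ (biprod.snd : B ⟶ I)) p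
  have hΦ : p ≫ Φ = subι S ≫ (biprod.snd : B ⟶ I) := Injective.comp_factorThru _ p
  refine ⟨fx Φ x (gm (unitM O) hx₁ (one' V₁)), fun i => ?_⟩
  have h1 := congrArg (fun q : sub S ⟶ I => mp q V₁ ⟨g ⟨i⟩, hgS ⟨i⟩⟩) hΦ
  change mp Φ V₁ (mp (biprod.fst : B ⟶ unitM O) V₁ (g ⟨i⟩)) = mp (biprod.snd : B ⟶ I) V₁ (g ⟨i⟩) at h1
  rw [hfst, hsnd] at h1
  have h2 := congrArg (gm I hx₁) h1
  rw [RngSp.gm_res, ← fx_gm, hs₀] at h2
  have h3 : fn' (rr O hV₁U (a i)) = (show fns O V₁ from rr O hV₁U (a i)) • one' V₁ :=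
    (mul_one (show fns O V₁ from rr O hV₁U (a i))).symm
  rw [fx_gm, h3, map_smul, RngSp.gm_smul, ← fx_gm,
    show RngSp.gR hx₁ (show fns O V₁ from rr O hV₁U (a i)) = gH O hx (a i) from gH_rr _ hx₁ _] at h2
  exact h2.symm

end Groth.Agent.FTorsL
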