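import Groth.Agent.FTorsL.PushFP
import Groth.Agent.H9FCoh.Compl
import Groth.Agent.FComplLib.Sys
import Groth.Agent.H9ComplFlat.Basic
import Groth.Prelude.Def_FTors3

/-!
# The completion morphism on stalks
-/

set_option autoImplicit false
set_option backward.isDefEq.respectTransparency false
set_option backward.isDefEq.respectTransparency.types false
set_option linter.style.haveILetI false

universe u

open CategoryTheory CategoryTheory.Limits AlgebraicGeometry TopologicalSpace Opposite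
open Groth.Agent.H9FCoh Groth.Agent.ClosedRinged
open Groth.Agent.RngSp (pt gm mp fns)

noncomputable section

namespace Groth.Agent.FTorsL

variable {X : Scheme.{u}} (𝓘 : X.IdealSheafData) (h : (FSch.completionAlong X 𝓘).IsLocNoethFormal)

/-- The completion. -/
abbrev Xh : FSch.Sys.{u} := FSch.completionAlong X 𝓘

/-- The completion morphism of ringed spaces. -/
abbrev kMor : ModSite.RMor ((Xh 𝓘).Osh h.1) X.sheaf :=
  cMor h (FSch.completionToX X 𝓘) (FSch.completionToX_comm X 𝓘)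

/-- The functions pulled back to the completion. -/
abbrev kS (V : X.Opens) : Γ(X, V) →+* Ox h (cU (FSch.completionToX X 𝓘) V) :=
  shC h (FSch.completionToX X 𝓘) (FSch.completionToX_comm X 𝓘) V

/-- The preimage open in the completion. -/
abbrev kU (V : X.Opens) : ((Xh 𝓘).X 0).Opens := cU (FSch.completionToX X 𝓘) V

/-- The image of a point. -/
abbrev kPt (x : (Xh 𝓘).X 0) : X := FSch.completionToX X 𝓘 0 x

/-- The map of stalks of the structure sheaves. -/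
abbrev kθ (x : (Xh 𝓘).X 0) : St X.sheaf (kPt 𝓘 x) →+* St ((Xh 𝓘).Osh h.1) x :=
  θ (FSch.completionToX X 𝓘 0).base
    (FSch.schSharp (Xh 𝓘) h.1 (FSch.completionToX X 𝓘) (FSch.completionToX_comm X 𝓘)) x

theorem kθ_gH (x : (Xh 𝓘).X 0) {V : X.Opens} (hV : kPt 𝓘 x ∈ V) (a : Γ(X, V)) :
    kθ 𝓘 h x (gH X.sheaf hV a) = gH ((Xh 𝓘).Osh h.1) (show x ∈ kU 𝓘 V from hV) (kS 𝓘 h V a) :=
  θ_gH (FSch.completionToX X 𝓘 0).base
    (FSch.schSharp (Xh 𝓘) h.1 (FSch.completionToX X 𝓘) (FSch.completionToX_comm X 𝓘)) x hV a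

theorem kS_rs {V V' : X.Opens} (hle : V' ≤ V) (a : Γ(X, V)) :
    kS 𝓘 h V' (rr X.sheaf hle a) = rO h (show kU 𝓘 V' ≤ kU 𝓘 V from fun _ hx => hle hx) (kS 𝓘 h V a) :=
  (shH_rr (FSch.completionToX X 𝓘 0).base
    (FSch.schSharp (Xh 𝓘) h.1 (FSch.completionToX X 𝓘) (FSch.completionToX_comm X 𝓘)) hle a).symm

theorem isAffineOpen_kU {V : X.Opens} (hV : IsAffineOpen V) : IsAffineOpen (kU 𝓘 V) := hV.preimage _

theorem exists_kU_le {W : ((Xh 𝓘).X 0).Opens} {x : (Xh 𝓘).X 0} (hx : x ∈ W) {V₀ : X.Opens}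
    (hV₀ : kPt 𝓘 x ∈ V₀) :
    ∃ V : X.Opens, IsAffineOpen V ∧ kPt 𝓘 x ∈ V ∧ V ≤ V₀ ∧ kU 𝓘 V ≤ W := by
  obtain ⟨s, hs, hsW⟩ := (FSch.completionToX X 𝓘 0).isEmbedding.toIsInducing.isOpen_iff.1 W.2
  have hxs : kPt 𝓘 x ∈ V₀ ⊓ (⟨s, hs⟩ : X.Opens) := ⟨hV₀, by
    change x ∈ (FSch.completionToX X 𝓘 0).base ⁻¹' s
    rw [hsW]; exact hx⟩
  obtain ⟨V, hV, hxV, hle⟩ := Opens.isBasis_iff_nbhd.1 X.isBasis_affineOpens hxs
  refine ⟨V, hV, hxV, hle.trans inf_le_left, fun y hy => ?_⟩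
  have : y ∈ (FSch.completionToX X 𝓘 0).base ⁻¹' s := (hle hy).2
  rw [hsW] at this
  exact this

theorem surj_ker_pr_kS {V : X.Opens} (hV : IsAffineOpen V) (k : ℕ) :
    Function.Surjective ((pr h k (kU 𝓘 V)).comp (kS 𝓘 h V)) ∧
      RingHom.ker ((pr h k (kU 𝓘 V)).comp (kS 𝓘 h V)) = 𝓘.ideal ⟨V, hV⟩ ^ (k + 1) := by
  have e : (pr h k (kU 𝓘 V)).comp (kS 𝓘 h V) =
      ((FSch.completionToX X 𝓘 k).appLE V ((Xh 𝓘).lvU h.1 k (kU 𝓘 V))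
        (FSch.lvU_p (Xh 𝓘) h.1 (FSch.completionToX X 𝓘) (FSch.completionToX_comm X 𝓘) k V).ge).hom :=
    RingHom.ext fun a => congrArg (fun q => (q.hom.app (op V)).hom a)
      (FSch.schSharp_proj (Xh 𝓘) h.1 (FSch.completionToX X 𝓘) (FSch.completionToX_comm X 𝓘) k)
  rw [e]
  exact H9ComplFlat.appLE_quot (FSch.completionToX X 𝓘 k) V _
    (FSch.lvU_p (Xh 𝓘) h.1 (FSch.completionToX X 𝓘) (FSch.completionToX_comm X 𝓘) k V).symm _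
    ((𝓘 ^ (k + 1)).subschemeι_app_surjective ⟨V, hV⟩)
    (((𝓘 ^ (k + 1)).ker_subschemeι_app ⟨V, hV⟩).trans (by
      rw [Scheme.IdealSheafData.ideal_pow, Pi.pow_apply]))

theorem exists_sub_mem {V : X.Opens} (hV : IsAffineOpen V) (k : ℕ) (b : Ox h (kU 𝓘 V)) :
    ∃ a : Γ(X, V), b - kS 𝓘 h V a ∈ J h (kU 𝓘 V) ^ (k + 1) := by
  obtain ⟨a, ha⟩ := (surj_ker_pr_kS 𝓘 h hV k).1 (pr h k (kU 𝓘 V) b)
  refine ⟨a, ?_⟩
  rw [← ker_pr h (isAffineOpen_kU 𝓘 hV), RingHom.mem_ker, map_sub, ← ha, RingHom.comp_apply, sub_self]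

theorem J_eq_map {V : X.Opens} (hV : IsAffineOpen V) :
    J h (kU 𝓘 V) = (𝓘.ideal ⟨V, hV⟩).map (kS 𝓘 h V) := by
  have hW := isAffineOpen_kU 𝓘 hV
  haveI := isNoetherianRing_Ox h hW
  haveI := isAdicComplete_Ox h hW
  have hle : (𝓘.ideal ⟨V, hV⟩).map (kS 𝓘 h V) ≤ J h (kU 𝓘 V) := by
    refine Ideal.map_le_iff_le_comap.2 fun a ha => ?_
    change ((pr h 0 (kU 𝓘 V)).comp (kS 𝓘 h V)) a = 0
    rw [← RingHom.mem_ker, (surj_ker_pr_kS 𝓘 h hV 0).2, zero_add, pow_one]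
    exact ha
  refine le_antisymm ?_ hle
  refine Submodule.le_of_le_smul_of_le_jacobson_bot (IsNoetherian.noetherian _)
    (IsAdicComplete.le_jacobson_bot (J h (kU 𝓘 V))) fun j hj => ?_
  obtain ⟨a, ha⟩ := exists_sub_mem 𝓘 h hV 1 j
  have ha' : a ∈ 𝓘.ideal ⟨V, hV⟩ := by
    have h1 := (surj_ker_pr_kS 𝓘 h hV 0).2
    rw [zero_add, pow_one] at h1
    rw [← h1, RingHom.mem_ker, RingHom.comp_apply]
    have h2 : j - kS 𝓘 h V a ∈ J h (kU 𝓘 V) := Ideal.pow_le_self two_ne_zero ha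
    have h3 : kS 𝓘 h V a ∈ J h (kU 𝓘 V) := by
      have := Submodule.sub_mem _ hj h2
      rwa [sub_sub_cancel] at this
    exact h3
  rw [show j = kS 𝓘 h V a + (j - kS 𝓘 h V a) by rw [add_sub_cancel]]
  refine Submodule.add_mem_sup (Ideal.mem_map_of_mem _ ha') ?_
  rw [Ideal.smul_eq_mul, ← pow_two]
  exact ha

/-- Killed germs on the completion, through the ideal of the scheme. -/
theorem killsAt_iff {M : FSch.ModF (Xh 𝓘) h.1} {V : X.Opens} (hV : IsAffineOpen V) {x : (Xh 𝓘).X 0}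
    (hx : x ∈ kU 𝓘 V) (k : ℕ) (z : ModSite.stalkAb (pt x) M) :
    KillsAt h hx k z ↔ ∀ a ∈ 𝓘.ideal ⟨V, hV⟩ ^ k, gH ((Xh 𝓘).Osh h.1) hx (kS 𝓘 h V a) • z = 0 := by
  constructor
  · intro hz a ha
    refine hz _ ?_
    rw [J_eq_map 𝓘 h hV, ← Ideal.map_pow]
    exact Ideal.mem_map_of_mem _ ha
  · intro hz b hb
    rw [J_eq_map 𝓘 h hV, ← Ideal.map_pow] at hb
    induction hb using Submodule.span_induction with
    | mem b hb => obtain ⟨a, ha, rfl⟩ := hb; exact hz a ha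
    | zero => rw [map_zero, zero_smul]
    | add b c _ _ ib ic => rw [map_add, add_smul, ib, ic, add_zero]
    | smul c b _ ib => rw [smul_eq_mul, map_mul, mul_smul, ib, smul_zero]

theorem pr_zero_kS {V : X.Opens} (a : Γ(X, V)) :
    pr h 0 (kU 𝓘 V) (kS 𝓘 h V a) =
      ((FSch.completionToX X 𝓘 0).appLE V ((Xh 𝓘).lvU h.1 0 (kU 𝓘 V))
        (FSch.lvU_p (Xh 𝓘) h.1 (FSch.completionToX X 𝓘) (FSch.completionToX_comm X 𝓘) 0 V).ge).hom a :=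
  congrArg (fun q => (q.hom.app (op V)).hom a)
    (FSch.schSharp_proj (Xh 𝓘) h.1 (FSch.completionToX X 𝓘) (FSch.completionToX_comm X 𝓘) 0)

theorem mem_basicOpen_iff {Y : Scheme.{u}} {U : Y.Opens} {y : Y} (hy : y ∈ U) (a : Fn Y.sheaf U) :
    y ∈ Y.basicOpen a ↔ IsUnit (gH Y.sheaf hy a) := by
  refine ⟨not_isUnit_gH_iff hy a, fun hu => ?_⟩
  obtain ⟨b, hb⟩ := hu.exists_right_inv
  obtain ⟨V, hyV, b', rfl⟩ := exists_gH b
  obtain ⟨V', hV', hyV', he⟩ := exists_rr_eq_zero (U := U ⊓ V) (x := y) ⟨hy, hyV⟩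
    (a := rr _ inf_le_left a * rr _ inf_le_right b' - 1) (by
      rw [map_sub, map_mul, gH_rr, gH_rr, hb, map_one, sub_self])
  rw [map_sub, map_mul, map_one, rr_rr, rr_rr, sub_eq_zero] at he
  have h1 : IsUnit (rr Y.sheaf (hV'.trans inf_le_left) a) := IsUnit.of_mul_eq_one _ he
  have h2 : y ∈ Y.basicOpen (Y.presheaf.map (homOfLE (hV'.trans inf_le_left)).op a) :=
    (Y.basicOpen_of_isUnit h1).ge hyV'
  rw [Scheme.basicOpen_res] at h2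
  exact h2.2

theorem isUnit_kS_iff {V : X.Opens} (a : Γ(X, V)) {x : (Xh 𝓘).X 0} (hx : x ∈ kU 𝓘 V) :
    IsUnit (gH ((Xh 𝓘).Osh h.1) hx (kS 𝓘 h V a)) ↔ IsUnit (gH X.sheaf (x := kPt 𝓘 x) hx a) := by
  rw [isUnit_gH_iff h 0, pr_zero_kS, Scheme.basicOpen_appLE]
  refine Iff.trans ?_ (mem_basicOpen_iff (Y := X) hx a)
  exact ⟨fun h' => h'.2, fun h' => ⟨(toX_mem_lvU h 0).2 hx, h'⟩⟩

/-- Elements of a stalk of the completion are images modulo powers of the ideal. -/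
theorem exists_approx {V : X.Opens} (hV : IsAffineOpen V) {x : (Xh 𝓘).X 0} (hx : x ∈ kU 𝓘 V) (k : ℕ)
    (c : St ((Xh 𝓘).Osh h.1) x) :
    ∃ r : St X.sheaf (kPt 𝓘 x), c - kθ 𝓘 h x r ∈ (J h (kU 𝓘 V) ^ k).map (gH ((Xh 𝓘).Osh h.1) hx) := by
  obtain ⟨a, b, hu, hab⟩ := exists_frac h k (isAffineOpen_kU 𝓘 hV) hx c
  obtain ⟨a₀, ha₀⟩ := exists_sub_mem 𝓘 h hV k a
  obtain ⟨b₀, hb₀⟩ := exists_sub_mem 𝓘 h hV k b
  let P := (J h (kU 𝓘 V) ^ k).map (gH ((Xh 𝓘).Osh h.1) hx)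
  have hmem : ∀ {q : Ox h (kU 𝓘 V)}, q ∈ J h (kU 𝓘 V) ^ (k + 1) → gH ((Xh 𝓘).Osh h.1) hx q ∈ P := fun hq =>
    Ideal.mem_map_of_mem _ (Ideal.pow_le_pow_right k.le_succ hq)
  have hab' : gH ((Xh 𝓘).Osh h.1) hx a * c - gH ((Xh 𝓘).Osh h.1) hx b ∈ P :=
    Ideal.map_mono (Ideal.pow_le_pow_right k.le_succ) hab
  have hu₀ : IsUnit (gH ((Xh 𝓘).Osh h.1) hx (kS 𝓘 h V a₀)) := by
    rw [isUnit_gH_iff h 0] at hu ⊢
    have : pr h 0 (kU 𝓘 V) (kS 𝓘 h V a₀) = pr h 0 (kU 𝓘 V) a := by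
      rw [← sub_eq_zero, ← map_sub, ← neg_sub, map_neg, neg_eq_zero]
      exact Ideal.pow_le_self k.succ_ne_zero ha₀
    rwa [this]
  obtain ⟨u, hu'⟩ := (isUnit_kS_iff 𝓘 h a₀ hx).1 hu₀
  refine ⟨↑u⁻¹ * gH X.sheaf (x := kPt 𝓘 x) hx b₀, ?_⟩
  refine (Ideal.unit_mul_mem_iff_mem P (hu₀)).1 ?_
  have e : gH ((Xh 𝓘).Osh h.1) hx (kS 𝓘 h V a₀) * kθ 𝓘 h x (↑u⁻¹ * gH X.sheaf (x := kPt 𝓘 x) hx b₀) =
      gH ((Xh 𝓘).Osh h.1) hx (kS 𝓘 h V b₀) := by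
    rw [← kθ_gH 𝓘 h x hx, ← kθ_gH 𝓘 h x hx, ← map_mul, ← mul_assoc, ← hu', Units.mul_inv, one_mul]
  rw [mul_sub, e]
  have h1 := P.sub_mem (P.add_mem hab' (hmem hb₀)) (P.mul_mem_right c (hmem ha₀))
  rw [map_sub, map_sub] at h1
  convert h1 using 1
  ring

theorem exists_eq_sum_of_mem_map {U : ((Xh 𝓘).X 0).Opens} {x : (Xh 𝓘).X 0} (hx : x ∈ U)
    (K : Ideal (Ox h U)) (r : St ((Xh 𝓘).Osh h.1) x) (hr : r ∈ K.map (gH ((Xh 𝓘).Osh h.1) hx)) :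
    ∃ (W : ((Xh 𝓘).X 0).Opens) (hW : W ≤ U) (hxW : x ∈ W) (b : Ox h W),
      b ∈ K.map (rO h hW) ∧ gH ((Xh 𝓘).Osh h.1) hxW b = r := by
  induction hr using Submodule.span_induction with
  | mem r hr =>
    obtain ⟨j, hj, rfl⟩ := hr
    exact ⟨U, le_rfl, hx, rO h le_rfl j, Ideal.mem_map_of_mem _ hj, gH_rO h _ hx j⟩
  | zero => exact ⟨U, le_rfl, hx, 0, zero_mem _, map_zero _⟩
  | add a c _ _ ha hc =>
    obtain ⟨W₁, hW₁, hx₁, b₁, hb₁, rfl⟩ := ha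
    obtain ⟨W₂, hW₂, hx₂, b₂, hb₂, rfl⟩ := hc
    refine ⟨W₁ ⊓ W₂, inf_le_left.trans hW₁, ⟨hx₁, hx₂⟩, rO h inf_le_left b₁ + rO h inf_le_right b₂, ?_, ?_⟩
    · have key : ∀ {W : ((Xh 𝓘).X 0).Opens} (hW : W ≤ U) (hle : W₁ ⊓ W₂ ≤ W) {b : Ox h W}, b ∈ K.map (rO h hW) →
          rO h hle b ∈ K.map (rO h (hle.trans hW)) := fun {W} hW hle {b} hb => by
        have h1 := Ideal.mem_map_of_mem (rO h hle) hb
        rw [Ideal.map_map] at h1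
        rwa [show (rO h hle).comp (rO h hW) = rO h (hle.trans hW) from RingHom.ext fun q => rr_rr hW hle q] at h1
      exact Ideal.add_mem _ (key hW₁ inf_le_left hb₁) (key hW₂ inf_le_right hb₂)
    · rw [map_add, gH_rO, gH_rO]
  | smul s a _ ha =>
    obtain ⟨W₁, hW₁, hx₁, b₁, hb₁, rfl⟩ := ha
    obtain ⟨W₂, hx₂, s', rfl⟩ := exists_gH s
    refine ⟨W₁ ⊓ W₂, inf_le_left.trans hW₁, ⟨hx₁, hx₂⟩, rO h inf_le_right s' * rO h inf_le_left b₁, ?_, ?_⟩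
    · refine Ideal.mul_mem_left _ _ ?_
      have h1 := Ideal.mem_map_of_mem (rO h (inf_le_left : W₁ ⊓ W₂ ≤ W₁)) hb₁
      rw [Ideal.map_map] at h1
      rwa [show (rO h (inf_le_left : W₁ ⊓ W₂ ≤ W₁)).comp (rO h hW₁) = rO h (inf_le_left.trans hW₁) from
        RingHom.ext fun q => rr_rr hW₁ inf_le_left q] at h1
    · rw [map_mul, gH_rO, gH_rO, smul_eq_mul]

/-- The kernel of the stalk map modulo a power of the ideal. -/
theorem exists_pow_of_kθ_mem {V : X.Opens} (hV : IsAffineOpen V) {x : (Xh 𝓘).X 0} (hx : x ∈ kU 𝓘 V) (k : ℕ)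
    (r : St X.sheaf (kPt 𝓘 x)) (hr : kθ 𝓘 h x r ∈ (J h (kU 𝓘 V) ^ (k + 1)).map (gH ((Xh 𝓘).Osh h.1) hx)) :
    ∃ (V' : X.Opens) (hV' : IsAffineOpen V') (hx' : kPt 𝓘 x ∈ V') (a : Γ(X, V')),
      a ∈ 𝓘.ideal ⟨V', hV'⟩ ^ (k + 1) ∧ gH X.sheaf hx' a = r := by
  obtain ⟨V₁, hx₁, a, rfl⟩ := exists_gH r
  rw [kθ_gH] at hr
  obtain ⟨W, hWU, hxW, b, hb, hbe⟩ := exists_eq_sum_of_mem_map 𝓘 h hx _ _ hr
  have hxI : x ∈ W ⊓ kU 𝓘 V₁ := ⟨hxW, hx₁⟩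
  obtain ⟨W', hW', hxW', he⟩ := exists_rr_eq_zero (U := W ⊓ kU 𝓘 V₁) hxI
    (a := rr _ inf_le_left b - rr _ inf_le_right (kS 𝓘 h V₁ a)) (by
      rw [map_sub, gH_rr, gH_rr, hbe, sub_self])
  obtain ⟨V', hV', hxV', hle, hUW⟩ := exists_kU_le 𝓘 hxW' (V₀ := V ⊓ V₁) ⟨hx, hx₁⟩
  refine ⟨V', hV', hxV', rr X.sheaf (hle.trans inf_le_right) a, ?_, gH_rr _ hxV' a⟩
  rw [← (surj_ker_pr_kS 𝓘 h hV' k).2, RingHom.mem_ker, RingHom.comp_apply, ← RingHom.mem_ker,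
    ker_pr h (isAffineOpen_kU 𝓘 hV'), kS_rs]
  have h1 := congrArg (rO h hUW) he
  rw [map_zero, map_sub, map_sub, sub_eq_zero] at h1
  rw [rr_rr, rr_rr, rr_rr, rr_rr] at h1
  rw [← h1]
  have hWle : kU 𝓘 V' ≤ W := hUW.trans (hW'.trans inf_le_left)
  have h2 := Ideal.mem_map_of_mem (rO h hWle) hb
  rw [Ideal.map_map] at h2
  rw [show (rO h hWle).comp (rO h hWU) = rO h (hWle.trans hWU) from RingHom.ext fun q => rr_rr hWU hWle q,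
    Ideal.map_pow, map_rO_J h (isAffineOpen_kU 𝓘 hV) (isAffineOpen_kU 𝓘 hV')] at h2
  exact h2

end Groth.Agent.FTorsL
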