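import Groth.Agent.FTorsL.KBase

/-!
# Power-torsion modules on the scheme and their stalks on the completion
-/

set_option autoImplicit false
set_option backward.isDefEq.respectTransparency false
set_option backward.isDefEq.respectTransparency.types false
set_option linter.style.haveILetI false

universe u

open CategoryTheory CategoryTheory.Limits AlgebraicGeometry TopologicalSpace Opposite
open Groth.Agent.H9FCoh Groth.Agent.ClosedRinged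
open Groth.Agent.RngSp (pt gm mp fns)

noncomputable section

namespace Groth.Agent.FTorsL

variable {X : Scheme.{u}} (𝓘 : X.IdealSheafData)

/-- A power of the ideal kills the germ. -/
def KillsP {N : ModSite.Mod X.sheaf} {V : X.Opens} (hV : IsAffineOpen V) {y : X} (hy : y ∈ V) (k : ℕ)
    (z : ModSite.stalkAb (pt y) N) : Prop :=
  ∀ a ∈ 𝓘.ideal ⟨V, hV⟩ ^ k, gH X.sheaf hy a • z = 0

variable {𝓘}

theorem KillsP.mono {N : ModSite.Mod X.sheaf} {V : X.Opens} {hV : IsAffineOpen V} {y : X} {hy : y ∈ V} {k l : ℕ}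
    {z : ModSite.stalkAb (pt y) N} (hz : KillsP 𝓘 hV hy k z) (hkl : k ≤ l) : KillsP 𝓘 hV hy l z :=
  fun a ha => hz a (Ideal.pow_le_pow_right hkl ha)

theorem KillsP.of_le {N : ModSite.Mod X.sheaf} {V V' : X.Opens} (hV : IsAffineOpen V) (hV' : IsAffineOpen V')
    (hle : V' ≤ V) {y : X} (hy : y ∈ V') {k : ℕ} {z : ModSite.stalkAb (pt y) N} :
    KillsP 𝓘 hV (hle hy) k z ↔ KillsP 𝓘 hV' hy k z := by
  have e : (𝓘.ideal ⟨V, hV⟩ ^ k).map (rr X.sheaf hle) = 𝓘.ideal ⟨V', hV'⟩ ^ k := by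
    rw [Ideal.map_pow]
    exact congrArg (· ^ k) (𝓘.map_ideal (U := ⟨V', hV'⟩) (V := ⟨V, hV⟩) hle)
  constructor
  · intro hz a ha
    rw [← e] at ha
    induction ha using Submodule.span_induction with
    | mem a ha =>
      obtain ⟨b, hb, rfl⟩ := ha
      exact (congrArg (· • z) (gH_rr (O := X.sheaf) hle hy b)).trans (hz b hb)
    | zero => rw [map_zero, zero_smul]
    | add a b _ _ ia ib => rw [map_add, add_smul, ia, ib, add_zero]
    | smul c a _ ia => rw [smul_eq_mul, map_mul, mul_smul, ia, smul_zero]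
  · intro hz a ha
    exact (congrArg (· • z) (gH_rr (O := X.sheaf) hle hy a).symm).trans (hz _ (e ▸ Ideal.mem_map_of_mem _ ha))

theorem KillsP.change {N : ModSite.Mod X.sheaf} {V V' : X.Opens} {hV : IsAffineOpen V} (hV' : IsAffineOpen V')
    {y : X} {hy : y ∈ V} (hy' : y ∈ V') {k : ℕ} {z : ModSite.stalkAb (pt y) N} (hz : KillsP 𝓘 hV hy k z) :
    KillsP 𝓘 hV' hy' k z := by
  obtain ⟨W, hW, hyW, hle⟩ := Opens.isBasis_iff_nbhd.1 X.isBasis_affineOpens (show y ∈ V ⊓ V' from ⟨hy, hy'⟩)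
  exact (KillsP.of_le hV' hW (hle.trans inf_le_right) hyW).2
    ((KillsP.of_le hV hW (hle.trans inf_le_left) hyW).1 hz)

variable (𝓘)

/-- The germ is power torsion. -/
def TorsP {N : ModSite.Mod X.sheaf} {y : X} (z : ModSite.stalkAb (pt y) N) : Prop :=
  ∃ (V : X.Opens) (hV : IsAffineOpen V) (hy : y ∈ V) (k : ℕ), KillsP 𝓘 hV hy k z

variable {𝓘}

theorem TorsP.exists_kills {N : ModSite.Mod X.sheaf} {y : X} {z : ModSite.stalkAb (pt y) N} (hz : TorsP 𝓘 z)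
    {V : X.Opens} (hV : IsAffineOpen V) (hy : y ∈ V) : ∃ k, KillsP 𝓘 hV hy k z := by
  obtain ⟨V', hV', hy', k, hk⟩ := hz
  exact ⟨k, hk.change hV hy⟩

theorem torsP_of_isTorsZp {N : ModSite.Mod X.sheaf} (hN : FTors.IsTorsZp X 𝓘 N) {y : X}
    (z : ModSite.stalkAb (pt y) N) : TorsP 𝓘 z := by
  obtain ⟨V, hyV, s, rfl⟩ := RngSp.exists_gm z
  obtain ⟨W, g, ⟨k, hk⟩, hyW⟩ := (show FTors.killSieve (FTors.powIdealFam X 𝓘) N s ∈
    Opens.grothendieckTopology X V from hN V s) y hyV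
  obtain ⟨U, hU, hyU, hle⟩ := Opens.isBasis_iff_nbhd.1 X.isBasis_affineOpens hyW
  refine ⟨U, hU, hyU, k, fun a ha => ?_⟩
  have hmem : a ∈ (FTors.powIdealFam X 𝓘).ideal k U := by
    refine (FTors.mem_powIdealFam_iff X 𝓘 k U a).2 fun W' hW' => ?_
    have h1 := Ideal.mem_map_of_mem (X.presheaf.map (homOfLE hW').op).hom ha
    rw [Ideal.map_pow] at h1
    have e := 𝓘.map_ideal (U := W') (V := ⟨U, hU⟩) hW'
    rw [← e]
    exact h1
  have h0 : HSMul.hSMul (α := fns X.sheaf U) a (res N hle (FTors.res N g s)) = 0 := hk (homOfLE hle) a hmem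
  have h2 := congrArg (gm N hyU) h0
  rw [RngSp.gm_smul, RngSp.gm_res, RngSp.gm_zero] at h2
  rw [show gm N hyV s = gm N (hle hyU) (FTors.res N g s) from (RngSp.gm_res (M := N) g.le (hle hyU) s).symm]
  exact h2

theorem exists_nbhd_killsP [IsLocallyNoetherian X] {N : ModSite.Mod X.sheaf} {V : X.Opens} {s : N.val.obj (op V)}
    {y : X} (hy : y ∈ V) (hz : TorsP 𝓘 (gm N hy s)) :
    ∃ (W : X.Opens) (hW : IsAffineOpen W) (hWV : W ≤ V) (k : ℕ), y ∈ W ∧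
      ∀ p (hp : p ∈ W), KillsP 𝓘 hW hp k (gm N (hWV hp) s) := by
  obtain ⟨U, hU, hyU, hUV⟩ := Opens.isBasis_iff_nbhd.1 X.isBasis_affineOpens hy
  obtain ⟨k, hk⟩ := hz.exists_kills hU hyU
  haveI : IsNoetherianRing Γ(X, U) := IsLocallyNoetherian.component_noetherian ⟨U, hU⟩
  obtain ⟨n, a, ha⟩ := Submodule.fg_iff_exists_fin_generating_family.1
    (IsNoetherian.noetherian (𝓘.ideal ⟨U, hU⟩ ^ k : Ideal Γ(X, U)))
  have hev : ∀ l, ∃ (W : X.Opens) (hW : W ≤ U), y ∈ W ∧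
      ∀ p (hp : p ∈ W), gH X.sheaf (hW hp) (a l) • gm N (hUV (hW hp)) s = 0 := fun l => by
    have h0 := hk (a l) (ha ▸ Submodule.subset_span ⟨l, rfl⟩)
    rw [← RngSp.gm_res hUV hyU] at h0
    have h1 : gm N hyU (HSMul.hSMul (α := fns X.sheaf U) (a l) (res N hUV s)) = gm N hyU 0 := by
      rw [RngSp.gm_smul, RngSp.gm_zero]; exact h0
    obtain ⟨W, hW, hyW, he⟩ := (RngSp.gm_eq_iff hyU _ _).1 h1
    refine ⟨W, hW, hyW, fun p hp => ?_⟩
    have h2 := congrArg (gm N hp) he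
    rw [RngSp.gm_res, RngSp.gm_res, RngSp.gm_smul, RngSp.gm_res, RngSp.gm_zero] at h2
    exact h2
  choose W hW hyW he using hev
  obtain ⟨W', hW', hyW', hle⟩ := Opens.isBasis_iff_nbhd.1 X.isBasis_affineOpens
    (show y ∈ U ⊓ ⨅ l, W l from ⟨hyU, (Opens.coe_iInf W).ge (Set.mem_iInter.2 hyW)⟩)
  refine ⟨W', hW', (hle.trans inf_le_left).trans hUV, k, hyW', fun p hp => ?_⟩
  refine (KillsP.of_le hU hW' (hle.trans inf_le_left) hp).1 fun b hb => ?_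
  rw [← ha] at hb
  induction hb using Submodule.span_induction with
  | mem b hb =>
    obtain ⟨l, rfl⟩ := hb
    exact he l p ((hle.trans (inf_le_right.trans (iInf_le _ l))) hp)
  | zero => rw [map_zero, zero_smul]
  | add b c _ _ ib ic => rw [map_add, add_smul, ib, ic, add_zero]
  | smul c b _ ib => rw [smul_eq_mul, map_mul, mul_smul, ib, smul_zero]

theorem isTorsZp_of_torsP [IsLocallyNoetherian X] {N : ModSite.Mod X.sheaf}
    (hN : ∀ (y : X) (z : ModSite.stalkAb (pt y) N), TorsP 𝓘 z) : FTors.IsTorsZp X 𝓘 N := by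
  intro V s y hy
  obtain ⟨W, hW, hWV, k, hyW, hk⟩ := exists_nbhd_killsP hy (hN y (gm N hy s))
  refine ⟨W, homOfLE hWV, ⟨k, fun W' g a ha => ?_⟩, hyW⟩
  change HSMul.hSMul (α := fns X.sheaf W') a (res N g.le (res N hWV s)) = 0
  refine eq_of_gm fun p hp => ?_
  obtain ⟨W'', hW'', hpW'', hle⟩ := Opens.isBasis_iff_nbhd.1 X.isBasis_affineOpens hp
  rw [RngSp.gm_smul, RngSp.gm_res, RngSp.gm_res, RngSp.gm_zero]
  have hmem : rr X.sheaf hle a ∈ 𝓘.ideal ⟨W'', hW''⟩ ^ k :=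
    (FTors.mem_powIdealFam_iff X 𝓘 k W' a).1 ha ⟨W'', hW''⟩ hle
  have h1 := ((KillsP.of_le hW hW'' (hle.trans g.le) hpW'').1 (hk p (g.le hp))) _ hmem
  rw [gH_rr] at h1
  exact h1

theorem eq_zero_of_not_mem_range {N : ModSite.Mod X.sheaf} {y : X} {z : ModSite.stalkAb (pt y) N}
    (hz : TorsP 𝓘 z) (hy : y ∉ Set.range (FSch.completionToX X 𝓘 0)) : z = 0 := by
  obtain ⟨V, hV, hyV, k, hk⟩ := hz
  have hys : y ∉ 𝓘.support := fun hm => hy (by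
    change y ∈ Set.range (𝓘 ^ (0 + 1)).subschemeι
    rw [Scheme.IdealSheafData.range_subschemeι, zero_add, pow_one]
    exact hm)
  rw [Scheme.IdealSheafData.mem_support_iff_of_mem (U := ⟨V, hV⟩) hyV, Scheme.mem_zeroLocus_iff] at hys
  push Not at hys
  obtain ⟨f, hf, hfy⟩ := hys
  have h1 : gH X.sheaf hyV (f ^ k) • z = 0 := hk _ (Ideal.pow_mem_pow hf k)
  rw [map_pow] at h1
  exact ((mem_basicOpen_iff (Y := X) hyV f).1 hfy).pow k |>.smul_eq_zero.1 h1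

variable (𝓘) (h : (FSch.completionAlong X 𝓘).IsLocNoethFormal)

/-- Sections of a direct image from the completion, as sections on the completion. -/
abbrev kSec {M : FSch.ModF (Xh 𝓘) h.1} {V : X.Opens} (z : ((kMor 𝓘 h).push.obj M).val.obj (op V)) :
    M.val.obj (op (kU 𝓘 V)) := z

theorem kSec_res {M : FSch.ModF (Xh 𝓘) h.1} {V V' : X.Opens} (hle : V' ≤ V)
    (z : ((kMor 𝓘 h).push.obj M).val.obj (op V)) :
    kSec 𝓘 h (res _ hle z) = res M (fun _ hx => hle hx : kU 𝓘 V' ≤ kU 𝓘 V) (kSec 𝓘 h z) :=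
  rfl

theorem kSec_smul {M : FSch.ModF (Xh 𝓘) h.1} {V : X.Opens} (a : Γ(X, V))
    (z : ((kMor 𝓘 h).push.obj M).val.obj (op V)) :
    kSec 𝓘 h (HSMul.hSMul (α := fns X.sheaf V) a z) =
      HSMul.hSMul (α := fns ((Xh 𝓘).Osh h.1) (kU 𝓘 V)) (kS 𝓘 h V a) (kSec 𝓘 h z) :=
  rfl

/-- The map from a germ of a direct image to the germ on the completion. -/
def kι (M : FSch.ModF (Xh 𝓘) h.1) (x : (Xh 𝓘).X 0)
    (w : ModSite.stalkAb (pt (kPt 𝓘 x)) ((kMor 𝓘 h).push.obj M)) : ModSite.stalkAb (pt x) M :=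
  gm M (show x ∈ kU 𝓘 (RngSp.exists_gm w).choose from (RngSp.exists_gm w).choose_spec.choose)
    (kSec 𝓘 h (RngSp.exists_gm w).choose_spec.choose_spec.choose)

theorem kι_gm {M : FSch.ModF (Xh 𝓘) h.1} {x : (Xh 𝓘).X 0} {V : X.Opens} (hx : kPt 𝓘 x ∈ V)
    (z : ((kMor 𝓘 h).push.obj M).val.obj (op V)) :
    kι 𝓘 h M x (gm _ hx z) = gm M (show x ∈ kU 𝓘 V from hx) (kSec 𝓘 h z) := by
  unfold kι
  generalize hw : gm ((kMor 𝓘 h).push.obj M) hx z = w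
  have he := (RngSp.exists_gm w).choose_spec.choose_spec.choose_spec
  generalize (RngSp.exists_gm w).choose_spec.choose_spec.choose = z₀ at he ⊢
  obtain ⟨W, h₁, h₂, hxW, e⟩ := RngSp.exists_gm_eq _ hx z₀ z (he.trans hw.symm)
  have h3 := congrArg (fun q => gm M (show x ∈ kU 𝓘 W from hxW) (kSec 𝓘 h q)) e
  simp only [kSec_res, RngSp.gm_res] at h3
  exact h3

theorem kι_add {M : FSch.ModF (Xh 𝓘) h.1} {x : (Xh 𝓘).X 0}
    (w w' : ModSite.stalkAb (pt (kPt 𝓘 x)) ((kMor 𝓘 h).push.obj M)) :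
    kι 𝓘 h M x (w + w') = kι 𝓘 h M x w + kι 𝓘 h M x w' := by
  obtain ⟨V, hV, z, rfl⟩ := RngSp.exists_gm w
  obtain ⟨V', hV', z', rfl⟩ := RngSp.exists_gm w'
  rw [← RngSp.gm_res (inf_le_left : V ⊓ V' ≤ V) (show kPt 𝓘 x ∈ V ⊓ V' from ⟨hV, hV'⟩),
    ← RngSp.gm_res (inf_le_right : V ⊓ V' ≤ V') (show kPt 𝓘 x ∈ V ⊓ V' from ⟨hV, hV'⟩), ← RngSp.gm_add,
    kι_gm, kι_gm, kι_gm]
  exact RngSp.gm_add _ _ _

theorem kι_smul {M : FSch.ModF (Xh 𝓘) h.1} {x : (Xh 𝓘).X 0} (r : St X.sheaf (kPt 𝓘 x))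
    (w : ModSite.stalkAb (pt (kPt 𝓘 x)) ((kMor 𝓘 h).push.obj M)) :
    kι 𝓘 h M x (r • w) = kθ 𝓘 h x r • kι 𝓘 h M x w := by
  obtain ⟨V, hV, z, rfl⟩ := RngSp.exists_gm w
  obtain ⟨V', hV', a, rfl⟩ := exists_gH r
  rw [← gH_rr (inf_le_left : V' ⊓ V ≤ V') (show kPt 𝓘 x ∈ V' ⊓ V from ⟨hV', hV⟩),
    ← RngSp.gm_res (inf_le_right : V' ⊓ V ≤ V) (show kPt 𝓘 x ∈ V' ⊓ V from ⟨hV', hV⟩), kι_gm, kθ_gH]
  refine (congrArg (kι 𝓘 h M x) (RngSp.gm_smul _ (show fns X.sheaf (V' ⊓ V) from rr X.sheaf inf_le_left a) _).symm).trans ?_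
  rw [kι_gm, kSec_smul, gm_smul' h]

theorem kι_bijective (M : FSch.ModF (Xh 𝓘) h.1) (x : (Xh 𝓘).X 0) : Function.Bijective (kι 𝓘 h M x) := by
  refine ⟨fun w w' e => ?_, fun m => ?_⟩
  · obtain ⟨V, hV, z, rfl⟩ := RngSp.exists_gm w
    obtain ⟨V', hV', z', rfl⟩ := RngSp.exists_gm w'
    rw [kι_gm, kι_gm] at e
    obtain ⟨W, h₁, h₂, hxW, he⟩ := RngSp.exists_gm_eq _ _ _ _ e
    obtain ⟨U, hU, hxU, hUle, hUW⟩ := exists_kU_le 𝓘 hxW (show kPt 𝓘 x ∈ V ⊓ V' from ⟨hV, hV'⟩)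
    rw [← RngSp.gm_res (hUle.trans inf_le_left) hxU, ← RngSp.gm_res (hUle.trans inf_le_right) hxU z']
    refine congrArg _ ?_
    suffices h0 : kSec 𝓘 h (res _ (hUle.trans inf_le_left) z) = kSec 𝓘 h (res _ (hUle.trans inf_le_right) z') from h0
    refine eq_of_gm fun p hp => ?_
    rw [kSec_res, kSec_res, RngSp.gm_res, RngSp.gm_res]
    have h3 := congrArg (gm M (hUW hp)) he
    rwa [RngSp.gm_res, RngSp.gm_res] at h3
  · obtain ⟨W, hxW, s, rfl⟩ := RngSp.exists_gm m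
    obtain ⟨U, hU, hxU, -, hUW⟩ := exists_kU_le 𝓘 hxW (V₀ := ⊤) trivial
    refine ⟨gm ((kMor 𝓘 h).push.obj M) hxU (show ((kMor 𝓘 h).push.obj M).val.obj (op U) from res M hUW s), ?_⟩
    rw [kι_gm]
    exact RngSp.gm_res hUW _ s

theorem eq_zero_push_of_not_mem_range (M : FSch.ModF (Xh 𝓘) h.1) {y : X}
    (hy : y ∉ Set.range (FSch.completionToX X 𝓘 0)) (w : ModSite.stalkAb (pt y) ((kMor 𝓘 h).push.obj M)) :
    w = 0 := by
  obtain ⟨V, hV, z, rfl⟩ := RngSp.exists_gm w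
  let U : X.Opens := ⟨(Set.range (FSch.completionToX X 𝓘 0))ᶜ,
    ((FSch.completionToX X 𝓘 0).isClosedEmbedding.isClosed_range).isOpen_compl⟩
  rw [← RngSp.gm_res (inf_le_left : V ⊓ U ≤ V) (show y ∈ V ⊓ U from ⟨hV, hy⟩),
    ← RngSp.gm_zero (M := (kMor 𝓘 h).push.obj M) (show y ∈ V ⊓ U from ⟨hV, hy⟩)]
  refine congrArg _ ?_
  suffices h0 : kSec 𝓘 h (res ((kMor 𝓘 h).push.obj M) (inf_le_left : V ⊓ U ≤ V) z) = 0 from h0
  exact eq_of_gm fun p hp => absurd ⟨p, rfl⟩ hp.2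

end Groth.Agent.FTorsL
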