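import Groth.Agent.FTorsL.DivTors
import Mathlib.RingTheory.Flat.Basic
import Mathlib.LinearAlgebra.TensorProduct.RightExactness
import Mathlib.LinearAlgebra.TensorProduct.Tower

/-!
# Torsion elements and flat base change
-/

set_option autoImplicit false

universe u v w

noncomputable section

open scoped TensorProduct

namespace Groth.Agent.FTorsL

section Transfer

variable {A : Type*} [CommRing A] {B : Type*} [CommRing B] {M : Type v} [AddCommGroup M] [Module A M]
  {N : Type w} [AddCommGroup N] [Module B N] (e : M ≃+ N) {g : ℕ → A} {g' : ℕ → B}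

theorem map_pow_smul_of_map_smul (he : ∀ i m, e (g i • m) = g' i • e m) (i q : ℕ) (m : M) :
    e (g i ^ q • m) = g' i ^ q • e m := by
  induction q generalizing m with
  | zero => simp
  | succ q ih => rw [pow_succ, pow_succ, mul_smul, mul_smul, ih, he]

theorem TT.transfer (he : ∀ i m, e (g i • m) = g' i • e m) {k : ℕ} {m : M} :
    TT g k m ↔ TT g' k (e m) :=
  forall_congr' fun i => forall_congr' fun _ => exists_congr fun q => by
    rw [← map_pow_smul_of_map_smul e he, EmbeddingLike.map_eq_zero_iff]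

theorem DivG.transfer (he : ∀ i m, e (g i • m) = g' i • e m) (hM : DivG g M) : DivG g' N := fun k n hn q => by
  obtain ⟨m, rfl⟩ := e.surjective n
  obtain ⟨m', j, hm', hj⟩ := hM k m ((TT.transfer e he).2 hn) q
  refine ⟨e m', j, (TT.transfer e he).1 hm', ?_⟩
  have h := congrArg e hj
  rwa [map_pow_smul_of_map_smul e he, map_sub, map_pow_smul_of_map_smul e he, map_zero] at h

end Transfer

variable {R : Type u} [CommRing R] {S : Type u} [CommRing S] [Algebra R S]
  {M : Type u} [AddCommGroup M] [Module R M] {g : ℕ → R}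

variable (g M) in
/-- The submodule of torsion elements. -/
def ttSub (k : ℕ) : Submodule R M where
  carrier := {m | TT g k m}
  zero_mem' := fun _ _ => ⟨0, smul_zero _⟩
  add_mem' := fun {a b} ha hb => by
    have h0 : TT g k (0 : M) := fun _ _ => ⟨0, smul_zero _⟩
    have := ha.sub (h0.sub hb)
    rwa [zero_sub, sub_neg_eq_add] at this
  smul_mem' := fun r _ ha => TT.smul ha r

/-- Torsion elements of a flat base change come from torsion elements. -/
theorem exists_of_TT [Module.Flat R S] : ∀ (k : ℕ) (z : S ⊗[R] M), TT g k z →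
    ∃ z' : S ⊗[R] ttSub M g k, LinearMap.lTensor S (ttSub M g k).subtype z' = z
  | 0, z, _ => by
    let L : M →ₗ[R] ttSub M g 0 := LinearMap.id.codRestrict (ttSub M g 0) fun m i hi => absurd hi (Nat.not_lt_zero i)
    refine ⟨LinearMap.lTensor S L z, ?_⟩
    rw [← LinearMap.comp_apply, ← LinearMap.lTensor_comp,
      show (ttSub M g 0).subtype ∘ₗ L = LinearMap.id from LinearMap.ext fun m => rfl, LinearMap.lTensor_id]
    rfl
  | k + 1, z, hz => by
    obtain ⟨z₁, rfl⟩ := exists_of_TT k z fun i hi => hz i (hi.trans k.lt_succ_self)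
    obtain ⟨e, he⟩ := hz k k.lt_succ_self
    let μ : ttSub M g k →ₗ[R] ttSub M g k := g k ^ e • LinearMap.id
    have hμ : LinearMap.lTensor S μ z₁ = 0 := by
      refine Module.Flat.lTensor_preserves_injective_linearMap (M := S) _ (ttSub M g k).injective_subtype ?_
      rw [map_zero, LinearMap.lTensor_smul, LinearMap.smul_apply, LinearMap.lTensor_id, LinearMap.id_apply, map_smul,
        he]
    obtain ⟨z₂, hz₂⟩ := (Module.Flat.lTensor_exact S (LinearMap.exact_subtype_ker_map μ) z₁).1 hμ
    let L : LinearMap.ker μ →ₗ[R] ttSub M g (k + 1) :=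
      ((ttSub M g k).subtype ∘ₗ (LinearMap.ker μ).subtype).codRestrict (ttSub M g (k + 1)) fun m i hi => by
        rcases Nat.lt_succ_iff_lt_or_eq.1 hi with hi' | rfl
        · exact m.1.2 i hi'
        · exact ⟨e, congrArg Subtype.val (LinearMap.mem_ker.1 m.2)⟩
    refine ⟨LinearMap.lTensor S L z₂, ?_⟩
    rw [← hz₂, ← LinearMap.comp_apply, ← LinearMap.lTensor_comp, ← LinearMap.comp_apply, ← LinearMap.lTensor_comp]
    rfl

theorem TT.tmul {k : ℕ} {m : M} (hm : TT g k m) (c : S) : TT g k (c ⊗ₜ[R] m) := fun i hi => by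
  obtain ⟨e, he⟩ := hm i hi
  exact ⟨e, by rw [← TensorProduct.tmul_smul, he, TensorProduct.tmul_zero]⟩

theorem DivG.tensor [Module.Flat R S] (hM : DivG g M) : DivG g (S ⊗[R] M) := fun k z hz q => by
  obtain ⟨z', rfl⟩ := exists_of_TT k z hz
  clear hz
  induction z' using TensorProduct.induction_on with
  | zero => exact ⟨0, 0, fun i _ => ⟨0, smul_zero _⟩, by simp⟩
  | tmul c m =>
    obtain ⟨m', j, hm', hj⟩ := hM k m.1 m.2 q
    refine ⟨c ⊗ₜ m', j, hm'.tmul c, ?_⟩
    rw [LinearMap.lTensor_tmul, ← TensorProduct.tmul_smul, ← TensorProduct.tmul_sub, ← TensorProduct.tmul_smul]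
    exact (congrArg (c ⊗ₜ[R] ·) hj).trans (TensorProduct.tmul_zero _ _)
  | add a b ia ib =>
    obtain ⟨a', i, ha, hi⟩ := ia
    obtain ⟨b', j, hb, hj⟩ := ib
    refine ⟨a' + b', i + j, ?_, ?_⟩
    · exact (ttSub (S ⊗[R] M) g k).add_mem ha hb
    · rw [map_add, smul_add, show g k ^ q • a' + g k ^ q • b' -
          (LinearMap.lTensor S (ttSub M g k).subtype a + LinearMap.lTensor S (ttSub M g k).subtype b) =
          (g k ^ q • a' - LinearMap.lTensor S (ttSub M g k).subtype a) +
          (g k ^ q • b' - LinearMap.lTensor S (ttSub M g k).subtype b) by abel, smul_add]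
      have e1 : g k ^ (i + j) • (g k ^ q • a' - LinearMap.lTensor S (ttSub M g k).subtype a) = 0 := by
        rw [pow_add, mul_comm, mul_smul, hi, smul_zero]
      have e2 : g k ^ (i + j) • (g k ^ q • b' - LinearMap.lTensor S (ttSub M g k).subtype b) = 0 := by
        rw [pow_add, mul_smul, hj, smul_zero]
      rw [e1, e2, add_zero]

end Groth.Agent.FTorsL
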