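import Groth.Agent.FTorsL.GDeriv
import Groth.Agent.FTorsL.KTors
import Groth.Agent.FTorsL.TTBase
import Groth.Agent.H9FCoh.SchQ

/-!
# Power torsion of complexes of injective modules on a scheme
-/

set_option autoImplicit false
set_option backward.isDefEq.respectTransparency false
set_option backward.isDefEq.respectTransparency.types false
set_option linter.style.haveILetI false

universe u

open CategoryTheory CategoryTheory.Limits AlgebraicGeometry TopologicalSpace Opposite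
open Groth.Agent.H9FCoh Groth.Agent.ClosedRinged
open Groth.Agent.RngSp (pt gm mp fns)

noncomputable section

namespace Groth.Agent.FTorsL

variable {X : Scheme.{u}} {𝓘 : X.IdealSheafData}

theorem fx_smul_st {T : TopCat.{u}} {O : TopCat.Sheaf CommRingCat.{u} T} {M N : ModSite.Mod O} (f : M ⟶ N) (x : T)
    (c : St O x) (z : ModSite.stalkAb (pt x) M) : fx f x (c • z) = c • fx f x z := by
  obtain ⟨U, hx, a, rfl⟩ := exists_gH c
  exact fx_smul f hx a z

theorem TorsP.map {M N : ModSite.Mod X.sheaf} (f : M ⟶ N) {y : X} {z : ModSite.stalkAb (pt y) M}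
    (hz : TorsP 𝓘 z) : TorsP 𝓘 (fx f y z) := by
  obtain ⟨V, hV, hy, k, hk⟩ := hz
  exact ⟨V, hV, hy, k, fun a ha => (fx_smul_st f y _ z).symm.trans ((congrArg (fx f y) (hk a ha)).trans (map_zero _))⟩

theorem torsP_iff_TT [IsLocallyNoetherian X] {M : ModSite.Mod X.sheaf} {V : X.Opens} (hV : IsAffineOpen V) {y : X}
    (hy : y ∈ V) {n : ℕ} (a : Fin n → Γ(X, V)) (ha : Submodule.span Γ(X, V) (Set.range a) = 𝓘.ideal ⟨V, hV⟩)
    (z : ModSite.stalkAb (pt y) M) :
    TorsP 𝓘 z ↔ TT (famG fun i => gH X.sheaf hy (a i)) n z := by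
  constructor
  · intro hz i hi
    obtain ⟨k, hk⟩ := hz.exists_kills hV hy
    refine ⟨k, ?_⟩
    simp only [famG, dif_pos hi, ← map_pow]
    exact hk _ (Ideal.pow_mem_pow (ha ▸ Submodule.subset_span ⟨⟨i, hi⟩, rfl⟩) k)
  · intro hz
    choose e he using hz
    haveI : IsNoetherianRing Γ(X, V) := IsLocallyNoetherian.component_noetherian ⟨V, hV⟩
    let 𝔞 : Ideal Γ(X, V) := Ideal.span (Set.range fun i : Fin n => a i ^ e i i.2)
    have hrad : 𝓘.ideal ⟨V, hV⟩ ≤ 𝔞.radical := by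
      rw [← ha]
      refine Submodule.span_le.2 ?_
      rintro _ ⟨i, rfl⟩
      exact ⟨e i i.2, Ideal.subset_span ⟨i, rfl⟩⟩
    obtain ⟨k, hk⟩ := Ideal.exists_pow_le_of_le_radical_of_fg hrad (IsNoetherian.noetherian _)
    refine ⟨V, hV, hy, k, fun b hb => ?_⟩
    letI : Module Γ(X, V) (ModSite.stalkAb (pt y) M) := Module.compHom _ (gH X.sheaf hy)
    refine smul_eq_zero_of_mem_span (A := Γ(X, V)) (M := ModSite.stalkAb (pt y) M) (fun c hc => ?_) (hk hb)
    obtain ⟨i, rfl⟩ := hc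
    have := he i i.2
    simp only [famG, dif_pos i.2] at this
    change gH X.sheaf hy (a i ^ e i i.2) • z = 0
    rw [map_pow]
    exact this

theorem killedBy_of_killsP {N : ModSite.Mod X.sheaf} {W : X.Opens} (hW : IsAffineOpen W) {k : ℕ}
    (s : N.val.obj (op W)) (hk : ∀ p (hp : p ∈ W), KillsP 𝓘 hW hp k (gm N hp s)) :
    FTors.KilledBy (FTors.powIdealFam X 𝓘) N k s := by
  intro W' g a ha
  change HSMul.hSMul (α := fns X.sheaf W') a (res N g.le s) = 0
  refine eq_of_gm fun p hp => ?_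
  obtain ⟨W'', hW'', hpW'', hle⟩ := Opens.isBasis_iff_nbhd.1 X.isBasis_affineOpens hp
  rw [RngSp.gm_smul, RngSp.gm_res, RngSp.gm_zero]
  have hmem : rr X.sheaf hle a ∈ 𝓘.ideal ⟨W'', hW''⟩ ^ k :=
    (FTors.mem_powIdealFam_iff X 𝓘 k W' a).1 ha ⟨W'', hW''⟩ hle
  have h1 := ((KillsP.of_le hW hW'' (hle.trans g.le) hpW'').1 (hk p (g.le hp))) _ hmem
  rw [gH_rr] at h1
  exact h1

theorem torsP_iff_exists_gamma [IsLocallyNoetherian X] {M : ModSite.Mod X.sheaf} {y : X}
    (z : ModSite.stalkAb (pt y) M) :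
    TorsP 𝓘 z ↔ ∃ a, fx ((FTors.gammaι (FTors.powIdealFam X 𝓘)).app M) y a = z := by
  constructor
  · intro hz
    obtain ⟨V, hV, s, rfl⟩ := RngSp.exists_gm z
    obtain ⟨W, hW, hWV, k, hyW, hk⟩ := exists_nbhd_killsP hV hz
    have ht : FTors.IsTorsSect (FTors.powIdealFam X 𝓘) M (res M hWV s) :=
      FTors.IsTorsSect.of_killedBy (killedBy_of_killsP hW (res M hWV s) fun p hp => by
        rw [RngSp.gm_res]; exact hk p hp)
    refine ⟨gm ((FTors.gamma X.sheaf (FTors.powIdealFam X 𝓘)).obj M) hyW ⟨res M hWV s, ht⟩, ?_⟩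
    rw [fx_gm]
    exact RngSp.gm_res hWV hyW s
  · rintro ⟨a, rfl⟩
    exact (torsP_of_isTorsZp (Gen.isTors_gamma _ M) a).map _

theorem finExt_stalk [IsLocallyNoetherian X] (J : ModSite.Mod X.sheaf) [Injective J] {V : X.Opens}
    (hV : IsAffineOpen V) {y : X} (hy : y ∈ V) :
    letI : Module Γ(X, V) (ModSite.stalkAb (pt y) J) := Module.compHom _ (gH X.sheaf hy)
    FinExt Γ(X, V) (ModSite.stalkAb (pt y) J) := fun n a m hm =>
  haveI : IsNoetherianRing (Fn X.sheaf V) := IsLocallyNoetherian.component_noetherian ⟨V, hV⟩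
  exists_smul_eq_of_injective (O := X.sheaf) J hy (fun p hp => flat_gH_sch hV p hp) a m hm

theorem divG_stalk [IsLocallyNoetherian X] (J : ModSite.Mod X.sheaf) [Injective J] {V : X.Opens}
    (hV : IsAffineOpen V) {y : X} (hy : y ∈ V) {n : ℕ} (a : Fin n → Γ(X, V)) :
    DivG (famG fun i => gH X.sheaf hy (a i)) (ModSite.stalkAb (pt y) J) := by
  haveI : IsNoetherianRing Γ(X, V) := IsLocallyNoetherian.component_noetherian ⟨V, hV⟩
  letI : Module Γ(X, V) (ModSite.stalkAb (pt y) J) := Module.compHom _ (gH X.sheaf hy)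
  refine DivG.transfer (g := famG a) (AddEquiv.refl _) (fun i m => ?_) ((finExt_stalk J hV hy).divG)
  simp only [famG]
  split_ifs
  · rfl
  · exact (congrArg (· • m) (map_zero (gH X.sheaf hy))).trans rfl

theorem exists_pow_eq_boundary_sch (I : CochainComplex (ModSite.Mod X.sheaf) ℤ)
    (hH : ∀ i, FTors.IsTorsZp X 𝓘 (I.homology i)) {i j l : ℤ} (hij : i + 1 = j) (hjl : j + 1 = l)
    {V : X.Opens} (hV : IsAffineOpen V) {y : X} (hy : y ∈ V) (a : Γ(X, V)) (ha : a ∈ 𝓘.ideal ⟨V, hV⟩)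
    (z : ModSite.stalkAb (pt y) (I.X j)) (hz : fx (I.d j l) y z = 0) :
    ∃ (e : ℕ) (v : ModSite.stalkAb (pt y) (I.X i)), gH X.sheaf hy a ^ e • z = fx (I.d i j) y v := by
  obtain ⟨b, rfl⟩ := exists_fx_kernel (I.d j l) y z hz
  let L : kernel (I.d j l) ⟶ I.cycles j := I.liftCycles (kernel.ι _) l (by simp [← hjl]) (kernel.condition _)
  obtain ⟨k, hk⟩ := (torsP_of_isTorsZp (hH j) (fx (L ≫ I.homologyπ j) y b)).exists_kills hV hy
  refine ⟨k, ?_⟩
  have h1 := hk (a ^ k) (Ideal.pow_mem_pow ha k)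
  rw [map_pow, ← fx_smul_st, ← fx_comp] at h1
  have hex : (ShortComplex.mk (I.toCycles i j) (I.homologyπ j) (I.toCycles_comp_homologyπ i j)).Exact :=
    ShortComplex.exact_of_g_is_cokernel _ (I.homologyIsCokernel i j (by simp [← hij]))
  obtain ⟨v, hv⟩ := exists_fx_of_exact hex y _ h1
  refine ⟨v, ?_⟩
  have h2 := congrArg (fx (I.iCycles j) y) hv
  rw [fx_comp, I.toCycles_i, fx_comp] at h2
  rw [h2, HomologicalComplex.liftCycles_i, fx_smul_st]

variable (𝓘) in
theorem exists_sub_boundary_sch [IsLocallyNoetherian X] (I : CochainComplex (ModSite.Mod X.sheaf) ℤ)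
    (hI : ∀ i, Injective (I.X i)) (hH : ∀ i, FTors.IsTorsZp X 𝓘 (I.homology i)) {i j l : ℤ} (hij : i + 1 = j)
    (hjl : j + 1 = l) {y : X} (w : ModSite.stalkAb (pt y) (I.X j)) (hw : TorsP 𝓘 (fx (I.d j l) y w)) :
    ∃ v, TorsP 𝓘 (w - fx (I.d i j) y v) := by
  obtain ⟨V, hV, hy, -⟩ := Opens.isBasis_iff_nbhd.1 X.isBasis_affineOpens (show y ∈ (⊤ : X.Opens) from trivial)
  haveI : IsNoetherianRing Γ(X, V) := IsLocallyNoetherian.component_noetherian ⟨V, hV⟩
  obtain ⟨n, a, ha⟩ := Submodule.fg_iff_exists_fin_generating_family.1 (IsNoetherian.noetherian (𝓘.ideal ⟨V, hV⟩))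
  let g := famG fun i : Fin n => gH X.sheaf hy (a i)
  let d : ∀ i j, ModSite.stalkAb (pt y) (I.X i) →ₗ[St X.sheaf y] ModSite.stalkAb (pt y) (I.X j) := fun i j =>
    { toFun := fx (I.d i j) y
      map_add' := map_add _
      map_smul' := fun c z => fx_smul_st (I.d i j) y c z }
  have hd : ∀ i j l z, d j l (d i j z) = 0 := fun i j l z =>
    show fx (I.d j l) y (fx (I.d i j) y z) = 0 by rw [fx_comp, I.d_comp_d, fx_zero]
  have hX : ∀ i, DivG g (ModSite.stalkAb (pt y) (I.X i)) := fun i =>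
    haveI := hI i
    divG_stalk (I.X i) hV hy a
  obtain ⟨v, hv⟩ := exists_sub_boundary_TT (g := g) d hX hd n
    (fun i j l hij hjl z hz r hr => by
      obtain ⟨e, v, he⟩ := exists_pow_eq_boundary_sch I hH hij hjl hV hy (a ⟨r, hr⟩)
        (ha ▸ Submodule.subset_span ⟨⟨r, hr⟩, rfl⟩) z hz
      refine ⟨e, v, ?_⟩
      simp only [g, famG, dif_pos hr]
      exact he)
    i j l hij hjl w ((torsP_iff_TT hV hy a ha _).1 hw)
  exact ⟨v, (torsP_iff_TT hV hy a ha _).2 hv⟩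

variable (X 𝓘)

/-- Complexes of injectives with power-torsion cohomology on a locally Noetherian scheme. -/
theorem hasAcyc_powIdealFam [IsLocallyNoetherian X] : Gen.HasAcyc (FTors.powIdealFam X 𝓘) := by
  intro I hI hH
  haveI := Gen.mono_gammaCx (FTors.powIdealFam X 𝓘) I
  refine quasiIso_of_mono _ fun j => ?_
  rw [HomologicalComplex.exactAt_iff' _ (j - 1) j (j + 1) (by simp) (by simp)]
  let γ := Gen.gammaCx (FTors.powIdealFam X 𝓘) I
  let π := cokernel.π γ
  haveI : ∀ m, Epi (π.f m) := fun m => inferInstanceAs (Epi ((HomologicalComplex.eval _ _ m).map π))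
  have hex : ∀ m, (ShortComplex.mk (γ.f m) (π.f m) (by
      rw [← HomologicalComplex.comp_f, cokernel.condition]; rfl)).Exact := fun m =>
    (ShortComplex.exact_cokernel γ).map (HomologicalComplex.eval _ _ m)
  refine exact_of_fx fun x z hz => ?_
  obtain ⟨w, rfl⟩ := fx_surjective_of_epi (π.f j) x z
  change fx ((cokernel γ).d j (j + 1)) x (fx (π.f j) x w) = 0 at hz
  rw [fx_comp, π.comm, ← fx_comp] at hz
  have hw : TorsP 𝓘 (fx (I.d j (j + 1)) x w) :=
    (torsP_iff_exists_gamma _).2 (exists_fx_of_exact (hex (j + 1)) x _ hz)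
  obtain ⟨v, hv⟩ := exists_sub_boundary_sch 𝓘 I hI hH (i := j - 1) (by omega) rfl w hw
  obtain ⟨a, ha⟩ := (torsP_iff_exists_gamma _).1 hv
  refine ⟨fx (π.f (j - 1)) x v, ?_⟩
  change fx ((cokernel γ).d (j - 1) j) x (fx (π.f (j - 1)) x v) = fx (π.f j) x w
  rw [fx_comp, π.comm, ← fx_comp, eq_comm, ← sub_eq_zero, ← map_sub, ← ha]
  refine (fx_comp (γ.f j) (π.f j) x a).trans ?_
  rw [show γ.f j ≫ π.f j = 0 by rw [← HomologicalComplex.comp_f, cokernel.condition]; rfl, fx_zero]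

end Groth.Agent.FTorsL
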