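import Groth.Agent.FTorsL.KTensor
import Groth.Agent.FTorsL.SAcyc
import Groth.Agent.FTorsL.DerTors

/-!
# Inverse images of complexes of injectives along the completion
-/

set_option autoImplicit false
set_option backward.isDefEq.respectTransparency false
set_option backward.isDefEq.respectTransparency.types false
set_option linter.style.haveILetI false

universe u

open CategoryTheory CategoryTheory.Limits AlgebraicGeometry TopologicalSpace Opposite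
open Groth.Agent.H9FCoh Groth.Agent.ClosedRinged
open Groth.Agent.RngSp (pt gm mp fns)

open scoped TensorProduct

noncomputable section

namespace Groth.Agent.FTorsL

variable {X : Scheme.{u}} [IsLocallyNoetherian X] {𝓘 : X.IdealSheafData}
  (h : (FSch.completionAlong X 𝓘).IsLocNoethFormal)

theorem flat_kθ (x : (Xh 𝓘).X 0) : (kθ 𝓘 h x).Flat := by
  letI := kAlg h x
  refine Module.Flat.of_forall_isTrivialRelation fun {l f s} hfs => ?_
  obtain ⟨V₁, -, hx₁, a₁, ha₁⟩ := exists_lift_finite (O := X.sheaf) (U := (⊤ : X.Opens)) (x := kPt 𝓘 x) trivial f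
  obtain ⟨V, hV, hxV, hle⟩ := Opens.isBasis_iff_nbhd.1 X.isBasis_affineOpens hx₁
  let ψ := (gH ((Xh 𝓘).Osh h.1) (show x ∈ kU 𝓘 V from hxV)).comp (kS 𝓘 h V)
  have hψ : ψ.Flat := (H9ComplFlat.flat_app X 𝓘 h.1 ⟨V, hV⟩).comp
    ((good h).flat (kU 𝓘 V) (isAffineOpen_kU 𝓘 hV) x hxV)
  letI : Algebra Γ(X, V) (St ((Xh 𝓘).Osh h.1) x) := ψ.toAlgebra
  haveI : Module.Flat Γ(X, V) (St ((Xh 𝓘).Osh h.1) x) := hψ
  let a : Fin l → Γ(X, V) := fun i => rr X.sheaf hle (a₁ i)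
  have ha : ∀ i, gH X.sheaf hxV (a i) = f i := fun i => (gH_rr hle hxV (a₁ i)).trans (ha₁ i)
  have key : ∀ (b : Γ(X, V)) (c : St ((Xh 𝓘).Osh h.1) x), b • c = gH X.sheaf hxV b • c := fun b c => by
    rw [Algebra.smul_def, Algebra.smul_def]
    change ψ b * c = kθ 𝓘 h x (gH X.sheaf hxV b) * c
    rw [kθ_gH 𝓘 h x hxV]
    rfl
  have h0 : ∑ i, a i • s i = 0 := by
    rw [← hfs]
    exact Finset.sum_congr rfl fun i _ => by rw [key, ha]
  obtain ⟨k, A, y, hsy, hA⟩ := @Module.Flat.isTrivialRelation_of_sum_smul_eq_zero Γ(X, V)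
    (St ((Xh 𝓘).Osh h.1) x) _ _ _ ‹_› _ _ a s h0
  refine ⟨k, fun i j => gH X.sheaf hxV (A i j), y, fun i => ?_, fun j => ?_⟩
  · rw [hsy i]
    exact Finset.sum_congr rfl fun j _ => key _ _
  · have e := congrArg (gH X.sheaf hxV) (hA j)
    rw [map_sum, map_zero] at e
    rw [← e]
    exact Finset.sum_congr rfl fun i _ => by rw [map_mul, ha]

theorem span_kS {V : X.Opens} (hV : IsAffineOpen V) {n : ℕ} (a : Fin n → Γ(X, V))
    (ha : Submodule.span Γ(X, V) (Set.range a) = 𝓘.ideal ⟨V, hV⟩) :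
    Submodule.span (Ox h (kU 𝓘 V)) (Set.range fun i => kS 𝓘 h V (a i)) = J h (kU 𝓘 V) := by
  rw [J_eq_map 𝓘 h hV, ← ha]
  change _ = Ideal.map (kS 𝓘 h V) (Ideal.span (Set.range a))
  rw [Ideal.map_span, ← Set.range_comp]
  rfl

variable {M : ModSite.Mod X.sheaf} {x : (Xh 𝓘).X 0}

omit [IsLocallyNoetherian X] in
theorem kΨ_smul (Ψ : letI := kAlg h x
      (St ((Xh 𝓘).Osh h.1) x ⊗[St X.sheaf (kPt 𝓘 x)] ModSite.stalkAb (pt (kPt 𝓘 x)) M) →+
        ModSite.stalkAb (pt x) ((kMor 𝓘 h).pull.obj M))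
    (hΨ : letI := kAlg h x
      ∀ c z, Ψ (c ⊗ₜ z) = c • kφ h M x z) (r : St X.sheaf (kPt 𝓘 x)) :
    letI := kAlg h x
    ∀ z, Ψ (r • z) = kθ 𝓘 h x r • Ψ z := by
  letI := kAlg h x
  intro z
  induction z using TensorProduct.induction_on with
  | zero => rw [smul_zero, map_zero, smul_zero]
  | tmul c z => rw [← TensorProduct.tmul_smul, hΨ, hΨ, kφ_smul, smul_smul, smul_smul, mul_comm]
  | add z z' iz iz' => rw [smul_add, map_add, iz, iz', map_add, smul_add]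

omit [IsLocallyNoetherian X] in
theorem map_famG {n : ℕ} {V : X.Opens} (hx : kPt 𝓘 x ∈ V) (a : Fin n → Γ(X, V)) (i : ℕ)
    (m : ModSite.stalkAb (pt x) ((kMor 𝓘 h).pull.obj M)) :
    kθ 𝓘 h x (famG (fun i => gH X.sheaf hx (a i)) i) • m =
      gH ((Xh 𝓘).Osh h.1) (show x ∈ kU 𝓘 V from hx) (famG (fun i => kS 𝓘 h V (a i)) i) • m := by
  simp only [famG]
  split_ifs
  · rw [kθ_gH 𝓘 h x hx]
  · rw [map_zero, map_zero]

theorem divCx_pull (K : CochainComplex (ModSite.Mod X.sheaf) ℤ) (hK : ∀ i, Injective (K.X i)) :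
    DivCx h (((kMor 𝓘 h).pull.mapHomologicalComplex (ComplexShape.up ℤ)).obj K) := fun x => by
  obtain ⟨V, hV, hxV, -⟩ :=
    Opens.isBasis_iff_nbhd.1 X.isBasis_affineOpens (show kPt 𝓘 x ∈ (⊤ : X.Opens) from trivial)
  haveI : IsNoetherianRing Γ(X, V) := IsLocallyNoetherian.component_noetherian ⟨V, hV⟩
  obtain ⟨n, a, ha⟩ := Submodule.fg_iff_exists_fin_generating_family.1 (IsNoetherian.noetherian (𝓘.ideal ⟨V, hV⟩))
  refine ⟨kU 𝓘 V, isAffineOpen_kU 𝓘 hV, hxV, n, fun i => kS 𝓘 h V (a i), span_kS h hV a ha, fun i => ?_⟩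
  letI := kAlg h x
  haveI : Module.Flat (St X.sheaf (kPt 𝓘 x)) (St ((Xh 𝓘).Osh h.1) x) := flat_kθ h x
  haveI := hK i
  obtain ⟨Ψ, hΨ, hb⟩ := exists_kBC h (K.X i) x
  letI : Module (Ox h (kU 𝓘 V)) (ModSite.stalkAb (pt x) ((kMor 𝓘 h).pull.obj (K.X i))) :=
    Module.compHom _ (gH ((Xh 𝓘).Osh h.1) (show x ∈ kU 𝓘 V from hxV))
  exact DivG.transfer (g := famG fun i => gH X.sheaf (x := kPt 𝓘 x) hxV (a i)) (AddEquiv.ofBijective Ψ hb)
    (fun j z => (kΨ_smul h Ψ hΨ _ z).trans (map_famG h hxV a j (Ψ z))) (divG_stalk (K.X i) hV hxV a).tensor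

omit [IsLocallyNoetherian X] in
theorem fx_pull_kφ {N : ModSite.Mod X.sheaf} (f : M ⟶ N) (z : ModSite.stalkAb (pt (kPt 𝓘 x)) M) :
    fx ((kMor 𝓘 h).pull.map f) x (kφ h M x z) = kφ h N x (fx f (kPt 𝓘 x) z) := by
  obtain ⟨V, hV, s, rfl⟩ := RngSp.exists_gm z
  rw [kφ_gm]
  refine (fx_gm _ _ _).trans ?_
  refine Eq.trans ?_ ((congrArg (kφ h N x) (fx_gm f hV s)).trans (kφ_gm h N hV (mp f V s))).symm
  exact congrArg _ (ModPull.pu_naturality (kMor 𝓘 h) f (U := op V) s)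

/-- Torsion germs of inverse images come from the torsion submodule. -/
theorem exists_pull_gammaι (w : ModSite.stalkAb (pt x) ((kMor 𝓘 h).pull.obj M)) (hw : TorsAt h w) :
    ∃ a, fx ((kMor 𝓘 h).pull.map ((FTors.gammaι (FTors.powIdealFam X 𝓘)).app M)) x a = w := by
  obtain ⟨V, hV, hxV, -⟩ :=
    Opens.isBasis_iff_nbhd.1 X.isBasis_affineOpens (show kPt 𝓘 x ∈ (⊤ : X.Opens) from trivial)
  haveI : IsNoetherianRing Γ(X, V) := IsLocallyNoetherian.component_noetherian ⟨V, hV⟩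
  obtain ⟨n, a, ha⟩ := Submodule.fg_iff_exists_fin_generating_family.1 (IsNoetherian.noetherian (𝓘.ideal ⟨V, hV⟩))
  letI := kAlg h x
  haveI : Module.Flat (St X.sheaf (kPt 𝓘 x)) (St ((Xh 𝓘).Osh h.1) x) := flat_kθ h x
  obtain ⟨Ψ, hΨ, hb⟩ := exists_kBC h M x
  letI : Module (Ox h (kU 𝓘 V)) (ModSite.stalkAb (pt x) ((kMor 𝓘 h).pull.obj M)) :=
    Module.compHom _ (gH ((Xh 𝓘).Osh h.1) (show x ∈ kU 𝓘 V from hxV))
  obtain ⟨z, rfl⟩ := hb.2 w
  have h1 := (torsAt_iff_TT h (isAffineOpen_kU 𝓘 hV) (show x ∈ kU 𝓘 V from hxV)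
    (fun i => kS 𝓘 h V (a i)) (span_kS h hV a ha) _).1 hw
  have h2 : TT (famG fun i => gH X.sheaf (x := kPt 𝓘 x) hxV (a i)) n z :=
    (TT.transfer (g' := famG fun i => kS 𝓘 h V (a i)) (AddEquiv.ofBijective Ψ hb)
      (fun j z => (kΨ_smul h Ψ hΨ _ z).trans (map_famG h hxV a j (Ψ z)))).2 h1
  obtain ⟨z', rfl⟩ := exists_of_TT n z h2
  clear h2 h1 hw
  induction z' using TensorProduct.induction_on with
  | zero => exact ⟨0, by rw [map_zero, map_zero, map_zero]⟩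
  | tmul c m =>
    obtain ⟨b, hb⟩ := (torsP_iff_exists_gamma (𝓘 := 𝓘) _).1 ((torsP_iff_TT hV hxV a ha m.1).2 m.2)
    refine ⟨c • kφ h _ x b, ?_⟩
    rw [LinearMap.lTensor_tmul, hΨ, fx_smul_st, fx_pull_kφ, hb]
    rfl
  | add z z' iz iz' =>
    obtain ⟨b, hb⟩ := iz
    obtain ⟨b', hb'⟩ := iz'
    exact ⟨b + b', by rw [map_add, map_add, map_add, hb, hb']⟩

variable (M) in
theorem exists_comparison [PreservesFiniteLimits (kMor 𝓘 h).pull] :
    ∃ θ : (kMor 𝓘 h).pull.obj ((FTors.gamma X.sheaf (FTors.powIdealFam X 𝓘)).obj M) ⟶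
        (FTors.gammaT (Xh 𝓘) h.1).obj ((kMor 𝓘 h).pull.obj M),
      IsIso θ ∧ θ ≫ (FTors.gammaTι (Xh 𝓘) h.1).app ((kMor 𝓘 h).pull.obj M) =
        (kMor 𝓘 h).pull.map ((FTors.gammaι (FTors.powIdealFam X 𝓘)).app M) := by
  have hT := isTorsF_pull h (N := (FTors.gamma X.sheaf (FTors.powIdealFam X 𝓘)).obj M)
    fun y z => torsP_of_isTorsZp (Gen.isTors_gamma _ M) z
  obtain ⟨θ, hθ⟩ := gammaTι_lift_aux h hT ((kMor 𝓘 h).pull.map ((FTors.gammaι (FTors.powIdealFam X 𝓘)).app M))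
  haveI := Gen.mono_gammaι (FTors.powIdealFam X 𝓘) M
  haveI : Mono ((kMor 𝓘 h).pull.map ((FTors.gammaι (FTors.powIdealFam X 𝓘)).app M)) := inferInstance
  haveI := mono_gammaTι h.1 ((kMor 𝓘 h).pull.obj M)
  refine ⟨θ, isIso_of_bijective_fx θ fun p => ⟨fun b b' e => fx_injective
    ((kMor 𝓘 h).pull.map ((FTors.gammaι (FTors.powIdealFam X 𝓘)).app M)) p ?_, fun t => ?_⟩, hθ⟩
  · rw [← hθ]
    exact (fx_comp _ _ _ _).symm.trans ((congrArg (fx _ p) e).trans (fx_comp _ _ _ _))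
  · obtain ⟨b, hb⟩ := exists_pull_gammaι h (fx ((FTors.gammaTι (Xh 𝓘) h.1).app ((kMor 𝓘 h).pull.obj M)) p t)
      ((torsAt_iff_exists_gamma h _).2 ⟨t, rfl⟩)
    refine ⟨b, fx_injective ((FTors.gammaTι (Xh 𝓘) h.1).app ((kMor 𝓘 h).pull.obj M)) p ?_⟩
    exact ((fx_comp _ _ _ _).trans (congrArg (fun q => fx q p b) hθ)).trans hb

end Groth.Agent.FTorsL
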