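import Groth.Agent.FTorsL.KQC
import Groth.Agent.FTorsL.AdjDer
import Groth.Agent.FTorsL.KPullDer
import Groth.Agent.S13345

/-!
# The derived functors of the completion morphism
-/

set_option autoImplicit false
set_option backward.isDefEq.respectTransparency false
set_option backward.isDefEq.respectTransparency.types false
set_option linter.style.haveILetI false

universe u

open CategoryTheory CategoryTheory.Limits AlgebraicGeometry TopologicalSpace Opposite DerivedCategory
open Groth.Agent.H9FCoh Groth.Agent.ClosedRinged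
open Groth.Agent.RngSp (pt gm mp fns)

attribute [local instance] HasDerivedCategory.standard

noncomputable section

namespace Groth.Agent.FTorsL

section Generic

variable {C D : Type u} [SmallCategory C] [SmallCategory D] {J : GrothendieckTopology C} {K : GrothendieckTopology D}
  {O_C : Sheaf J CommRingCat.{u}} {O_D : Sheaf K CommRingCat.{u}} (f : ModSite.RMor O_C O_D)
  [f.push.Additive] [PreservesFiniteLimits f.push] [PreservesFiniteColimits f.push] [SiteCmp.HasRpushD f]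

theorem nonempty_RpushD_iso : Nonempty (f.push.mapDerivedCategory ≅ SiteCmp.RpushD f) := by
  let W := HomotopyCategory.quasiIso (ModSite.Mod O_C) (ComplexShape.up ℤ)
  let e : Qh ⋙ f.push.mapDerivedCategory ≅ SiteCmp.pushKh f := f.push.mapDerivedCategoryFactorsh
  haveI := Functor.isRightDerivedFunctor_of_inverts W f.push.mapDerivedCategory e
  exact ⟨Functor.rightDerivedUnique _ _ e.inv ((SiteCmp.pushKh f).totalRightDerivedUnit Qh W) W⟩

/-- The derived direct image of an exact direct image, termwise. -/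
def rPushIso : f.push.mapDerivedCategory ≅ SiteCmp.RpushD f := (nonempty_RpushD_iso f).some

/-- Cohomology of the derived direct image of an exact direct image. -/
def hPushIso (E : DerivedCategory (ModSite.Mod O_C)) (i : ℤ) :
    SiteCmp.HMod ((SiteCmp.RpushD f).obj E) i ≅ f.push.obj (SiteCmp.HMod E i) :=
  (homologyFunctor (ModSite.Mod O_D) i).mapIso ((rPushIso f).symm.app E) ≪≫
    (KFlatLib.mapDCHomologyIso f.push i).app E

end Generic

variable {X : Scheme.{u}} {𝓘 : X.IdealSheafData} (h : (FSch.completionAlong X 𝓘).IsLocNoethFormal)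

omit h in
theorem fx_push_kι (h : (FSch.completionAlong X 𝓘).IsLocNoethFormal) {M N : FSch.ModF (Xh 𝓘) h.1} (f : M ⟶ N)
    (x : (Xh 𝓘).X 0) (w : ModSite.stalkAb (pt (kPt 𝓘 x)) ((kMor 𝓘 h).push.obj M)) :
    kι 𝓘 h N x (fx ((kMor 𝓘 h).push.map f) (kPt 𝓘 x) w) = fx f x (kι 𝓘 h M x w) := by
  obtain ⟨V, hV, z, rfl⟩ := RngSp.exists_gm w
  rw [kι_gm]
  refine Eq.trans ?_ (fx_gm f _ (kSec 𝓘 h z)).symm
  exact (congrArg (kι 𝓘 h N x) (fx_gm _ hV z)).trans (kι_gm 𝓘 h hV _)

theorem additive_push : (kMor 𝓘 h).push.Additive := (kMor 𝓘 h).adj.right_adjoint_additive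

theorem preservesFiniteLimits_push : PreservesFiniteLimits (kMor 𝓘 h).push :=
  haveI : PreservesLimitsOfSize.{0, 0} (kMor 𝓘 h).push := (kMor 𝓘 h).adj.rightAdjoint_preservesLimits
  PreservesLimitsOfSize.preservesFiniteLimits (kMor 𝓘 h).push

theorem preservesFiniteColimits_push : PreservesFiniteColimits (kMor 𝓘 h).push := by
  haveI := additive_push h
  haveI := preservesFiniteLimits_push h
  haveI : (kMor 𝓘 h).push.PreservesEpimorphisms := ⟨fun {M N} f _ => by
    refine RngSp.epi_of_surjective _ fun V z => ?_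
    exact id (epi_aux h f V z)⟩
  haveI : (kMor 𝓘 h).push.PreservesHomology := Functor.preservesHomology_of_preservesEpis_and_kernels _
  exact Functor.preservesFiniteColimits_of_preservesHomology _
where
  epi_aux (h : (FSch.completionAlong X 𝓘).IsLocNoethFormal) {M N : FSch.ModF (Xh 𝓘) h.1} (f : M ⟶ N) [Epi f]
      (V : X.Opens) (z : ((kMor 𝓘 h).push.obj N).val.obj (op V)) :
      RngSp.Nearby V fun W hW => ∃ m, mp ((kMor 𝓘 h).push.map f) W m = res ((kMor 𝓘 h).push.obj N) hW z := by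
    intro y hy
    have hs : ∃ w, fx ((kMor 𝓘 h).push.map f) y w = gm _ hy z := by
      by_cases hyr : y ∈ Set.range (FSch.completionToX X 𝓘 0)
      · obtain ⟨x, rfl⟩ := hyr
        obtain ⟨m, hm⟩ := fx_surjective_of_epi f x (kι 𝓘 h N x (gm _ hy z))
        obtain ⟨w, rfl⟩ := (kι_bijective 𝓘 h M x).2 m
        exact ⟨w, (kι_bijective 𝓘 h N x).1 ((fx_push_kι h f x w).trans hm)⟩
      · exact ⟨0, (map_zero _).trans (eq_zero_push_of_not_mem_range 𝓘 h N hyr _).symm⟩
    obtain ⟨w, hw⟩ := hs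
    obtain ⟨W, hW, m, rfl⟩ := RngSp.exists_gm w
    obtain ⟨W', h₁, h₂, hy', e⟩ := RngSp.exists_gm_eq _ _ _ _ ((fx_gm _ hW m).symm.trans hw)
    exact ⟨W', h₂, hy', res _ h₁ m, (RngSp.mp_res _ h₁ m).trans e⟩

variable [IsLocallyNoetherian X]

theorem preservesFiniteLimits_pull : PreservesFiniteLimits (kMor 𝓘 h).pull := S13345.result X 𝓘 h.1

theorem isTorsF_pull' {N : ModSite.Mod X.sheaf} (hN : FTors.IsTorsZp X 𝓘 N) :
    FTors.IsTorsF (Xh 𝓘) h.1 ((kMor 𝓘 h).pull.obj N) :=
  isTorsF_pull h fun _ z => torsP_of_isTorsZp hN z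

theorem isTorsZp_push' {M : FSch.ModF (Xh 𝓘) h.1} (hM : FTors.IsTorsF (Xh 𝓘) h.1 M) :
    FTors.IsTorsZp X 𝓘 ((kMor 𝓘 h).push.obj M) := isTorsZp_of_torsP (torsP_push h hM)

variable [PreservesFiniteLimits (kMor 𝓘 h).pull]

/-- Cohomology of the derived inverse image. -/
def hPullIso (E : DerivedCategory (ModSite.Mod X.sheaf)) (i : ℤ) :
    SiteCmp.HMod ((SiteCmp.pullD (kMor 𝓘 h)).obj E) i ≅ (kMor 𝓘 h).pull.obj (SiteCmp.HMod E i) :=
  (KFlatLib.mapDCHomologyIso (kMor 𝓘 h).pull i).app E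

theorem isDTorsF_pullD {E : DerivedCategory (ModSite.Mod X.sheaf)} (hE : FTors.IsDTorsZp X 𝓘 E) :
    FTors.IsDTorsF (Xh 𝓘) h.1 ((SiteCmp.pullD (kMor 𝓘 h)).obj E) := fun i =>
  haveI := isClosedUnderIsomorphisms_isTorsF h
  (FTors.IsTorsF (Xh 𝓘) h.1).prop_of_iso (hPullIso h E i).symm (isTorsF_pull' h (hE i))

variable [SiteCmp.HasRpushD (kMor 𝓘 h)]

omit [PreservesFiniteLimits (kMor 𝓘 h).pull] in
theorem exists_hPushIso (G : DerivedCategory (FSch.ModF (Xh 𝓘) h.1)) (i : ℤ) :
    Nonempty (SiteCmp.HMod ((SiteCmp.RpushD (kMor 𝓘 h)).obj G) i ≅ (kMor 𝓘 h).push.obj (SiteCmp.HMod G i)) :=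
  haveI := additive_push h
  haveI := preservesFiniteLimits_push h
  haveI := preservesFiniteColimits_push h
  ⟨hPushIso (kMor 𝓘 h) G i⟩

omit [PreservesFiniteLimits (kMor 𝓘 h).pull] in
theorem isDTorsZp_RpushD {G : DerivedCategory (FSch.ModF (Xh 𝓘) h.1)} (hG : FTors.IsDTorsF (Xh 𝓘) h.1 G) :
    FTors.IsDTorsZp X 𝓘 ((SiteCmp.RpushD (kMor 𝓘 h)).obj G) := fun i =>
  haveI := Gen.isClosedUnderIsomorphisms_isTors (FTors.powIdealFam X 𝓘)
  let ⟨e⟩ := exists_hPushIso h G i
  (FTors.IsTorsZp X 𝓘).prop_of_iso e.symm (isTorsZp_push' h (hG i))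

/-- The derived adjunction, with invertible unit and counit on objects with torsion cohomology. -/
theorem exists_adj : ∃ a : SiteCmp.pullD (kMor 𝓘 h) ⊣ SiteCmp.RpushD (kMor 𝓘 h),
    (∀ E, FTors.IsDTorsZp X 𝓘 E → IsIso (a.unit.app E)) ∧
      ∀ G, FTors.IsDTorsF (Xh 𝓘) h.1 G → IsIso (a.counit.app G) := by
  haveI := additive_push h
  haveI := preservesFiniteLimits_push h
  haveI := preservesFiniteColimits_push h
  let a₀ := exactDerAdj (kMor 𝓘 h).adj
  let e := rPushIso (kMor 𝓘 h)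
  refine ⟨a₀.ofNatIsoRight e, fun E hE => ?_, fun G hG => ?_⟩
  · haveI := isIso_derUnit (kMor 𝓘 h).adj E fun i => isIso_unit h fun _ z => torsP_of_isTorsZp (hE i) z
    have e1 : (a₀.ofNatIsoRight e).unit.app E =
        a₀.unit.app E ≫ e.hom.app ((SiteCmp.pullD (kMor 𝓘 h)).obj E) := by
      simp [Adjunction.ofNatIsoRight]
    rw [e1]
    exact IsIso.comp_isIso' inferInstance inferInstance
  · haveI := isIso_derCounit (kMor 𝓘 h).adj G fun i => isIso_counit h (hG i)
    have e1 : (a₀.ofNatIsoRight e).counit.app G =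
        (SiteCmp.pullD (kMor 𝓘 h)).map (e.inv.app G) ≫ a₀.counit.app G := by
      simp [Adjunction.ofNatIsoRight]
    rw [e1]
    exact IsIso.comp_isIso' inferInstance inferInstance

end Groth.Agent.FTorsL
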