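import Groth.Agent.FTorsL.KTors
import Groth.Agent.FTorsL.Acyc

/-!
# Power-torsion modules and torsion modules on the completion
-/

set_option autoImplicit false
set_option backward.isDefEq.respectTransparency false
set_option backward.isDefEq.respectTransparency.types false
set_option linter.style.haveILetI false

universe u

open CategoryTheory CategoryTheory.Limits AlgebraicGeometry TopologicalSpace Opposite
open Groth.Agent.H9FCoh Groth.Agent.ClosedRinged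
open Groth.Agent.RngSp (pt gm mp fns)

noncomputable section

namespace Groth.Agent.FTorsL

section Generic

variable {T : TopCat.{u}} {O : TopCat.Sheaf CommRingCat.{u} T}

theorem injective_mp_of_fx {A B : ModSite.Mod O} (c : A ⟶ B) (hi : ∀ y, Function.Injective (fx c y))
    (W : Opens T) : Function.Injective (mp c W) := fun s t e => eq_of_gm fun y hy => by
  refine hi y ?_
  rw [fx_gm, fx_gm, e]

theorem isIso_of_bijective_fx {A B : ModSite.Mod O} (c : A ⟶ B) (hb : ∀ y, Function.Bijective (fx c y)) :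
    IsIso c := by
  have hinj := injective_mp_of_fx c fun y => (hb y).1
  refine isIso_of_bijective_mp c fun W => ⟨hinj W, fun s => ?_⟩
  have hloc : ∀ y : W, ∃ (V : Opens T) (hV : V ≤ W) (t : A.val.obj (op V)),
      y.1 ∈ V ∧ mp c V t = res B hV s := fun y => by
    obtain ⟨w, hw⟩ := (hb y.1).2 (gm B y.2 s)
    obtain ⟨V, hyV, t, rfl⟩ := RngSp.exists_gm w
    rw [fx_gm] at hw
    obtain ⟨V', h₁, h₂, hyV', he⟩ := RngSp.exists_gm_eq _ _ _ _ hw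
    exact ⟨V', h₂, res A h₁ t, hyV', (RngSp.mp_res c h₁ t).trans he⟩
  choose V hV t hyV ht using hloc
  obtain ⟨m, hm⟩ := ClosedRinged.exists_glue A V hV (fun y hy => ⟨⟨y, hy⟩, hyV ⟨y, hy⟩⟩) t
    fun i j => hinj _ (by rw [RngSp.mp_res, RngSp.mp_res, ht, ht, res_res, res_res])
  exact ⟨m, eq_of_gm fun y hy => by
    rw [← RngSp.gm_res (hV ⟨y, hy⟩) (hyV ⟨y, hy⟩) (mp c W m), ← RngSp.mp_res, hm, ht, RngSp.gm_res]⟩

theorem adj_unit_counit_app {T' : TopCat.{u}} {O' : TopCat.Sheaf CommRingCat.{u} T'} (g : T' ⟶ T)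
    (sharp : O ⟶ ((Opens.map g).sheafPushforwardContinuous CommRingCat.{u}
      (Opens.grothendieckTopology T) (Opens.grothendieckTopology T')).obj O')
    (M : ModSite.Mod O') (U : Opens T) (s : ((rmor g sharp).push.obj M).val.obj (op U)) :
    (mp ((rmor g sharp).adj.counit.app M) ((Opens.map g).obj U) (puSec g sharp ((rmor g sharp).push.obj M) s) :
      M.val.obj (op ((Opens.map g).obj U))) = s :=
  congrArg (fun t : (rmor g sharp).push.obj M ⟶ (rmor g sharp).push.obj M => mp t U s)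
    ((rmor g sharp).adj.right_triangle_components M)

end Generic

variable {X : Scheme.{u}} {𝓘 : X.IdealSheafData} (h : (FSch.completionAlong X 𝓘).IsLocNoethFormal)

theorem smul_eq_zero_of_mem_map {M : FSch.ModF (Xh 𝓘) h.1} {U : ((Xh 𝓘).X 0).Opens} {x : (Xh 𝓘).X 0}
    {hx : x ∈ U} {k : ℕ} {z : ModSite.stalkAb (pt x) M} (hz : KillsAt h hx k z)
    {c : St ((Xh 𝓘).Osh h.1) x} (hc : c ∈ (J h U ^ k).map (gH ((Xh 𝓘).Osh h.1) hx)) : c • z = 0 := by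
  induction hc using Submodule.span_induction with
  | mem c hc => obtain ⟨a, ha, rfl⟩ := hc; exact hz a ha
  | zero => rw [zero_smul]
  | add a b _ _ ia ib => rw [add_smul, ia, ib, add_zero]
  | smul a b _ ib => rw [smul_eq_mul, mul_smul, ib, smul_zero]

variable (N : ModSite.Mod X.sheaf)

/-- The germ of a pulled back element. -/
def kφ (x : (Xh 𝓘).X 0) :
    ModSite.stalkAb (pt (kPt 𝓘 x)) N →+ ModSite.stalkAb (pt x) ((kMor 𝓘 h).pull.obj N) :=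
  AddMonoidHom.mk' (fun z => kι 𝓘 h _ x (fx ((kMor 𝓘 h).adj.unit.app N) (kPt 𝓘 x) z))
    fun a b => by rw [map_add, kι_add]

theorem kφ_gm {x : (Xh 𝓘).X 0} {V : X.Opens} (hx : kPt 𝓘 x ∈ V) (s : N.val.obj (op V)) :
    kφ h N x (gm N hx s) = gm ((kMor 𝓘 h).pull.obj N) (show x ∈ kU 𝓘 V from hx)
      (puC h (FSch.completionToX X 𝓘) (FSch.completionToX_comm X 𝓘) N s) := by
  change kι 𝓘 h _ x (fx ((kMor 𝓘 h).adj.unit.app N) (kPt 𝓘 x) (gm N hx s)) = _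
  exact (congrArg (kι 𝓘 h _ x) (fx_gm _ hx s)).trans (kι_gm 𝓘 h hx _)

theorem kφ_smul {x : (Xh 𝓘).X 0} (r : St X.sheaf (kPt 𝓘 x)) (z : ModSite.stalkAb (pt (kPt 𝓘 x)) N) :
    kφ h N x (r • z) = kθ 𝓘 h x r • kφ h N x z := by
  obtain ⟨V, hV, a, rfl⟩ := exists_gH r
  change kι 𝓘 h _ x (fx ((kMor 𝓘 h).adj.unit.app N) (kPt 𝓘 x) (gH X.sheaf hV a • z)) = _
  exact (congrArg (kι 𝓘 h _ x) (fx_smul _ hV a z)).trans (kι_smul 𝓘 h _ _)

variable {N}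

theorem killsAt_kφ {V : X.Opens} {hV : IsAffineOpen V} {x : (Xh 𝓘).X 0} {hx : kPt 𝓘 x ∈ V} {k : ℕ}
    {z : ModSite.stalkAb (pt (kPt 𝓘 x)) N} (hz : KillsP 𝓘 hV hx k z) :
    KillsAt h (show x ∈ kU 𝓘 V from hx) k (kφ h N x z) := by
  refine (killsAt_iff 𝓘 h hV _ k _).2 fun a ha => ?_
  rw [← kθ_gH 𝓘 h x hx, ← kφ_smul]
  exact (congrArg (kφ h N x) (hz a ha)).trans (map_zero _)

theorem torsAt_kφ {x : (Xh 𝓘).X 0} {z : ModSite.stalkAb (pt (kPt 𝓘 x)) N} (hz : TorsP 𝓘 z) :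
    TorsAt h (kφ h N x z) := by
  obtain ⟨V, hV, hx, k, hk⟩ := hz
  exact ⟨kU 𝓘 V, isAffineOpen_kU 𝓘 hV, hx, k, killsAt_kφ h hk⟩

theorem exists_smul_kφ {x : (Xh 𝓘).X 0} {z : ModSite.stalkAb (pt (kPt 𝓘 x)) N} (hz : TorsP 𝓘 z)
    (c : St ((Xh 𝓘).Osh h.1) x) : ∃ z', kφ h N x z' = c • kφ h N x z := by
  obtain ⟨V, hV, hx, k, hk⟩ := hz
  obtain ⟨r, hr⟩ := exists_approx 𝓘 h hV (show x ∈ kU 𝓘 V from hx) k c
  refine ⟨r • z, ?_⟩
  have h1 := smul_eq_zero_of_mem_map h (killsAt_kφ h hk) hr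
  rw [sub_smul, sub_eq_zero] at h1
  rw [kφ_smul, h1]

theorem kφ_surjective (hN : ∀ (y : X) (z : ModSite.stalkAb (pt y) N), TorsP 𝓘 z) (x : (Xh 𝓘).X 0) :
    Function.Surjective (kφ h N x) := by
  intro w
  obtain ⟨W, hW, z', rfl⟩ := RngSp.exists_gm w
  obtain ⟨W', hW', hxW', V, g, n, a, k, he⟩ :=
    RngSp.nearby_of_locally_opens (ModPull.locally_combination (kMor 𝓘 h) N (W := W) z') x hW
  change res ((kMor 𝓘 h).pull.obj N) hW' z' = ∑ l, (show fns ((Xh 𝓘).Osh h.1) W' from a l) •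
    res ((kMor 𝓘 h).pull.obj N) g.le (puC h (FSch.completionToX X 𝓘) (FSch.completionToX_comm X 𝓘) N (k l)) at he
  have hgy : kPt 𝓘 x ∈ V := g.le hxW'
  have hl : ∀ l, ∃ z₁, kφ h N x z₁ = gH ((Xh 𝓘).Osh h.1) hxW' (a l) • kφ h N x (gm N hgy (k l)) := fun l =>
    exists_smul_kφ h (hN _ _) _
  choose z₁ hz₁ using hl
  refine ⟨∑ l, z₁ l, ?_⟩
  rw [← RngSp.gm_res hW' hxW', he, RngSp.gm_sum, map_sum]
  refine Finset.sum_congr rfl fun l _ => ?_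
  rw [hz₁, kφ_gm, RngSp.gm_smul, RngSp.gm_res]
  rfl

variable (N)

/-- The relation defining the action of the completed stalk. -/
def ActRel {x : (Xh 𝓘).X 0} (c : St ((Xh 𝓘).Osh h.1) x) (z w : ModSite.stalkAb (pt (kPt 𝓘 x)) N) : Prop :=
  ∀ (V : X.Opens) (hV : IsAffineOpen V) (hx : kPt 𝓘 x ∈ V) (k : ℕ) (r : St X.sheaf (kPt 𝓘 x)),
    KillsP 𝓘 hV hx k z →
    c - kθ 𝓘 h x r ∈ (J h (kU 𝓘 V) ^ k).map (gH ((Xh 𝓘).Osh h.1) (show x ∈ kU 𝓘 V from hx)) → r • z = w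

variable {N}

theorem smul_eq_zero_of_kθ {V : X.Opens} {hV : IsAffineOpen V} {x : (Xh 𝓘).X 0} {hx : kPt 𝓘 x ∈ V} {k : ℕ}
    {z : ModSite.stalkAb (pt (kPt 𝓘 x)) N} (hz : KillsP 𝓘 hV hx k z) {r : St X.sheaf (kPt 𝓘 x)}
    (hr : kθ 𝓘 h x r ∈ (J h (kU 𝓘 V) ^ k).map (gH ((Xh 𝓘).Osh h.1) (show x ∈ kU 𝓘 V from hx))) :
    r • z = 0 := by
  obtain _ | k := k
  · have h1 := hz 1 (by rw [pow_zero, Ideal.one_eq_top]; exact Submodule.mem_top)
    rw [map_one, one_smul] at h1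
    rw [h1, smul_zero]
  · obtain ⟨V', hV', hx', a, ha, rfl⟩ := exists_pow_of_kθ_mem 𝓘 h hV (show x ∈ kU 𝓘 V from hx) k r hr
    exact (hz.change hV' hx') a ha

theorem map_pow_mono {U U' : ((Xh 𝓘).X 0).Opens} (hU : IsAffineOpen U) (hU' : IsAffineOpen U') (hle : U' ≤ U)
    {x : (Xh 𝓘).X 0} (hx : x ∈ U') {k l : ℕ} (hkl : k ≤ l) :
    (J h U' ^ l).map (gH ((Xh 𝓘).Osh h.1) hx) ≤ (J h U ^ k).map (gH ((Xh 𝓘).Osh h.1) (hle hx)) := by
  refine (Ideal.map_mono (Ideal.pow_le_pow_right hkl)).trans (le_of_eq ?_)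
  rw [← map_rO_J h hU hU' hle, ← Ideal.map_pow, Ideal.map_map]
  exact congrArg (fun f => Ideal.map f (J h U ^ k)) (RingHom.ext fun a => gH_rO h hle hx a)

theorem exists_actRel {x : (Xh 𝓘).X 0} {z : ModSite.stalkAb (pt (kPt 𝓘 x)) N} (hz : TorsP 𝓘 z)
    (c : St ((Xh 𝓘).Osh h.1) x) : ∃ w, ActRel h N c z w := by
  obtain ⟨V₀, hV₀, hx₀, k₀, hk₀⟩ := hz
  obtain ⟨r₀, hr₀⟩ := exists_approx 𝓘 h hV₀ (show x ∈ kU 𝓘 V₀ from hx₀) k₀ c
  refine ⟨r₀ • z, fun V hV hx k r hk hr => ?_⟩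
  obtain ⟨W, hW, hxW, hle⟩ := Opens.isBasis_iff_nbhd.1 X.isBasis_affineOpens
    (show kPt 𝓘 x ∈ V ⊓ V₀ from ⟨hx, hx₀⟩)
  obtain ⟨r', hr'⟩ := exists_approx 𝓘 h hW (show x ∈ kU 𝓘 W from hxW) (max k k₀) c
  have key : ∀ {U : X.Opens} (hU : IsAffineOpen U) (hxU : kPt 𝓘 x ∈ U) (_ : W ≤ U) {l : ℕ}
      (_ : l ≤ max k k₀) {s : St X.sheaf (kPt 𝓘 x)}, KillsP 𝓘 hU hxU l z →
      c - kθ 𝓘 h x s ∈ (J h (kU 𝓘 U) ^ l).map (gH ((Xh 𝓘).Osh h.1) (show x ∈ kU 𝓘 U from hxU)) →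
      s • z = r' • z := by
    intro U hU hxU hWU l hl s hl' hs
    have h1 := map_pow_mono h (isAffineOpen_kU 𝓘 hU) (isAffineOpen_kU 𝓘 hW)
      (show kU 𝓘 W ≤ kU 𝓘 U from fun _ hp => hWU hp) (show x ∈ kU 𝓘 W from hxW) hl hr'
    rw [← sub_eq_zero, ← sub_smul]
    refine smul_eq_zero_of_kθ h hl' ?_
    rw [map_sub]
    convert Ideal.sub_mem _ h1 hs using 1
    ring
  exact (key hV hx (hle.trans inf_le_left) (le_max_left _ _) hk hr).trans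
    (key hV₀ hx₀ (hle.trans inf_le_right) (le_max_right _ _) hk₀ hr₀).symm

section Act

variable (hN : ∀ (y : X) (z : ModSite.stalkAb (pt y) N), TorsP 𝓘 z)

/-- The action of the completed stalk on a power-torsion stalk. -/
def act {x : (Xh 𝓘).X 0} (c : St ((Xh 𝓘).Osh h.1) x) (z : ModSite.stalkAb (pt (kPt 𝓘 x)) N) :
    ModSite.stalkAb (pt (kPt 𝓘 x)) N :=
  (exists_actRel h (hN _ z) c).choose

theorem act_eq {x : (Xh 𝓘).X 0} {c : St ((Xh 𝓘).Osh h.1) x} {z : ModSite.stalkAb (pt (kPt 𝓘 x)) N}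
    {V : X.Opens} (hV : IsAffineOpen V) (hx : kPt 𝓘 x ∈ V) {k : ℕ} {r : St X.sheaf (kPt 𝓘 x)}
    (hz : KillsP 𝓘 hV hx k z)
    (hr : c - kθ 𝓘 h x r ∈ (J h (kU 𝓘 V) ^ k).map (gH ((Xh 𝓘).Osh h.1) (show x ∈ kU 𝓘 V from hx))) :
    act h hN c z = r • z :=
  ((exists_actRel h (hN _ z) c).choose_spec V hV hx k r hz hr).symm

theorem act_kθ {x : (Xh 𝓘).X 0} (r : St X.sheaf (kPt 𝓘 x)) (z : ModSite.stalkAb (pt (kPt 𝓘 x)) N) :
    act h hN (kθ 𝓘 h x r) z = r • z := by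
  obtain ⟨V, hV, hx, k, hk⟩ := hN _ z
  exact act_eq h hN hV hx hk (by rw [sub_self]; exact Submodule.zero_mem _)

theorem killsP_smul {V : X.Opens} {hV : IsAffineOpen V} {y : X} {hy : y ∈ V} {k : ℕ}
    {z : ModSite.stalkAb (pt y) N} (hz : KillsP 𝓘 hV hy k z) (r : St X.sheaf y) :
    KillsP 𝓘 hV hy k (r • z) := fun a ha => by
  rw [smul_comm, hz a ha, smul_zero]

theorem killsP_add {V : X.Opens} {hV : IsAffineOpen V} {y : X} {hy : y ∈ V} {k : ℕ}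
    {z z' : ModSite.stalkAb (pt y) N} (hz : KillsP 𝓘 hV hy k z) (hz' : KillsP 𝓘 hV hy k z') :
    KillsP 𝓘 hV hy k (z + z') := fun a ha => by
  rw [smul_add, hz a ha, hz' a ha, add_zero]

/-- The module over the completed stalk. -/
abbrev actModule (x : (Xh 𝓘).X 0) :
    Module (St ((Xh 𝓘).Osh h.1) x) (ModSite.stalkAb (pt (kPt 𝓘 x)) N) where
  smul c z := act h hN c z
  one_smul z := by
    change act h hN 1 z = z
    rw [← map_one (kθ 𝓘 h x), act_kθ, one_smul]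
  zero_smul z := by
    change act h hN 0 z = 0
    rw [← map_zero (kθ 𝓘 h x), act_kθ, zero_smul]
  smul_zero c := by
    change act h hN c 0 = 0
    obtain ⟨V, hV, hx, k, hk⟩ := hN _ (0 : ModSite.stalkAb (pt (kPt 𝓘 x)) N)
    obtain ⟨r, hr⟩ := exists_approx 𝓘 h hV (show x ∈ kU 𝓘 V from hx) k c
    rw [act_eq h hN hV hx hk hr, smul_zero]
  smul_add c z z' := by
    change act h hN c (z + z') = act h hN c z + act h hN c z'
    obtain ⟨V, hV, hx, k, hk⟩ := hN _ z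
    obtain ⟨k', hk'⟩ := (hN _ z').exists_kills hV hx
    have h1 := hk.mono (le_max_left k k')
    have h2 := hk'.mono (le_max_right k k')
    obtain ⟨r, hr⟩ := exists_approx 𝓘 h hV (show x ∈ kU 𝓘 V from hx) (max k k') c
    rw [act_eq h hN hV hx (killsP_add h1 h2) hr, act_eq h hN hV hx h1 hr, act_eq h hN hV hx h2 hr,
      smul_add]
  add_smul c d z := by
    change act h hN (c + d) z = act h hN c z + act h hN d z
    obtain ⟨V, hV, hx, k, hk⟩ := hN _ z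
    obtain ⟨r, hr⟩ := exists_approx 𝓘 h hV (show x ∈ kU 𝓘 V from hx) k c
    obtain ⟨s, hs⟩ := exists_approx 𝓘 h hV (show x ∈ kU 𝓘 V from hx) k d
    rw [act_eq h hN hV hx hk hr, act_eq h hN hV hx hk hs, ← add_smul]
    refine act_eq h hN hV hx hk ?_
    rw [map_add]
    convert Ideal.add_mem _ hr hs using 1
    ring
  mul_smul c d z := by
    change act h hN (c * d) z = act h hN c (act h hN d z)
    obtain ⟨V, hV, hx, k, hk⟩ := hN _ z
    obtain ⟨r, hr⟩ := exists_approx 𝓘 h hV (show x ∈ kU 𝓘 V from hx) k c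
    obtain ⟨s, hs⟩ := exists_approx 𝓘 h hV (show x ∈ kU 𝓘 V from hx) k d
    rw [act_eq h hN hV hx hk hs, act_eq h hN hV hx (killsP_smul hk s) hr, ← mul_smul]
    refine act_eq h hN hV hx hk ?_
    rw [map_mul]
    convert Ideal.add_mem _ (Ideal.mul_mem_left _ c hs) (Ideal.mul_mem_left _ (kθ 𝓘 h x s) hr) using 1
    ring

theorem kφ_injective (x : (Xh 𝓘).X 0) (hN : ∀ (y : X) (z : ModSite.stalkAb (pt y) N), TorsP 𝓘 z) :
    Function.Injective (kφ h N x) := by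
  letI := actModule h hN x
  refine (injective_iff_map_eq_zero _).2 fun z hz => ?_
  obtain ⟨φ, hφ⟩ := exists_toSky (FSch.completionToX X 𝓘 0).base
    (FSch.schSharp (Xh 𝓘) h.1 (FSch.completionToX X 𝓘) (FSch.completionToX_comm X 𝓘)) (M := N) (y := x)
    (AddMonoidHom.id (ModSite.stalkAb (pt (kPt 𝓘 x)) N)) fun r w => (act_kθ h hN r w).symm
  let ψ := ((kMor 𝓘 h).adj.homEquiv _ _).symm φ
  obtain ⟨V, hV, s, rfl⟩ := RngSp.exists_gm z
  rw [kφ_gm, ← RngSp.gm_zero (M := (kMor 𝓘 h).pull.obj N) (show x ∈ kU 𝓘 V from hV)] at hz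
  obtain ⟨W, hW, hxW, he⟩ := (RngSp.gm_eq_iff _ _ _).1 hz
  have h4 := congrArg (fun q => skyVal ((Xh 𝓘).Osh h.1) x (ModSite.stalkAb (pt (kPt 𝓘 x)) N) hxW (mp ψ W q)) he
  simp only [RngSp.mp_res, map_zero, res_zero] at h4
  have h1 := ModPull.adj_homEquiv_app (kMor 𝓘 h) ψ (U := op V) s
  rw [Equiv.apply_symm_apply] at h1
  exact ((hφ V hV s).symm.trans (congrArg (skyVal _ x _ (show x ∈ kU 𝓘 V from hV)) h1)).trans h4

end Act

theorem kφ_bijective (hN : ∀ (y : X) (z : ModSite.stalkAb (pt y) N), TorsP 𝓘 z) (x : (Xh 𝓘).X 0) :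
    Function.Bijective (kφ h N x) :=
  ⟨kφ_injective h x hN, kφ_surjective h hN x⟩

theorem isTorsF_pull [IsLocallyNoetherian X] (hN : ∀ (y : X) (z : ModSite.stalkAb (pt y) N), TorsP 𝓘 z) :
    FTors.IsTorsF (Xh 𝓘) h.1 ((kMor 𝓘 h).pull.obj N) :=
  isTorsF_of_torsAt h fun x w => by
    obtain ⟨z, rfl⟩ := kφ_surjective h hN x w
    exact torsAt_kφ h (hN _ z)

theorem isIso_unit (hN : ∀ (y : X) (z : ModSite.stalkAb (pt y) N), TorsP 𝓘 z) :
    IsIso ((kMor 𝓘 h).adj.unit.app N) := by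
  refine isIso_of_bijective_fx _ fun y => ?_
  by_cases hy : y ∈ Set.range (FSch.completionToX X 𝓘 0)
  · obtain ⟨x, rfl⟩ := hy
    exact ((kι_bijective 𝓘 h _ x).of_comp_iff' _).1 (kφ_bijective h hN x)
  · exact ⟨fun a b _ => (eq_zero_of_not_mem_range (hN y a) hy).trans (eq_zero_of_not_mem_range (hN y b) hy).symm,
      fun w => ⟨0, (map_zero _).trans (eq_zero_push_of_not_mem_range 𝓘 h _ hy w).symm⟩⟩

theorem torsP_push {M : FSch.ModF (Xh 𝓘) h.1} (hM : FTors.IsTorsF (Xh 𝓘) h.1 M) (y : X)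
    (w : ModSite.stalkAb (pt y) ((kMor 𝓘 h).push.obj M)) : TorsP 𝓘 w := by
  obtain ⟨V, hV, hyV, -⟩ := Opens.isBasis_iff_nbhd.1 X.isBasis_affineOpens (show y ∈ (⊤ : X.Opens) from trivial)
  by_cases hy : y ∈ Set.range (FSch.completionToX X 𝓘 0)
  · obtain ⟨x, rfl⟩ := hy
    obtain ⟨k, hk⟩ := (torsAt_of_isTorsF h hM (kι 𝓘 h M x w)).exists_kills (isAffineOpen_kU 𝓘 hV)
      (show x ∈ kU 𝓘 V from hyV)
    refine ⟨V, hV, hyV, k, fun a ha => (kι_bijective 𝓘 h M x).1 ?_⟩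
    rw [kι_smul, kθ_gH, (killsAt_iff 𝓘 h hV _ k _).1 hk a ha]
    exact (map_zero (AddMonoidHom.mk' (kι 𝓘 h M x) (kι_add 𝓘 h))).symm
  · exact ⟨V, hV, hyV, 0, fun a _ => by rw [eq_zero_push_of_not_mem_range 𝓘 h M hy w, smul_zero]⟩

theorem fx_counit_kφ (M : FSch.ModF (Xh 𝓘) h.1) (x : (Xh 𝓘).X 0)
    (w : ModSite.stalkAb (pt (kPt 𝓘 x)) ((kMor 𝓘 h).push.obj M)) :
    fx ((kMor 𝓘 h).adj.counit.app M) x (kφ h ((kMor 𝓘 h).push.obj M) x w) = kι 𝓘 h M x w := by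
  obtain ⟨V, hV, s, rfl⟩ := RngSp.exists_gm w
  rw [kφ_gm, kι_gm]
  exact (fx_gm _ _ _).trans (congrArg _ (adj_unit_counit_app (FSch.completionToX X 𝓘 0).base
    (FSch.schSharp (Xh 𝓘) h.1 (FSch.completionToX X 𝓘) (FSch.completionToX_comm X 𝓘)) M V s))

theorem isIso_counit {M : FSch.ModF (Xh 𝓘) h.1} (hM : FTors.IsTorsF (Xh 𝓘) h.1 M) :
    IsIso ((kMor 𝓘 h).adj.counit.app M) :=
  isIso_of_bijective_fx _ fun x =>
    (Function.Bijective.of_comp_iff _ (kφ_bijective h (torsP_push h hM) x)).1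
      (by rw [show fx ((kMor 𝓘 h).adj.counit.app M) x ∘ kφ h _ x = kι 𝓘 h M x from
        funext (fx_counit_kφ h M x)]; exact kι_bijective 𝓘 h M x)

end Groth.Agent.FTorsL
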