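import Groth.Agent.FTorsL.Gamma
import Mathlib.CategoryTheory.Sites.Subsheaf

/-!
# Submodules cut out by submodules of the stalks; coherent submodules of torsion modules
-/

set_option autoImplicit false
set_option backward.isDefEq.respectTransparency false
set_option backward.isDefEq.respectTransparency.types false
set_option linter.style.haveILetI false

universe u

open CategoryTheory CategoryTheory.Limits AlgebraicGeometry TopologicalSpace Opposite
open Groth.Agent.H9FCoh Groth.Agent.ClosedRinged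
open Groth.Agent.RngSp (pt gm mp fns)

noncomputable section

namespace Groth.Agent.FTorsL

section General

variable {X : TopCat.{u}} {O : TopCat.Sheaf CommRingCat.{u} X} {M : ModSite.Mod O}
  (S : ∀ x : X, Submodule (St O x) (ModSite.stalkAb (pt x) M))

/-- Sections with germs in prescribed submodules. -/
def inS (U : Opens X) : Submodule (fns O U) (M.val.obj (op U)) where
  carrier := {s | ∀ x (hx : x ∈ U), gm M hx s ∈ S x}
  zero_mem' x hx := by rw [RngSp.gm_zero]; exact zero_mem _
  add_mem' {a b} ha hb x hx := by rw [RngSp.gm_add]; exact add_mem (ha x hx) (hb x hx)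
  smul_mem' c s hs x hx := by rw [RngSp.gm_smul]; exact (S x).smul_mem _ (hs x hx)

theorem res_mem_inS {U V : Opens X} (h : V ≤ U) {s : M.val.obj (op U)} (hs : s ∈ inS S U) :
    FTors.res (C := Opens X) (J := Opens.grothendieckTopology X) M (homOfLE h) s ∈ inS S V := fun x hx => by
  rw [show gm M hx (FTors.res (C := Opens X) (J := Opens.grothendieckTopology X) M (homOfLE h) s) =
    gm M (h hx) s from RngSp.gm_res (M := M) h hx s]
  exact hs x (h hx)

/-- The underlying presheaf of the submodule. -/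
def subPre : (Opens X)ᵒᵖ ⥤ Ab.{u} where
  obj U := AddCommGrpCat.of (inS S (unop U))
  map {U V} f := AddCommGrpCat.ofHom
    { toFun := fun s => ⟨FTors.res (C := Opens X) (J := Opens.grothendieckTopology X) M (homOfLE f.unop.le) s.1,
        res_mem_inS S _ s.2⟩
      map_zero' := Subtype.ext (FTors.res_zero (C := Opens X) M _)
      map_add' := fun s t => Subtype.ext (FTors.res_add (C := Opens X) M _ s.1 t.1) }
  map_id U := by
    ext s
    exact FTors.res_id (C := Opens X) M s.1
  map_comp {U V W} f g := by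
    ext s
    exact FTors.res_comp (C := Opens X) M f.unop g.unop s.1

instance subPre.instModule (U : (Opens X)ᵒᵖ) : Module ((ModSite.ringSh O).obj.obj U) ((subPre S).obj U) :=
  inferInstanceAs (Module (fns O (unop U)) (inS S (unop U)))

theorem subPre_map_smul ⦃U V : (Opens X)ᵒᵖ⦄ (f : U ⟶ V) (r : (ModSite.ringSh O).obj.obj U) (m : (subPre S).obj U) :
    (subPre S).map f (r • m) = (ModSite.ringSh O).obj.map f r • (subPre S).map f m :=
  Subtype.ext (FTors.res_smul (C := Opens X) M f.unop r m.1)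

/-- The underlying subfunctor of types. -/
def subFunctor : Subfunctor (M.val.presheaf ⋙ forget Ab.{u}) where
  obj U := {s | s ∈ inS S (unop U)}
  map f _ hs := res_mem_inS S f.unop.le hs

theorem isSheaf_subPre : Presheaf.IsSheaf (Opens.grothendieckTopology X) (subPre.{u} S) := by
  have hM : Presieve.IsSheaf (Opens.grothendieckTopology X) (M.val.presheaf ⋙ forget Ab.{u}) :=
    (isSheaf_iff_isSheaf_of_type _ _).1 ((Presheaf.isSheaf_iff_isSheaf_forget _ M.val.presheaf (forget Ab.{u})).1 M.isSheaf)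
  rw [Presheaf.isSheaf_iff_isSheaf_forget _ (subPre.{u} S) (forget Ab.{u}), isSheaf_iff_isSheaf_of_type]
  let e : subPre.{u} S ⋙ forget Ab.{u} ≅ (subFunctor.{u} S).toFunctor :=
    NatIso.ofComponents (fun U => Equiv.toIso
      { toFun := fun s => ⟨s.1, s.2⟩
        invFun := fun s => ⟨s.1, s.2⟩
        left_inv := fun _ => rfl
        right_inv := fun _ => rfl }) (fun _ => rfl)
  refine Presieve.isSheaf_iso _ e.symm (((subFunctor S).isSheaf_iff hM).2 ?_)
  intro U s hs x hx
  obtain ⟨V, g, hg, hxV⟩ := hs x hx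
  have h1 : gm M hxV (FTors.res (C := Opens X) (J := Opens.grothendieckTopology X) M g s) = gm M hx s :=
    RngSp.gm_res (M := M) g.le hxV s
  rw [← h1]
  exact hg x hxV

/-- The submodule sheaf. -/
def sub : ModSite.Mod O where
  val := PresheafOfModules.ofPresheaf (subPre S) (subPre_map_smul S)
  isSheaf := isSheaf_subPre S

/-- The inclusion. -/
def subι : sub S ⟶ M :=
  ⟨PresheafOfModules.homMk
    { app := fun U => AddCommGrpCat.ofHom
        { toFun := fun s => s.1
          map_zero' := rfl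
          map_add' := fun _ _ => rfl }
      naturality := fun _ _ g => by ext s; rfl }
    (fun _ r s => rfl)⟩

instance mono_subι : Mono (subι S) := by
  haveI : Mono ((SheafOfModules.forget _).map (subι S)) :=
    PresheafOfModules.mono_of_injective fun {U} s t e => Subtype.ext e
  exact (SheafOfModules.forget _).mono_of_mono_map ‹_›

theorem fx_subι_mem {x : X} (z : ModSite.stalkAb (pt x) (sub S)) : fx (subι S) x z ∈ S x := by
  obtain ⟨V, hV, s, rfl⟩ := RngSp.exists_gm z
  rw [fx_gm]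
  exact s.2 x hV

end General

variable {𝔛 : FSch.Sys.{u}} (h : 𝔛.IsLocNoethFormal) {M : FSch.ModF 𝔛 h.1}

/-- On the open, the submodules of the stalks are generated by finitely many sections. -/
def GenS (W : (𝔛.X 0).Opens) (S : ∀ x : 𝔛.X 0, Submodule (St (𝔛.Osh h.1) x) (ModSite.stalkAb (pt x) M)) : Prop :=
  ∃ (ι : Type u) (_ : Finite ι) (t : ι → M.val.obj (op W)),
    ∀ y (hy : y ∈ W), S y = Submodule.span _ (Set.range fun i => gm M hy (t i))

theorem GenS.mono {W W' : (𝔛.X 0).Opens} {S : ∀ x : 𝔛.X 0, Submodule (St (𝔛.Osh h.1) x) (ModSite.stalkAb (pt x) M)}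
    (hS : GenS h W S) (hle : W' ≤ W) : GenS h W' S := by
  obtain ⟨ι, hι, t, ht⟩ := hS
  refine ⟨ι, hι, fun i => res M hle (t i), fun y hy => ?_⟩
  rw [ht y (hle hy)]
  simp only [RngSp.gm_res]

theorem span_eq_range_gcmb {W : (𝔛.X 0).Opens} {y : 𝔛.X 0} (hy : y ∈ W) {ι : Type u} (t : ι → M.val.obj (op W)) :
    Submodule.span (St (𝔛.Osh h.1) y) (Set.range fun i => gm M hy (t i)) =
      LinearMap.range (gcmb fun i => gm M hy (t i)) :=
  (Finsupp.range_linearCombination _).symm

variable (hl : lqP h M)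

include hl in
/-- A model of the submodule. -/
theorem exists_model_sub (S : ∀ x : 𝔛.X 0, Submodule (St (𝔛.Osh h.1) x) (ModSite.stalkAb (pt x) M))
    {W : (𝔛.X 0).Opens} (hW : IsAffineOpen W) (hS : GenS h W S) :
    ∃ (ι : Type u) (_ : Finite ι) (s : ι → (sub S).val.obj (op W)) (N : Submodule (Ox h W) (ι →₀ Ox h W)),
      IsModel (sub S) W s N := by
  obtain ⟨ι, hι, t, ht⟩ := hS
  obtain ⟨κ, t', N', hm⟩ := hl W hW
  choose col hcol using fun i => hm.exists_cmb (good h) hW (t i)
  let s : ι → (sub S).val.obj (op W) := fun i => ⟨t i, fun y hy => ht y hy ▸ Submodule.subset_span ⟨i, rfl⟩⟩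
  have hs : ∀ i, mp (subι S) W (s i) = cmb t' (col i) := fun i => (hcol i).symm
  refine ⟨ι, hι, s, N'.comap (Finsupp.linearCombination (Ox h W) col), fun x hx z => ?_, fun x hx u => ?_⟩
  · have h1 := fx_subι_mem S z
    rw [ht x hx, span_eq_range_gcmb h] at h1
    obtain ⟨w, hw⟩ := h1
    refine ⟨w, fx_injective (subι S) x ?_⟩
    rw [← hw]
    exact fx_gcmb (subι S) s hx w
  · rw [← (fx_injective (subι S) x).eq_iff, map_zero, fx_model (subι S) hs hx, hm.rel x hx]
    exact ⟨mem_pN_comap_col _ ((good h).flat W hW x hx) col, colMap_mem_pN _ col fun v hv => hv⟩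

include hl in
theorem isFP_sub (S : ∀ x : 𝔛.X 0, Submodule (St (𝔛.Osh h.1) x) (ModSite.stalkAb (pt x) M))
    (hS : ∀ x, ∃ W : (𝔛.X 0).Opens, IsAffineOpen W ∧ x ∈ W ∧ GenS h W S) : IsFP (sub S) := by
  refine isFP_of_isQC_of_isFT (good h) (isQuasicoherent_of_models (M := sub S) fun x => ?_)
    (RngSp.isFiniteType_iff.2 fun x => ?_)
  · obtain ⟨W, hW, hxW, hg⟩ := hS x
    obtain ⟨ι, hι, s, N, hm⟩ := exists_model_sub h hl S hW hg
    exact ⟨W, ι, s, N, hxW, hm⟩
  · obtain ⟨W, hW, hxW, hg⟩ := hS x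
    obtain ⟨ι, hι, s, N, hm⟩ := exists_model_sub h hl S hW hg
    exact ⟨W, ι, hι, s, hxW, hm.genOn⟩

variable (hT : FTors.IsTorsF 𝔛 h.1 M)

include hl hT in
/-- A section lying in the submodule where `g` is a unit lies in it after multiplication by a power of `g`. -/
theorem exists_pow_mem_S {V : (𝔛.X 0).Opens} (hV : IsAffineOpen V)
    (S : ∀ x : 𝔛.X 0, Submodule (St (𝔛.Osh h.1) x) (ModSite.stalkAb (pt x) M)) (hS : GenS h V S)
    (g : Ox h V) (z : M.val.obj (op V))
    (hz : ∀ y (hy : y ∈ V), IsUnit (gH (𝔛.Osh h.1) hy g) → gm M hy z ∈ S y) :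
    ∃ m, ∀ y (hy : y ∈ V), gH (𝔛.Osh h.1) hy g ^ m • gm M hy z ∈ S y := by
  obtain ⟨ι, hι, t, ht⟩ := hS
  obtain ⟨κ, t', N, hm⟩ := hl V hV
  choose col hcol using fun i => hm.exists_cmb (good h) hV (t i)
  obtain ⟨v, rfl⟩ := hm.exists_cmb (good h) hV z
  let N' := N ⊔ LinearMap.range (Finsupp.linearCombination (Ox h V) col)
  obtain ⟨k, hk⟩ := exists_uniform h hT hV le_rfl (cmb t' v)
  have hJ : J h V ^ k ≤ colon N' v := fun a ha => by
    rw [mem_colon]
    refine Submodule.mem_sup_left ((good h).mem_of_stalks hV fun x hx => (hm.rel x hx _).1 ?_)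
    rw [pv_smul, map_smul, ← gm_cmb]
    exact hk x hx a ha
  have hcm : ∀ y (hy : y ∈ V) (c : ι →₀ St (𝔛.Osh h.1) y), gcmb (fun i => gm M hy (t i)) c =
      gcmb (fun j => gm M hy (t' j)) (colMap (gH (𝔛.Osh h.1) hy) col c) := fun y hy c => by
    rw [← gcmb_cmb]
    simp only [hcol]
  obtain ⟨m, hm'⟩ := exists_pow_mem h hV hJ g fun y hy hu => by
    refine map_colon_eq_top _ ((good h).flat V hV y hy) ?_
    have h1 := hz y hy hu
    rw [ht y hy, span_eq_range_gcmb h] at h1
    obtain ⟨c, hc⟩ := h1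
    rw [hcm, gm_cmb, eq_comm, ← sub_eq_zero, ← map_sub] at hc
    have h2 := (hm.rel y hy _).1 hc
    have h3 : pv (gH (𝔛.Osh h.1) hy) v = (pv (gH (𝔛.Osh h.1) hy) v - colMap (gH (𝔛.Osh h.1) hy) col c) +
        colMap (gH (𝔛.Osh h.1) hy) col c := (sub_add_cancel _ _).symm
    rw [h3]
    refine add_mem (Submodule.span_mono (Set.image_mono fun q hq => Submodule.mem_sup_left hq) h2) ?_
    rw [colMap, Finsupp.linearCombination_apply]
    refine Submodule.sum_mem _ fun i _ => Submodule.smul_mem _ _ (pv_mem_pN _ (Submodule.mem_sup_right ?_))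
    exact ⟨Finsupp.single i 1, by rw [Finsupp.linearCombination_single, one_smul]⟩
  refine ⟨m, fun y hy => ?_⟩
  rw [← map_pow, gm_cmb, ← map_smul, ← pv_smul]
  obtain ⟨n, hn, r, ⟨c, rfl⟩, e⟩ := Submodule.mem_sup.1 (show g ^ m • v ∈ N' from hm')
  rw [← e, pv_add, map_add, (hm.rel y hy _).2 (pv_mem_pN _ hn), zero_add, ← colMap_pv, ← hcm, ht y hy,
    span_eq_range_gcmb h]
  exact ⟨_, rfl⟩

end Groth.Agent.FTorsL
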