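import Groth.Agent.FTorsL.KRgamma
import Groth.Agent.FTorsL.Sub

/-!
# Subcomplexes cut out at the stalks, multiplication by a local function
-/

set_option autoImplicit false
set_option backward.isDefEq.respectTransparency false
set_option backward.isDefEq.respectTransparency.types false
set_option linter.style.haveILetI false

universe u

open CategoryTheory CategoryTheory.Limits TopologicalSpace Opposite
open Groth.Agent.H9FCoh Groth.Agent.ClosedRinged
open Groth.Agent.RngSp (pt gm mp fns)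

noncomputable section

namespace Groth.Agent.FTorsL

variable {X : TopCat.{u}} {O : TopCat.Sheaf CommRingCat.{u} X} {M M' : ModSite.Mod O}

theorem fx_smul_stalk (f : M ⟶ M') (x : X) (c : St O x) (z : ModSite.stalkAb (pt x) M) :
    fx f x (c • z) = c • fx f x z := by
  obtain ⟨U, hx, a, rfl⟩ := exists_gH c
  exact fx_smul f hx a z

theorem hom_ext_fx {f g : M ⟶ M'} (h : ∀ x z, fx f x z = fx g x z) : f = g := by
  refine SheafOfModules.hom_ext (PresheafOfModules.Hom.ext (funext fun U => ModuleCat.hom_ext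
    (LinearMap.ext fun s => eq_of_gm (M := M') fun x hx => ?_)))
  exact (fx_gm f hx s).symm.trans ((h x _).trans (fx_gm g hx s))

section Sub

variable (S : ∀ x : X, Submodule (St O x) (ModSite.stalkAb (pt x) M))
  (S' : ∀ x : X, Submodule (St O x) (ModSite.stalkAb (pt x) M'))

/-- The map of submodules cut out at the stalks. -/
def subLift (f : M ⟶ M') (hf : ∀ x, ∀ z ∈ S x, fx f x z ∈ S' x) : sub S ⟶ sub S' :=
  ⟨PresheafOfModules.homMk
    { app := fun U => AddCommGrpCat.ofHom (AddMonoidHom.mk'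
        (fun s : inS S U.unop => (⟨mp f U.unop s.1, fun x hx => by
          rw [← fx_gm]
          exact hf x _ (s.2 x hx)⟩ : inS S' U.unop))
        fun s t => Subtype.ext (map_add (mp f U.unop) s.1 t.1))
      naturality := fun U V i => AddCommGrpCat.ext fun s => Subtype.ext (RngSp.mp_res f i.unop.le s.1) }
    fun U r s => Subtype.ext (map_smul (f.val.app U).hom r s.1)⟩

theorem subLift_subι (f : M ⟶ M') (hf : ∀ x, ∀ z ∈ S x, fx f x z ∈ S' x) :
    subLift S S' f hf ≫ subι S' = subι S ≫ f :=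
  SheafOfModules.hom_ext (PresheafOfModules.Hom.ext (funext fun U => ModuleCat.hom_ext
    (LinearMap.ext fun _ => rfl)))

/-- Germs in the submodules are locally sections with germs in the submodules. -/
def OpenS : Prop :=
  ∀ (x : X) (z : ModSite.stalkAb (pt x) M), z ∈ S x → ∃ (V : Opens X) (hV : x ∈ V) (s : M.val.obj (op V)),
    gm M hV s = z ∧ ∀ y (hy : y ∈ V), gm M hy s ∈ S y

theorem exists_fx_subι (hS : OpenS S) {x : X} {z : ModSite.stalkAb (pt x) M} (hz : z ∈ S x) :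
    ∃ u, fx (subι S) x u = z := by
  obtain ⟨V, hV, s, rfl, hs⟩ := hS x z hz
  exact ⟨gm (sub S) hV ⟨s, hs⟩, fx_gm (subι S) hV _⟩

theorem fx_bijective_of_subι_top {x : X} (hS : OpenS S) (hx : S x = ⊤) : Function.Bijective (fx (subι S) x) :=
  ⟨fx_injective (subι S) x, fun z => exists_fx_subι S hS (hx ▸ Submodule.mem_top)⟩

end Sub

section Mul

variable {W : Opens X} (g : fns O W) (hM : ∀ x, x ∉ W → ∀ z : ModSite.stalkAb (pt x) M, z = 0)

include hM in
theorem exists_mul_section {U : Opens X} (s : M.val.obj (op U)) :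
    ∃ m : M.val.obj (op U), (∀ x (hx : x ∈ U) (hxW : x ∈ W), gm M hx m = gH O hxW g • gm M hx s) ∧
      ∀ x (hx : x ∈ U), x ∉ W → gm M hx m = 0 := by
  classical
  have hloc : ∀ x : U, ∃ (V : Opens X) (hV : V ≤ U) (t : M.val.obj (op V)), x.1 ∈ V ∧
      (∀ y (hy : y ∈ V) (hyW : y ∈ W), gm M hy t = gH O hyW g • gm M (hV hy) s) := fun x => by
    by_cases hxW : x.1 ∈ W
    · refine ⟨U ⊓ W, inf_le_left, (show fns O (U ⊓ W) from rr O inf_le_right g) • res M inf_le_left s,
        ⟨x.2, hxW⟩, fun y hy hyW => ?_⟩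
      rw [RngSp.gm_smul, RngSp.gm_res]
      exact congrArg (· • gm M _ s) (gH_rr _ hy g)
    · obtain ⟨V, hV, hxV, he⟩ := (RngSp.gm_eq_iff x.2 s 0).1 ((hM x.1 hxW _).trans (RngSp.gm_zero x.2).symm)
      refine ⟨V, hV, 0, hxV, fun y hy hyW => ?_⟩
      rw [← RngSp.gm_res hV hy s, he.trans (map_zero _), RngSp.gm_zero, smul_zero]
  choose V hV t hxV ht using hloc
  obtain ⟨m, hm⟩ := ClosedRinged.exists_glue M V hV (fun y hy => ⟨⟨y, hy⟩, hxV ⟨y, hy⟩⟩) t fun i j =>
    eq_of_gm fun y hy => by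
      rw [RngSp.gm_res, RngSp.gm_res]
      by_cases hyW : y ∈ W
      · rw [ht i y hy.1 hyW, ht j y hy.2 hyW]
      · exact (hM y hyW _).trans (hM y hyW _).symm
  refine ⟨m, fun x hx hxW => ?_, fun x hx hxW => hM x hxW _⟩
  rw [← RngSp.gm_res (hV ⟨x, hx⟩) (hxV ⟨x, hx⟩) m, hm, ht ⟨x, hx⟩ x (hxV ⟨x, hx⟩) hxW]

/-- A section multiplied by a local function. -/
def mulSec {U : Opens X} (s : M.val.obj (op U)) : M.val.obj (op U) := (exists_mul_section g hM s).choose

theorem gm_mulSec {U : Opens X} (s : M.val.obj (op U)) {x : X} (hx : x ∈ U) (hxW : x ∈ W) :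
    gm M hx (mulSec g hM s) = gH O hxW g • gm M hx s := (exists_mul_section g hM s).choose_spec.1 x hx hxW

include hM in
theorem eq_of_gm_on {U : Opens X} {z z' : M.val.obj (op U)}
    (h : ∀ x (hx : x ∈ U), x ∈ W → gm M hx z = gm M hx z') : z = z' :=
  eq_of_gm fun x hx => by
    by_cases hxW : x ∈ W
    · exact h x hx hxW
    · exact (hM x hxW _).trans (hM x hxW _).symm

/-- Multiplication by a local function on a module without germs outside. -/
def mulEnd : M ⟶ M :=
  ⟨PresheafOfModules.homMk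
    { app := fun U => AddCommGrpCat.ofHom (AddMonoidHom.mk' (fun s : M.val.obj U => mulSec g hM (U := U.unop) s)
        fun s t => eq_of_gm_on hM fun x hx hxW => by
          rw [RngSp.gm_add, gm_mulSec g hM _ hx hxW, gm_mulSec g hM _ hx hxW, gm_mulSec g hM _ hx hxW,
            RngSp.gm_add, smul_add])
      naturality := fun U V i => AddCommGrpCat.ext fun s => eq_of_gm_on hM fun x hx hxW => by
        change gm M hx (mulSec g hM (res M i.unop.le s)) = gm M hx (res M i.unop.le (mulSec g hM s))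
        rw [gm_mulSec g hM _ hx hxW, RngSp.gm_res, RngSp.gm_res, gm_mulSec g hM _ _ hxW] }
    fun U r s => eq_of_gm_on hM fun x hx hxW => by
      change gm M hx (mulSec g hM ((show fns O U.unop from r) • s)) =
        gm M hx ((show fns O U.unop from r) • mulSec g hM s)
      rw [gm_mulSec g hM _ hx hxW, RngSp.gm_smul, RngSp.gm_smul, gm_mulSec g hM _ hx hxW]
      exact smul_comm _ _ _⟩

theorem fx_mulEnd {x : X} (hxW : x ∈ W) (z : ModSite.stalkAb (pt x) M) :
    fx (mulEnd g hM) x z = gH O hxW g • z := by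
  obtain ⟨U, hx, s, rfl⟩ := RngSp.exists_gm z
  rw [fx_gm]
  exact gm_mulSec g hM s hx hxW

theorem comp_mulEnd (hM' : ∀ x, x ∉ W → ∀ z : ModSite.stalkAb (pt x) M', z = 0) (f : M ⟶ M') :
    f ≫ mulEnd g hM' = mulEnd g hM ≫ f := hom_ext_fx fun x z => by
  by_cases hxW : x ∈ W
  · rw [← fx_comp, ← fx_comp, fx_mulEnd g hM' hxW, fx_mulEnd g hM hxW, fx_smul_stalk]
  · exact (hM' x hxW _).trans (hM' x hxW _).symm

end Mul

section Cx

variable (I : CochainComplex (ModSite.Mod O) ℤ) {x : X}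

/-- A cycle at a stalk representing a cohomology germ. -/
def Rep {j : ℤ} (z : ModSite.stalkAb (pt x) (I.X j)) (u : ModSite.stalkAb (pt x) (I.homology j)) : Prop :=
  ∃ c, fx (I.iCycles j) x c = z ∧ fx (I.homologyπ j) x c = u

theorem exists_rep_of_homology {j : ℤ} (u : ModSite.stalkAb (pt x) (I.homology j)) : ∃ z, Rep I z u := by
  obtain ⟨c, hc⟩ := fx_surjective_of_epi (I.homologyπ j) x u
  exact ⟨_, c, rfl, hc⟩

theorem exists_rep_of_cycle {j l : ℤ} (hjl : j + 1 = l) (z : ModSite.stalkAb (pt x) (I.X j))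
    (hz : fx (I.d j l) x z = 0) : ∃ u, Rep I z u := by
  obtain ⟨b, rfl⟩ := exists_fx_kernel (I.d j l) x z hz
  refine ⟨_, fx (I.liftCycles (kernel.ι (I.d j l)) l (by simp [← hjl]) (kernel.condition _)) x b, ?_, rfl⟩
  rw [fx_comp, HomologicalComplex.liftCycles_i]

theorem Rep.cycle {j : ℤ} {z : ModSite.stalkAb (pt x) (I.X j)} {u : ModSite.stalkAb (pt x) (I.homology j)}
    (h : Rep I z u) (l : ℤ) : fx (I.d j l) x z = 0 := by
  obtain ⟨c, rfl, -⟩ := h
  rw [fx_comp, HomologicalComplex.iCycles_d, fx_zero]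

theorem Rep.unique {j : ℤ} {z : ModSite.stalkAb (pt x) (I.X j)} {u u' : ModSite.stalkAb (pt x) (I.homology j)}
    (h : Rep I z u) (h' : Rep I z u') : u = u' := by
  obtain ⟨c, hc, rfl⟩ := h
  obtain ⟨c', hc', rfl⟩ := h'
  rw [fx_injective (I.iCycles j) x (hc.trans hc'.symm)]

theorem Rep.smul {j : ℤ} {z : ModSite.stalkAb (pt x) (I.X j)} {u : ModSite.stalkAb (pt x) (I.homology j)}
    (h : Rep I z u) (a : St O x) : Rep I (a • z) (a • u) := by
  obtain ⟨c, rfl, rfl⟩ := h
  exact ⟨a • c, fx_smul_stalk _ x a c, fx_smul_stalk _ x a c⟩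

theorem Rep.map {J : CochainComplex (ModSite.Mod O) ℤ} (φ : I ⟶ J) {j : ℤ} {z : ModSite.stalkAb (pt x) (I.X j)}
    {u : ModSite.stalkAb (pt x) (I.homology j)} (h : Rep I z u) :
    Rep J (fx (φ.f j) x z) (fx (HomologicalComplex.homologyMap φ j) x u) := by
  obtain ⟨c, rfl, rfl⟩ := h
  refine ⟨fx (HomologicalComplex.cyclesMap φ j) x c, ?_, ?_⟩
  · rw [fx_comp, fx_comp, HomologicalComplex.cyclesMap_i]
  · rw [fx_comp, fx_comp, HomologicalComplex.homologyπ_naturality]

theorem Rep.eq_zero_iff {i j : ℤ} (hij : i + 1 = j) {z : ModSite.stalkAb (pt x) (I.X j)}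
    {u : ModSite.stalkAb (pt x) (I.homology j)} (h : Rep I z u) :
    u = 0 ↔ ∃ v, fx (I.d i j) x v = z := by
  obtain ⟨c, rfl, rfl⟩ := h
  have hex : (ShortComplex.mk (I.toCycles i j) (I.homologyπ j) (I.toCycles_comp_homologyπ i j)).Exact :=
    ShortComplex.exact_of_g_is_cokernel _ (I.homologyIsCokernel i j (by simp [← hij]))
  constructor
  · intro h0
    obtain ⟨v, hv⟩ := exists_fx_of_exact hex x c h0
    refine ⟨v, ?_⟩
    rw [← hv, fx_comp, HomologicalComplex.toCycles_i]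
  · rintro ⟨v, hv⟩
    have h1 : fx (I.iCycles j) x (fx (I.toCycles i j) x v) = fx (I.iCycles j) x c := by
      rw [fx_comp, HomologicalComplex.toCycles_i, hv]
    rw [← fx_injective (I.iCycles j) x h1, fx_comp, HomologicalComplex.toCycles_comp_homologyπ, fx_zero]

/-- Termwise bijections of stalks induce bijections of stalks of cohomology. -/
theorem bijective_homologyMap_of_bijective {J : CochainComplex (ModSite.Mod O) ℤ} (φ : I ⟶ J)
    (hφ : ∀ i, Function.Bijective (fx (φ.f i) x)) (j : ℤ) :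
    Function.Bijective (fx (HomologicalComplex.homologyMap φ j) x) := by
  refine ⟨(injective_iff_map_eq_zero _).2 fun u hu => ?_, fun u => ?_⟩
  · obtain ⟨z, hz⟩ := exists_rep_of_homology I u
    obtain ⟨v, hv⟩ := (((hz.map I φ).eq_zero_iff J (i := j - 1) (by omega)).1 hu)
    obtain ⟨v', rfl⟩ := (hφ (j - 1)).2 v
    refine (hz.eq_zero_iff I (i := j - 1) (by omega)).2 ⟨v', (hφ j).1 ?_⟩
    rw [← hv, fx_comp, fx_comp, φ.comm]
  · obtain ⟨z, hz⟩ := exists_rep_of_homology J u
    obtain ⟨z', rfl⟩ := (hφ j).2 z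
    obtain ⟨u', hu'⟩ := exists_rep_of_cycle I (l := j + 1) rfl z' ((hφ (j + 1)).1 (by
      rw [fx_comp, ← φ.comm, ← fx_comp, map_zero]
      exact hz.cycle J (j + 1)))
    exact ⟨u', (hu'.map I φ).unique J hz⟩

variable (S : ∀ (i : ℤ) (x : X), Submodule (St O x) (ModSite.stalkAb (pt x) (I.X i)))
  (hS : ∀ i j x, ∀ z ∈ S i x, fx (I.d i j) x z ∈ S j x)

/-- The subcomplex cut out at the stalks. -/
def subCx : CochainComplex (ModSite.Mod O) ℤ where
  X i := sub (S i)
  d i j := subLift (S i) (S j) (I.d i j) (hS i j)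
  shape i j hij := by
    rw [← cancel_mono (subι (S j)), subLift_subι, I.shape i j hij, comp_zero, zero_comp]
  d_comp_d' i j k _ _ := by
    rw [← cancel_mono (subι (S k)), Category.assoc, subLift_subι, ← Category.assoc, subLift_subι,
      Category.assoc, I.d_comp_d, comp_zero, zero_comp]

/-- The inclusion of the subcomplex. -/
def subCxι : subCx I S hS ⟶ I where
  f i := subι (S i)
  comm' i j _ := (subLift_subι (S i) (S j) (I.d i j) (hS i j)).symm

variable (S' : ∀ (i : ℤ) (x : X), Submodule (St O x) (ModSite.stalkAb (pt x) (I.X i)))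
  (hS' : ∀ i j x, ∀ z ∈ S' i x, fx (I.d i j) x z ∈ S' j x)

theorem mem_of_le (hle : ∀ i x, S i x ≤ S' i x) (i : ℤ) (x : X) (z : ModSite.stalkAb (pt x) (I.X i))
    (hz : z ∈ S i x) : fx (𝟙 (I.X i)) x z ∈ S' i x := by
  rw [fx_id]
  exact hle i x hz

/-- The inclusion of subcomplexes. -/
def subCxIncl (hle : ∀ i x, S i x ≤ S' i x) : subCx I S hS ⟶ subCx I S' hS' where
  f i := subLift (S i) (S' i) (𝟙 _) (mem_of_le I S S' hle i)
  comm' i j _ := by
    change _ ≫ subLift (S' i) (S' j) (I.d i j) (hS' i j) = subLift (S i) (S j) (I.d i j) (hS i j) ≫ _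
    rw [← cancel_mono (subι (S' j)), Category.assoc, subLift_subι, ← Category.assoc, subLift_subι,
      Category.comp_id, Category.assoc, subLift_subι, Category.comp_id, subLift_subι]

theorem subCxIncl_ι (hle : ∀ i x, S i x ≤ S' i x) :
    subCxIncl I S hS S' hS' hle ≫ subCxι I S' hS' = subCxι I S hS := by
  ext i : 1
  change subLift (S i) (S' i) (𝟙 _) (mem_of_le I S S' hle i) ≫ subι (S' i) = subι (S i)
  rw [subLift_subι, Category.comp_id]

end Cx

section Model

variable {W : Opens X} (φ : M ⟶ M') (hφ : ∀ x ∈ W, Function.Bijective (fx φ x))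

include hφ in
theorem model_push {ι : Type u} {t : ι → M.val.obj (op W)} {N : Submodule (Fn O W) (ι →₀ Fn O W)}
    (hm : IsModel M W t N) : IsModel M' W (fun i => mp φ W (t i)) N := by
  refine ⟨fun x hx z => ?_, fun x hx w => ?_⟩
  · obtain ⟨z', rfl⟩ := (hφ x hx).2 z
    obtain ⟨w, hw⟩ := hm.gen x hx z'
    exact ⟨w, by rw [← fx_gcmb, hw]⟩
  · rw [← fx_gcmb, ← hm.rel x hx]
    exact ⟨fun h => (hφ x hx).1 (h.trans (map_zero _).symm), fun h => by rw [h, map_zero]⟩

include hφ in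
theorem mp_surjective_of_bijective (s : M'.val.obj (op W)) : ∃ t, mp φ W t = s := by
  have hloc : ∀ y : W, ∃ (V : Opens X) (hV : V ≤ W) (t : M.val.obj (op V)),
      y.1 ∈ V ∧ mp φ V t = res M' hV s := fun y => by
    obtain ⟨w, hw⟩ := (hφ y.1 y.2).2 (gm M' y.2 s)
    obtain ⟨V, hyV, t, rfl⟩ := RngSp.exists_gm w
    rw [fx_gm] at hw
    obtain ⟨V', h₁, h₂, hyV', he⟩ := RngSp.exists_gm_eq _ _ _ _ hw
    exact ⟨V', h₂, res M h₁ t, hyV', (RngSp.mp_res φ h₁ t).trans he⟩
  choose V hV t hyV ht using hloc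
  obtain ⟨m, hm⟩ := ClosedRinged.exists_glue M V hV (fun y hy => ⟨⟨y, hy⟩, hyV ⟨y, hy⟩⟩) t
    fun i j => eq_of_gm fun y hy => (hφ y (hV i hy.1)).1 (by
      rw [RngSp.gm_res, RngSp.gm_res, fx_gm, fx_gm, ht, ht, RngSp.gm_res, RngSp.gm_res])
  exact ⟨m, eq_of_gm fun y hy => by
    rw [← RngSp.gm_res (hV ⟨y, hy⟩) (hyV ⟨y, hy⟩) (mp φ W m), ← RngSp.mp_res, hm, ht, RngSp.gm_res]⟩

include hφ in
theorem model_pull {ι : Type u} {t' : ι → M'.val.obj (op W)} {N : Submodule (Fn O W) (ι →₀ Fn O W)}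
    (hm : IsModel M' W t' N) : ∃ t : ι → M.val.obj (op W), IsModel M W t N := by
  choose t ht using fun i => mp_surjective_of_bijective φ hφ (t' i)
  refine ⟨t, fun x hx z => ?_, fun x hx w => ?_⟩
  · obtain ⟨w, hw⟩ := hm.gen x hx (fx φ x z)
    refine ⟨w, (hφ x hx).1 ?_⟩
    rw [fx_gcmb, ← hw]
    simp only [ht]
  · rw [← hm.rel x hx, ← (hφ x hx).1.eq_iff, map_zero, fx_gcmb]
    simp only [ht]

end Model

end Groth.Agent.FTorsL
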