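import Groth.Agent.FTorsL.KEquiv
import Groth.Agent.H9FCoh.SchQ

/-!
# Quasi-coherent torsion modules and the completion morphism
-/

set_option autoImplicit false
set_option backward.isDefEq.respectTransparency false
set_option backward.isDefEq.respectTransparency.types false
set_option linter.style.haveILetI false

universe u

open CategoryTheory CategoryTheory.Limits AlgebraicGeometry TopologicalSpace Opposite
open Groth.Agent.H9FCoh Groth.Agent.ClosedRinged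
open Groth.Agent.RngSp (pt gm mp fns)

noncomputable section

namespace Groth.Agent.FTorsL

variable {X : Scheme.{u}} {𝓘 : X.IdealSheafData} (h : (FSch.completionAlong X 𝓘).IsLocNoethFormal)

theorem isQC_pull_kMor [IsLocallyNoetherian X] {N : ModSite.Mod X.sheaf} (hN : IsQC (O := X.sheaf) N) :
    IsQC (O := (Xh 𝓘).Osh h.1) ((kMor 𝓘 h).pull.obj N) := by
  haveI := hN
  refine isQuasicoherent_of_models fun x => ?_
  obtain ⟨U, -, -, ι, t, N', hyU, hm⟩ :=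
    exists_isModel (M := N) (schGood X) (show kPt 𝓘 x ∈ (⊤ : X.Opens) from trivial)
  exact ⟨_, ι, _, _, hyU, isModel_pull (FSch.completionToX X 𝓘 0).base
    (FSch.schSharp (Xh 𝓘) h.1 (FSch.completionToX X 𝓘) (FSch.completionToX_comm X 𝓘)) hm⟩

variable {M : FSch.ModF (Xh 𝓘) h.1}

theorem exists_kφ_smul (hT : FTors.IsTorsF (Xh 𝓘) h.1 M) {x : (Xh 𝓘).X 0}
    (z : ModSite.stalkAb (pt (kPt 𝓘 x)) ((kMor 𝓘 h).push.obj M)) (c : St ((Xh 𝓘).Osh h.1) x) :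
    ∃ r : St X.sheaf (kPt 𝓘 x), kι 𝓘 h M x (r • z) = c • kι 𝓘 h M x z := by
  obtain ⟨V, hV, hxV, -⟩ :=
    Opens.isBasis_iff_nbhd.1 X.isBasis_affineOpens (show kPt 𝓘 x ∈ (⊤ : X.Opens) from trivial)
  obtain ⟨k, hk⟩ := (torsAt_of_isTorsF h hT (kι 𝓘 h M x z)).exists_kills (isAffineOpen_kU 𝓘 hV)
    (show x ∈ kU 𝓘 V from hxV)
  obtain ⟨r, hr⟩ := exists_approx 𝓘 h hV (show x ∈ kU 𝓘 V from hxV) k c
  refine ⟨r, ?_⟩
  have h1 := smul_eq_zero_of_mem_map h hk hr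
  rw [sub_smul, sub_eq_zero] at h1
  rw [kι_smul, h1]

theorem push_gen (hT : FTors.IsTorsF (Xh 𝓘) h.1 M) {V : X.Opens} {ι : Type u}
    (t : ι → ((kMor 𝓘 h).push.obj M).val.obj (op V))
    (hgen : ∀ x (hx : x ∈ kU 𝓘 V) (m : ModSite.stalkAb (pt x) M),
      ∃ w, gcmb (fun i => gm M hx (kSec 𝓘 h (t i))) w = m)
    (y : X) (hy : y ∈ V) (z : ModSite.stalkAb (pt y) ((kMor 𝓘 h).push.obj M)) :
    ∃ w, gcmb (fun i => gm ((kMor 𝓘 h).push.obj M) hy (t i)) w = z := by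
  by_cases hr : y ∈ Set.range (FSch.completionToX X 𝓘 0)
  · obtain ⟨x, rfl⟩ := hr
    obtain ⟨c, hc⟩ := hgen x hy (kι 𝓘 h M x z)
    suffices key : ∀ c, ∃ w, kι 𝓘 h M x (gcmb (fun i => gm ((kMor 𝓘 h).push.obj M) hy (t i)) w) =
        gcmb (fun i => gm M (show x ∈ kU 𝓘 V from hy) (kSec 𝓘 h (t i))) c by
      obtain ⟨w, hw⟩ := key c
      exact ⟨w, (kι_bijective 𝓘 h M x).1 (hw.trans hc)⟩
    intro c
    induction c using Finsupp.induction_linear with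
    | zero => exact ⟨0, by
        rw [map_zero, map_zero]; exact map_zero (AddMonoidHom.mk' (kι 𝓘 h M x) (kι_add 𝓘 h))⟩
    | add a b ha hb =>
      obtain ⟨wa, ha⟩ := ha
      obtain ⟨wb, hb⟩ := hb
      exact ⟨wa + wb, by rw [map_add, map_add, kι_add, ha, hb]⟩
    | single i c =>
      obtain ⟨r, hr⟩ := exists_kφ_smul h hT (gm ((kMor 𝓘 h).push.obj M) hy (t i)) c
      refine ⟨Finsupp.single i r, ?_⟩
      rw [gcmb, Finsupp.linearCombination_single, gcmb, Finsupp.linearCombination_single, hr, kι_gm]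
  · exact ⟨0, (map_zero _).trans (eq_zero_push_of_not_mem_range 𝓘 h M hr z).symm⟩

/-- The relations between sections. -/
def relSub {O : TopCat.Sheaf CommRingCat.{u} (X : TopCat.{u})} {F : ModSite.Mod O} {V : X.Opens} {ι : Type u}
    (t : ι → F.val.obj (op V)) : Submodule (Fn O V) (ι →₀ Fn O V) where
  carrier := {v | ∀ y (hy : y ∈ V), gcmb (fun i => gm F hy (t i)) (pv (gH O hy) v) = 0}
  zero_mem' := fun y hy => by rw [pv_zero, map_zero]
  add_mem' := fun ha hb y hy => by rw [pv_add, map_add, ha y hy, hb y hy, add_zero]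
  smul_mem' := fun a _ hb y hy => by rw [pv_smul, map_smul, hb y hy, smul_zero]

theorem push_rel (hT : FTors.IsTorsF (Xh 𝓘) h.1 M) (hQC : IsQC M) {V : X.Opens} (hV : IsAffineOpen V)
    {ι : Type u} (t : ι → ((kMor 𝓘 h).push.obj M).val.obj (op V)) (y : X) (hy : y ∈ V)
    (w : ι →₀ St X.sheaf y) (hw : gcmb (fun i => gm ((kMor 𝓘 h).push.obj M) hy (t i)) w = 0) :
    w ∈ pN (gH X.sheaf hy) (relSub t) := by
  obtain ⟨V', hV', hyV', v, rfl⟩ := exists_pv_eq hy w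
  obtain ⟨g, hgV', hyg⟩ := hV.exists_basicOpen_le ⟨y, hyV'⟩ hy
  obtain ⟨k, u, hu⟩ := exists_fraction (Y := X) hV g (pv (rr X.sheaf hgV') v)
  have hg := (mem_basicOpen_iff (Y := X) hy g).1 hyg
  have e1 : pv (gH X.sheaf hy) u = gH X.sheaf hy g ^ k • pv (gH X.sheaf hyV') v := by
    have h1 := congrArg (pv (gH X.sheaf hyg)) hu
    rw [pv_smul, map_pow] at h1
    refine (pv_gH_rr (O := X.sheaf) (X.basicOpen_le g) hyg u).symm.trans (h1.trans ?_)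
    exact congrArg₂ (· ^ k • ·) (gH_rr (O := X.sheaf) (X.basicOpen_le g) hyg g)
      (pv_gH_rr (O := X.sheaf) hgV' hyg v)
  rw [← Submodule.smul_mem_iff_of_isUnit _ (hg.pow k), ← e1]
  let z := cmb (M := (kMor 𝓘 h).push.obj M) t u
  have hz0 : gm ((kMor 𝓘 h).push.obj M) hy z = 0 := by rw [gm_cmb, e1, map_smul, hw, smul_zero]
  rw [← RngSp.gm_zero (M := (kMor 𝓘 h).push.obj M) hy] at hz0
  obtain ⟨V₀, hV₀, hyV₀, he⟩ := (RngSp.gm_eq_iff hy _ _).1 hz0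
  rw [res_zero] at he
  obtain ⟨g₂, hg₂V₀, hyg₂⟩ := hV.exists_basicOpen_le ⟨y, hyV₀⟩ hy
  obtain ⟨m, hm⟩ := exists_pow_kills h hT hQC (isAffineOpen_kU 𝓘 hV) le_rfl (kS 𝓘 h V g₂) (kSec 𝓘 h z)
    fun x hx hu => by
      have hx₀ : kPt 𝓘 x ∈ V₀ := hg₂V₀ ((mem_basicOpen_iff (Y := X) hx g₂).2 ((isUnit_kS_iff 𝓘 h g₂ hx).1 hu))
      have h2 := congrArg (fun q => gm M (show x ∈ kU 𝓘 V₀ from hx₀) (kSec 𝓘 h q)) he
      simp only [kSec_res, RngSp.gm_res] at h2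
      exact h2.trans (RngSp.gm_zero _)
  rw [← Submodule.smul_mem_iff_of_isUnit _ (((mem_basicOpen_iff (Y := X) hy g₂).1 hyg₂).pow m), ← map_pow,
    ← pv_smul]
  refine pv_mem_pN _ fun p hp => ?_
  rw [pv_smul, map_smul, ← gm_cmb, map_pow]
  by_cases hpr : p ∈ Set.range (FSch.completionToX X 𝓘 0)
  · obtain ⟨x, rfl⟩ := hpr
    refine (kι_bijective 𝓘 h M x).1 ?_
    rw [kι_smul, map_pow, kθ_gH, kι_gm, hm x hp]
    exact (map_zero (AddMonoidHom.mk' (kι 𝓘 h M x) (kι_add 𝓘 h))).symm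
  · exact eq_zero_push_of_not_mem_range 𝓘 h M hpr _

theorem isModel_kPush (hT : FTors.IsTorsF (Xh 𝓘) h.1 M) (hQC : IsQC M) {V : X.Opens} (hV : IsAffineOpen V)
    {ι : Type u} (t : ι → ((kMor 𝓘 h).push.obj M).val.obj (op V))
    (hgen : ∀ x (hx : x ∈ kU 𝓘 V) (m : ModSite.stalkAb (pt x) M),
      ∃ w, gcmb (fun i => gm M hx (kSec 𝓘 h (t i))) w = m) :
    IsModel (O := X.sheaf) ((kMor 𝓘 h).push.obj M) V t (relSub t) := by
  refine ⟨fun y hy z => push_gen h hT t hgen y hy z,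
    fun y hy w => ⟨push_rel h hT hQC hV t y hy w, fun hw => LinearMap.mem_ker.1 ((Submodule.span_le.2 ?_ :
      pN (gH X.sheaf hy) (relSub t) ≤ LinearMap.ker (gcmb fun i => gm _ hy (t i))) hw)⟩⟩
  rintro _ ⟨n, hn, rfl⟩
  exact LinearMap.mem_ker.2 (hn y hy)

theorem isQC_kPush (hT : FTors.IsTorsF (Xh 𝓘) h.1 M) (hQC : IsQC M) :
    IsQC (O := X.sheaf) ((kMor 𝓘 h).push.obj M) := by
  refine isQuasicoherent_of_models fun y => ?_
  obtain ⟨V, hV, hyV, -⟩ := Opens.isBasis_iff_nbhd.1 X.isBasis_affineOpens (show y ∈ (⊤ : X.Opens) from trivial)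
  obtain ⟨ι, t, N, hm⟩ := lqP_of_qct h hT hQC _ (isAffineOpen_kU 𝓘 hV)
  exact ⟨V, ι, t, _, hyV, isModel_kPush h hT hQC hV t hm.gen⟩

theorem isFP_kPush [IsLocallyNoetherian X] (hT : FTors.IsTorsF (Xh 𝓘) h.1 M)
    (hFP : IsFP (O := (Xh 𝓘).Osh h.1) M) :
    IsFP (O := X.sheaf) ((kMor 𝓘 h).push.obj M) := by
  have hQC := isQC_of_isFP hFP
  refine isFinitePresentation_of_models fun y => ?_
  suffices key : ∃ (V : X.Opens) (_ : IsAffineOpen V) (ι : Type u) (_ : Finite ι)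
      (t : ι → ((kMor 𝓘 h).push.obj M).val.obj (op V)), y ∈ V ∧ ∀ x (hx : x ∈ kU 𝓘 V) (m : ModSite.stalkAb (pt x) M),
        ∃ w, gcmb (fun i => gm M hx (kSec 𝓘 h (t i))) w = m by
    obtain ⟨V, hV, ι, hι, t, hyV, hgen⟩ := key
    haveI : IsNoetherianRing Γ(X, V) := IsLocallyNoetherian.component_noetherian ⟨V, hV⟩
    haveI : IsNoetherian Γ(X, V) (ι →₀ Γ(X, V)) :=
      isNoetherian_of_linearEquiv (Finsupp.linearEquivFunOnFinite Γ(X, V) Γ(X, V) ι).symm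
    have hfg : (relSub t).FG := @IsNoetherian.noetherian Γ(X, V) (ι →₀ Γ(X, V)) _ _ _ ‹_› (relSub t)
    exact ⟨V, ι, hι, t, relSub t, hyV, hfg, isModel_kPush h hT hQC hV t hgen⟩
  by_cases hy : y ∈ Set.range (FSch.completionToX X 𝓘 0)
  · obtain ⟨x₀, rfl⟩ := hy
    obtain ⟨W, hW, ι, hι, t, N, hxW, hm⟩ := exists_finite_model_affine h hFP x₀
    obtain ⟨V, hV, hxV, -, hVW⟩ := exists_kU_le 𝓘 hxW (V₀ := ⊤) trivial
    refine ⟨V, hV, ι, hι, fun i => res M hVW (t i), hxV, fun x hx m => ?_⟩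
    obtain ⟨w, hw⟩ := hm.gen x (hVW hx) m
    refine ⟨w, Eq.trans ?_ hw⟩
    exact congrArg (fun f => gcmb f w) (funext fun i => RngSp.gm_res hVW hx (t i))
  · obtain ⟨V, hV, hyV, hVC⟩ := Opens.isBasis_iff_nbhd.1 X.isBasis_affineOpens
      (U := ⟨(Set.range (FSch.completionToX X 𝓘 0))ᶜ,
        ((FSch.completionToX X 𝓘 0).isClosedEmbedding.isClosed_range).isOpen_compl⟩) hy
    exact ⟨V, hV, PEmpty.{u + 1}, inferInstance, fun i => i.elim, hyV, fun x hx _ => absurd ⟨x, rfl⟩ (hVC hx)⟩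

theorem isCoh_kPush [IsLocallyNoetherian X] (hT : FTors.IsTorsF (Xh 𝓘) h.1 M)
    (hFP : IsFP (O := (Xh 𝓘).Osh h.1) M) : Coh.IsCoh ((kMor 𝓘 h).push.obj M) :=
  ⟨isQC_of_isFP (isFP_kPush h hT hFP), isFT_of_isFP (isFP_kPush h hT hFP)⟩

end Groth.Agent.FTorsL
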