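import Groth.Agent.FTorsL.KDer
import Groth.Agent.H9Misc.FinDimDerived

/-!
# Derived torsion and the completion morphism
-/

set_option autoImplicit false
set_option backward.isDefEq.respectTransparency false
set_option backward.isDefEq.respectTransparency.types false
set_option linter.style.haveILetI false

universe u

open CategoryTheory CategoryTheory.Limits AlgebraicGeometry TopologicalSpace Opposite DerivedCategory
open CategoryTheory.Pretriangulated
open Groth.Agent.H9FCoh Groth.Agent.ClosedRinged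
open Groth.Agent.RngSp (pt gm mp fns)

attribute [local instance] HasDerivedCategory.standard

noncomputable section

namespace Groth.Agent.FTorsL

section Abstract

theorem fx_id {T : TopCat.{u}} {O : TopCat.Sheaf CommRingCat.{u} T} (M : ModSite.Mod O) (x : T)
    (z : ModSite.stalkAb (pt x) M) : fx (𝟙 M) x z = z := by
  obtain ⟨U, hx, s, rfl⟩ := RngSp.exists_gm z
  rw [fx_gm]
  rfl

theorem isIso_map_of_acyclic_cone {A : Type (u + 1)} [Category.{u} A] [Abelian A] {B : Type (u + 1)}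
    [Category.{u} B] [Abelian B] (F : A ⥤ B) [F.Additive] {L L' : CochainComplex A ℤ} (s : L ⟶ L')
    (hF : ((F.mapHomologicalComplex (ComplexShape.up ℤ)).obj (CochainComplex.mappingCone s)).Acyclic) :
    IsIso ((F.mapHomotopyCategory (ComplexShape.up ℤ) ⋙ Qh).map
      ((HomotopyCategory.quotient A (ComplexShape.up ℤ)).map s)) := by
  have hT := HomotopyCategory.mappingCone_triangleh_distinguished s
  refine (Triangle.isZero₃_iff_isIso₁ _
    ((F.mapHomotopyCategory (ComplexShape.up ℤ) ⋙ Qh).map_distinguished _ hT)).1 ?_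
  exact ((H9Misc.FinDimDerived.isZero_Q_obj_iff _).2 hF).of_iso
    ((Functor.isoWhiskerRight (F.mapHomotopyCategoryFactors (ComplexShape.up ℤ)) Qh).app _ ≪≫
      (quotientCompQhIso B).app _)

theorem acyclic_cone {A : Type (u + 1)} [Category.{u} A] [Abelian A] {L L' : CochainComplex A ℤ} (s : L ⟶ L')
    [QuasiIso s] : HomologicalComplex.Acyclic (CochainComplex.mappingCone s) := by
  have hT := HomotopyCategory.mappingCone_triangleh_distinguished s
  haveI : IsIso (Qh.map ((HomotopyCategory.quotient A (ComplexShape.up ℤ)).map s)) :=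
    (NatIso.isIso_map_iff (quotientCompQhIso A) s).2 ((isIso_Q_map_iff_quasiIso (φ := s)).2 inferInstance)
  have hz : IsZero (Qh.obj ((HomotopyCategory.quotient A (ComplexShape.up ℤ)).obj (CochainComplex.mappingCone s))) :=
    (Triangle.isZero₃_iff_isIso₁ _ (Qh.map_distinguished _ hT)).2 ‹_›
  exact (H9Misc.FinDimDerived.isZero_Q_obj_iff _).1 (hz.of_iso ((quotientCompQhIso A).symm.app _))

end Abstract

section Formal

variable {𝔛 : FSch.Sys.{u}} (h : 𝔛.IsLocNoethFormal) {L L' : CochainComplex (FSch.ModF 𝔛 h.1) ℤ}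

theorem divG_injective (M : FSch.ModF 𝔛 h.1) [Injective M] {W : (𝔛.X 0).Opens} (hW : IsAffineOpen W) {x : 𝔛.X 0}
    (hx : x ∈ W) (g : ℕ → Ox h W) :
    letI : Module (Ox h W) (ModSite.stalkAb (pt x) M) := Module.compHom _ (gH (𝔛.Osh h.1) hx)
    DivG g (ModSite.stalkAb (pt x) M) := by
  haveI := isNoetherianRing_Ox h hW
  haveI : IsNoetherianRing (Fn (𝔛.Osh h.1) W) := isNoetherianRing_Ox h hW
  letI : Module (Ox h W) (ModSite.stalkAb (pt x) M) := Module.compHom _ (gH (𝔛.Osh h.1) hx)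
  exact FinExt.divG fun n a m hm => exists_smul_eq_of_injective M hx ((good h).flat W hW) a m hm

theorem divG_cone (s : L ⟶ L') {W : (𝔛.X 0).Opens} {x : 𝔛.X 0} (hx : x ∈ W) (g : ℕ → Ox h W) (i : ℤ)
    (hL : letI : ∀ M : FSch.ModF 𝔛 h.1, Module (Ox h W) (ModSite.stalkAb (pt x) M) := fun _ =>
        Module.compHom _ (gH (𝔛.Osh h.1) hx)
      DivG g (ModSite.stalkAb (pt x) (L.X (i + 1))))
    (hL' : letI : ∀ M : FSch.ModF 𝔛 h.1, Module (Ox h W) (ModSite.stalkAb (pt x) M) := fun _ =>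
        Module.compHom _ (gH (𝔛.Osh h.1) hx)
      DivG g (ModSite.stalkAb (pt x) (L'.X i))) :
    letI : ∀ M : FSch.ModF 𝔛 h.1, Module (Ox h W) (ModSite.stalkAb (pt x) M) := fun _ =>
        Module.compHom _ (gH (𝔛.Osh h.1) hx)
    DivG g (ModSite.stalkAb (pt x) ((CochainComplex.mappingCone s).X i)) := by
  letI : ∀ M : FSch.ModF 𝔛 h.1, Module (Ox h W) (ModSite.stalkAb (pt x) M) := fun _ =>
    Module.compHom _ (gH (𝔛.Osh h.1) hx)
  let a : L.X (i + 1) ⟶ (CochainComplex.mappingCone s).X i :=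
    (CochainComplex.mappingCone.inl s).v (i + 1) i (by omega)
  let b : L'.X i ⟶ (CochainComplex.mappingCone s).X i := (CochainComplex.mappingCone.inr s).f i
  let p : (CochainComplex.mappingCone s).X i ⟶ L.X (i + 1) :=
    (CochainComplex.mappingCone.fst s).1.v i (i + 1) rfl
  let q : (CochainComplex.mappingCone s).X i ⟶ L'.X i := (CochainComplex.mappingCone.snd s).v i i (add_zero i)
  have hap : a ≫ p = 𝟙 _ := CochainComplex.mappingCone.inl_v_fst_v s _ _ rfl
  have haq : a ≫ q = 0 := CochainComplex.mappingCone.inl_v_snd_v s _ _ _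
  have hbp : b ≫ p = 0 := CochainComplex.mappingCone.inr_f_fst_v s _ _ rfl
  have hbq : b ≫ q = 𝟙 _ := CochainComplex.mappingCone.inr_f_snd_v s _
  have htot : p ≫ a + q ≫ b = 𝟙 _ := CochainComplex.mappingCone.id_X s i (i + 1) rfl
  let e : (ModSite.stalkAb (pt x) (L.X (i + 1)) × ModSite.stalkAb (pt x) (L'.X i)) ≃+
      ModSite.stalkAb (pt x) ((CochainComplex.mappingCone s).X i) :=
    { toFun := fun m => fx a x m.1 + fx b x m.2
      invFun := fun m => (fx p x m, fx q x m)
      left_inv := fun m => Prod.ext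
        (by dsimp only; rw [map_add, fx_comp, fx_comp, hap, hbp, fx_id, fx_zero, add_zero])
        (by dsimp only; rw [map_add, fx_comp, fx_comp, haq, hbq, fx_id, fx_zero, zero_add])
      right_inv := fun m => by
        dsimp only
        rw [fx_comp, fx_comp, ← fx_add, htot, fx_id]
      map_add' := fun m m' => by
        change fx a x (m.1 + m'.1) + fx b x (m.2 + m'.2) = _
        rw [map_add, map_add]
        abel }
  refine DivG.transfer e (fun r m => ?_) (hL.prod hL')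
  change fx a x (g r • m.1) + fx b x (g r • m.2) = gH (𝔛.Osh h.1) hx (g r) • (fx a x m.1 + fx b x m.2)
  rw [smul_add]
  exact congrArg₂ (· + ·) (fx_smul a hx _ _) (fx_smul b hx _ _)

/-- The torsion functor respects quasi-isomorphisms into complexes of injectives from complexes with divisible
germs. -/
theorem isIso_gammaKh_map (s : L ⟶ L') [QuasiIso s] (hI : ∀ i, Injective (L'.X i)) (hL : DivCx h L) :
    IsIso ((FTors.gammaKh (FTors.openIdealFam 𝔛 h.1)).map
      ((HomotopyCategory.quotient (FSch.ModF 𝔛 h.1) (ComplexShape.up ℤ)).map s)) := by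
  let C₀ := CochainComplex.mappingCone s
  have hC : C₀.Acyclic := acyclic_cone s
  have hdiv : DivCx h C₀ := fun x => by
    obtain ⟨W, hW, hx, n, g, hg, hX⟩ := hL x
    exact ⟨W, hW, hx, n, g, hg, fun i => divG_cone h s hx (famG g) i (hX (i + 1))
      (haveI := hI i; divG_injective h (L'.X i) hW hx (famG g))⟩
  have hH : ∀ i, FTors.IsTorsF 𝔛 h.1 (C₀.homology i) := fun i => isTorsF_of_torsAt h fun x z => by
    obtain ⟨U, hU, hx, -⟩ := exists_affine (W := (⊤ : (𝔛.X 0).Opens)) (x := x) trivial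
    have h0 : fx (0 : C₀.homology i ⟶ C₀.homology i) x z = z := by
      rw [← (hC i).isZero_homology.eq_of_src (𝟙 _) 0, fx_id]
    rw [fx_zero] at h0
    exact ⟨U, hU, hx, 0, fun a _ => by rw [← h0, smul_zero]⟩
  haveI := quasiIso_gammaCx_of_divCx h C₀ hdiv hH
  let F := FTors.gammaT 𝔛 h.1
  have hFC : ((F.mapHomologicalComplex (ComplexShape.up ℤ)).obj C₀).Acyclic :=
    (H9Misc.FinDimDerived.isZero_Q_obj_iff _).1
      (((H9Misc.FinDimDerived.isZero_Q_obj_iff C₀).2 hC).of_iso (asIso (Q.map (gammaCx C₀))))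
  exact isIso_map_of_acyclic_cone F s hFC

theorem isIso_uR_app_of_divCx [FTors.HasRgammaT 𝔛 h.1] (hL : DivCx h L) : IsIso ((uR h.1).app (hq L)) := by
  haveI := isGrothendieckAbelian_modF h
  obtain ⟨J, s, hJ, hs, -, hinj⟩ := TriCat.exists_kInjective_resolution' L
  haveI := hJ
  haveI := hs
  haveI := isIso_uR_app h J
  haveI := isIso_gammaKh_map h s hinj hL
  let ι := (HomotopyCategory.quotient (FSch.ModF 𝔛 h.1) (ComplexShape.up ℤ)).map s
  have n : (FTors.gammaKh (FTors.openIdealFam 𝔛 h.1)).map ι ≫ (uR h.1).app (hq J) =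
      (uR h.1).app (hq L) ≫ (FTors.RgammaT 𝔛 h.1).map (Qh.map ι) := (uR h.1).naturality ι
  haveI : IsIso (Qh.map ι) :=
    (NatIso.isIso_map_iff (quotientCompQhIso (FSch.ModF 𝔛 h.1)) s).2
      ((isIso_Q_map_iff_quasiIso (φ := s)).2 inferInstance)
  haveI : IsIso ((uR h.1).app (hq L) ≫ (FTors.RgammaT 𝔛 h.1).map (Qh.map ι)) := by rw [← n]; infer_instance
  exact IsIso.of_isIso_comp_right _ ((FTors.RgammaT 𝔛 h.1).map (Qh.map ι))

end Formal

theorem hasRpushD_of_exact {C D : Type u} [SmallCategory C] [SmallCategory D] {J : GrothendieckTopology C}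
    {K : GrothendieckTopology D} {O_C : Sheaf J CommRingCat.{u}} {O_D : Sheaf K CommRingCat.{u}}
    (f : ModSite.RMor O_C O_D) [f.push.Additive] [PreservesFiniteLimits f.push] [PreservesFiniteColimits f.push] :
    SiteCmp.HasRpushD f := by
  let W := HomotopyCategory.quasiIso (ModSite.Mod O_C) (ComplexShape.up ℤ)
  let e : Qh ⋙ f.push.mapDerivedCategory ≅ SiteCmp.pushKh f := f.push.mapDerivedCategoryFactorsh
  haveI := Functor.isRightDerivedFunctor_of_inverts W f.push.mapDerivedCategory e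
  exact Functor.HasRightDerivedFunctor.mk' f.push.mapDerivedCategory e.inv

theorem hasRpushD_kMor {X : Scheme.{u}} {𝓘 : X.IdealSheafData}
    (h : (FSch.completionAlong X 𝓘).IsLocNoethFormal) : SiteCmp.HasRpushD (kMor 𝓘 h) :=
  haveI := additive_push h
  haveI := preservesFiniteLimits_push h
  haveI := preservesFiniteColimits_push h
  hasRpushD_of_exact (kMor 𝓘 h)

variable {X : Scheme.{u}} [IsLocallyNoetherian X] {𝓘 : X.IdealSheafData}
  (h : (FSch.completionAlong X 𝓘).IsLocNoethFormal) [PreservesFiniteLimits (kMor 𝓘 h).pull]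
  [FTors.HasRgammaT (Xh 𝓘) h.1] [FTors.HasRgammaZp X 𝓘]

/-- Derived torsion commutes with the inverse image along the completion, compatibly with the counits. -/
theorem exists_pullD_RgammaZp_iso (F : DerivedCategory (ModSite.Mod X.sheaf)) :
    ∃ e : (SiteCmp.pullD (kMor 𝓘 h)).obj ((FTors.RgammaZp X 𝓘).obj F) ≅
        (FTors.RgammaT (Xh 𝓘) h.1).obj ((SiteCmp.pullD (kMor 𝓘 h)).obj F),
      e.hom ≫ (FTors.RgammaTε (Xh 𝓘) h.1).app ((SiteCmp.pullD (kMor 𝓘 h)).obj F) =
        (SiteCmp.pullD (kMor 𝓘 h)).map ((FTors.RgammaZpε X 𝓘).app F) := by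
  let I₀ := FTors.powIdealFam X 𝓘
  obtain ⟨I, hI, hinj, ⟨eF⟩⟩ := Gen.exists_kInjective_rep F
  haveI := hI
  haveI := Gen.isIso_uR_app I₀ I
  let P := (kMor 𝓘 h).pull
  let D := SiteCmp.pullD (kMor 𝓘 h)
  let L := (P.mapHomologicalComplex (ComplexShape.up ℤ)).obj I
  haveI := isIso_uR_app_of_divCx h (divCx_pull h I hinj)
  -- the comparison of torsion complexes
  choose θ hθiso hθ using fun i => exists_comparison h (I.X i)
  let ΓI := ((FTors.gamma X.sheaf I₀).mapHomologicalComplex (ComplexShape.up ℤ)).obj I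
  let ΓL := ((FTors.gammaT (Xh 𝓘) h.1).mapHomologicalComplex (ComplexShape.up ℤ)).obj L
  let Θ : (P.mapHomologicalComplex (ComplexShape.up ℤ)).obj ΓI ⟶ ΓL :=
    { f := fun i => θ i
      comm' := fun i j _ => by
        haveI := mono_gammaTι h.1 (P.obj (I.X j))
        rw [← cancel_mono ((FTors.gammaTι (Xh 𝓘) h.1).app (P.obj (I.X j)))]
        change (θ i ≫ (FTors.gammaT (Xh 𝓘) h.1).map (P.map (I.d i j))) ≫ _ =
          (P.map ((FTors.gamma X.sheaf I₀).map (I.d i j)) ≫ θ j) ≫ _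
        rw [Category.assoc, Category.assoc, hθ j, ← P.map_comp]
        refine ((congrArg (θ i ≫ ·) ((FTors.gammaTι (Xh 𝓘) h.1).naturality (P.map (I.d i j)))).trans ?_)
        refine (Category.assoc _ _ _).symm.trans ((congrArg (· ≫ _) (hθ i)).trans ?_)
        refine (P.map_comp _ _).symm.trans (congrArg P.map ?_)
        exact ((FTors.gammaι I₀).naturality (I.d i j)).symm }
  haveI : ∀ i, IsIso (Θ.f i) := fun i => hθiso i
  haveI := HomologicalComplex.Hom.isIso_of_components Θ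
  have hΘ : Θ ≫ gammaCx L = (P.mapHomologicalComplex (ComplexShape.up ℤ)).map (Gen.gammaCx I₀ I) :=
    HomologicalComplex.hom_ext _ _ fun i => hθ i
  -- the derived torsion on the representatives
  let qI := quotientCompQhIso (ModSite.Mod X.sheaf)
  let qL := quotientCompQhIso (FSch.ModF (Xh 𝓘) h.1)
  let a : Q.obj ΓI ≅ (FTors.RgammaZp X 𝓘).obj F :=
    qI.symm.app ΓI ≪≫ Qh.mapIso (((FTors.gamma X.sheaf I₀).mapHomotopyCategoryFactors (ComplexShape.up ℤ)).app I).symm ≪≫
      asIso ((Gen.uR I₀).app (hq I)) ≪≫ (FTors.RgammaZp X 𝓘).mapIso eF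
  have ha : a.hom ≫ (FTors.RgammaZpε X 𝓘).app F = Q.map (Gen.gammaCx I₀ I) ≫ qI.inv.app I ≫ eF.hom := by
    simp only [a, Iso.trans_hom, Category.assoc, Functor.mapIso_hom, Iso.symm_hom, Iso.app_inv,
      asIso_hom, Iso.app_hom]
    rw [show (FTors.RgammaZp X 𝓘).map eF.hom ≫ (FTors.RgammaZpε X 𝓘).app F =
      (FTors.RgammaZpε X 𝓘).app (Qh.obj (hq I)) ≫ eF.hom from (FTors.RgammaZpε X 𝓘).naturality eF.hom,
      ← Category.assoc ((Gen.uR I₀).app (hq I)), Gen.uR_fac, Gen.gammaτ_app]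
    simp only [← Category.assoc]
    refine congrArg (· ≫ eF.hom) ?_
    simp only [Category.assoc]
    rw [← Qh.map_comp_assoc, Iso.inv_hom_id_app]
    erw [CategoryTheory.Functor.map_id]
    exact (qI.inv.naturality (Gen.gammaCx I₀ I)).symm
  let eL : Qh.obj (hq L) ≅ D.obj F :=
    qL.app L ≪≫ (P.mapDerivedCategoryFactors.app I).symm ≪≫ D.mapIso (qI.symm.app I ≪≫ eF)
  let b : Q.obj ΓL ≅ (FTors.RgammaT (Xh 𝓘) h.1).obj (D.obj F) :=
    qL.symm.app ΓL ≪≫ Qh.mapIso (((FTors.gammaT (Xh 𝓘) h.1).mapHomotopyCategoryFactors (ComplexShape.up ℤ)).app L).symm ≪≫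
      asIso ((uR h.1).app (hq L)) ≪≫ (FTors.RgammaT (Xh 𝓘) h.1).mapIso eL
  have hb : b.hom ≫ (FTors.RgammaTε (Xh 𝓘) h.1).app (D.obj F) = Q.map (gammaCx L) ≫ qL.inv.app L ≫ eL.hom := by
    simp only [b, Iso.trans_hom, Category.assoc, Functor.mapIso_hom, Iso.symm_hom, Iso.app_inv,
      asIso_hom, Iso.app_hom]
    rw [show (FTors.RgammaT (Xh 𝓘) h.1).map eL.hom ≫ (FTors.RgammaTε (Xh 𝓘) h.1).app (D.obj F) =
      (FTors.RgammaTε (Xh 𝓘) h.1).app (Qh.obj (hq L)) ≫ eL.hom from
        (FTors.RgammaTε (Xh 𝓘) h.1).naturality eL.hom,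
      ← Category.assoc ((uR h.1).app (hq L)), uR_fac, gammaτ_app]
    simp only [← Category.assoc]
    refine congrArg (· ≫ eL.hom) ?_
    simp only [Category.assoc]
    rw [← Qh.map_comp_assoc, Iso.inv_hom_id_app]
    erw [CategoryTheory.Functor.map_id]
    exact (qL.inv.naturality (gammaCx L)).symm
  refine ⟨D.mapIso a.symm ≪≫ P.mapDerivedCategoryFactors.app ΓI ≪≫ Q.mapIso (asIso Θ) ≪≫ b, ?_⟩
  have n := P.mapDerivedCategoryFactors.hom.naturality (Gen.gammaCx I₀ I)
  have e1 : Q.map Θ ≫ Q.map (gammaCx L) = Q.map ((P.mapHomologicalComplex (ComplexShape.up ℤ)).map (Gen.gammaCx I₀ I)) := by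
    rw [← Q.map_comp, hΘ]
  have heL : P.mapDerivedCategoryFactors.hom.app I ≫ qL.inv.app L ≫ eL.hom = D.map (qI.inv.app I ≫ eF.hom) := by
    simp [eL, L]
  have e2 : P.mapDerivedCategoryFactors.hom.app ΓI ≫ Q.map Θ ≫ Q.map (gammaCx L) ≫ qL.inv.app L ≫ eL.hom =
      D.map (a.hom ≫ (FTors.RgammaZpε X 𝓘).app F) := by
    rw [reassoc_of% e1, ha, Functor.map_comp, ← heL]
    exact ((Category.assoc _ _ _).symm.trans (congrArg (· ≫ (qL.inv.app L ≫ eL.hom)) n.symm)).trans (Category.assoc _ _ _)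
  have e3 : D.map a.inv ≫ P.mapDerivedCategoryFactors.hom.app ΓI ≫ Q.map Θ ≫ Q.map (gammaCx L) ≫
      qL.inv.app L ≫ eL.hom = D.map ((FTors.RgammaZpε X 𝓘).app F) := by
    rw [e2, ← Functor.map_comp, Iso.inv_hom_id_assoc]
  refine Eq.trans ?_ e3
  refine (Category.assoc _ _ _).trans (congrArg (D.map a.inv ≫ ·) ?_)
  refine (Category.assoc _ _ _).trans (congrArg (P.mapDerivedCategoryFactors.hom.app ΓI ≫ ·) ?_)
  exact (Category.assoc _ _ _).trans (congrArg (Q.map Θ ≫ ·) hb)

end Groth.Agent.FTorsL
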