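import Groth.Agent.FTorsL.KEquiv
import Groth.Agent.H9ComplFlat.Basic
import Mathlib.LinearAlgebra.TensorProduct.Tower

/-!
# Stalks of inverse images along the completion
-/

set_option autoImplicit false
set_option backward.isDefEq.respectTransparency false
set_option backward.isDefEq.respectTransparency.types false
set_option linter.style.haveILetI false

universe u

open CategoryTheory CategoryTheory.Limits AlgebraicGeometry TopologicalSpace Opposite
open Groth.Agent.H9FCoh Groth.Agent.ClosedRinged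
open Groth.Agent.RngSp (pt gm mp fns)

open scoped TensorProduct

noncomputable section

namespace Groth.Agent.FTorsL

variable {X : Scheme.{u}} {𝓘 : X.IdealSheafData} (h : (FSch.completionAlong X 𝓘).IsLocNoethFormal)

/-- The completed stalk as an algebra over the stalk. -/
abbrev kAlg (x : (Xh 𝓘).X 0) : Algebra (St X.sheaf (kPt 𝓘 x)) (St ((Xh 𝓘).Osh h.1) x) :=
  (kθ 𝓘 h x).toAlgebra

theorem exists_kBC (N : ModSite.Mod X.sheaf) (x : (Xh 𝓘).X 0) :
    letI := kAlg h x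
    ∃ Ψ : (St ((Xh 𝓘).Osh h.1) x ⊗[St X.sheaf (kPt 𝓘 x)] ModSite.stalkAb (pt (kPt 𝓘 x)) N) →+
        ModSite.stalkAb (pt x) ((kMor 𝓘 h).pull.obj N),
      (∀ c z, Ψ (c ⊗ₜ z) = c • kφ h N x z) ∧ Function.Bijective Ψ := by
  letI := kAlg h x
  let Ψ : (St ((Xh 𝓘).Osh h.1) x ⊗[St X.sheaf (kPt 𝓘 x)] ModSite.stalkAb (pt (kPt 𝓘 x)) N) →+
      ModSite.stalkAb (pt x) ((kMor 𝓘 h).pull.obj N) :=
    TensorProduct.liftAddHom (AddMonoidHom.mk' (fun c => AddMonoidHom.mk' (fun z => c • kφ h N x z)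
      fun a b => by rw [map_add, smul_add]) fun c d => by ext z; exact add_smul c d (kφ h N x z))
      fun r c z => by
        change (r • c) • kφ h N x z = c • kφ h N x (r • z)
        rw [kφ_smul, smul_smul, Algebra.smul_def, mul_comm]
        rfl
  have hΨ : ∀ c z, Ψ (c ⊗ₜ z) = c • kφ h N x z := fun c z => rfl
  refine ⟨Ψ, hΨ, ?_, ?_⟩
  · obtain ⟨φ, hφ⟩ := exists_toSky (FSch.completionToX X 𝓘 0).base
      (FSch.schSharp (Xh 𝓘) h.1 (FSch.completionToX X 𝓘) (FSch.completionToX_comm X 𝓘)) (M := N) (y := x)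
      (AddMonoidHom.mk' (fun z => (1 : St ((Xh 𝓘).Osh h.1) x) ⊗ₜ[St X.sheaf (kPt 𝓘 x)] z)
        (TensorProduct.tmul_add _)) fun r z => by
        change (1 : St ((Xh 𝓘).Osh h.1) x) ⊗ₜ[St X.sheaf (kPt 𝓘 x)] (r • z) = kθ 𝓘 h x r • _
        rw [TensorProduct.tmul_smul, ← IsScalarTower.algebraMap_smul (St ((Xh 𝓘).Osh h.1) x) r]
        rfl
    let ψ := ((kMor 𝓘 h).adj.homEquiv _ _).symm φ
    let Q := St ((Xh 𝓘).Osh h.1) x ⊗[St X.sheaf (kPt 𝓘 x)] ModSite.stalkAb (pt (kPt 𝓘 x)) N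
    refine (injective_iff_map_eq_zero Ψ).2 fun w hw => ?_
    -- a section inverting the map on each pure tensor
    have key : ∀ w, ∃ (W : ((Xh 𝓘).X 0).Opens) (hx : x ∈ W) (s : ((kMor 𝓘 h).pull.obj N).val.obj (op W)),
        Ψ w = gm _ hx s ∧ skyVal ((Xh 𝓘).Osh h.1) x Q hx (mp ψ W s) = w := by
      intro w
      induction w using TensorProduct.induction_on with
      | zero =>
        refine ⟨⊤, trivial, 0, (map_zero Ψ).trans (RngSp.gm_zero _).symm, ?_⟩
        rw [show mp ψ ⊤ 0 = 0 from map_zero _]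
        rfl
      | tmul c z =>
        obtain ⟨V, hV, s, rfl⟩ := RngSp.exists_gm z
        obtain ⟨W, hxW, a, rfl⟩ := exists_gH c
        refine ⟨W ⊓ kU 𝓘 V, ⟨hxW, hV⟩, HSMul.hSMul (α := fns ((Xh 𝓘).Osh h.1) (W ⊓ kU 𝓘 V))
          (rO h inf_le_left a) (res _ inf_le_right
            (puC h (FSch.completionToX X 𝓘) (FSch.completionToX_comm X 𝓘) N s)), ?_, ?_⟩
        · rw [hΨ, gm_smul' h, gH_rO, RngSp.gm_res, kφ_gm]
        · rw [map_smul]
          refine (skyVal_smul _ x Q _ _ _).trans ?_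
          rw [gH_rO, RngSp.mp_res]
          have h1 := ModPull.adj_homEquiv_app (kMor 𝓘 h) ψ (U := op V) s
          rw [Equiv.apply_symm_apply] at h1
          have h2 : skyVal ((Xh 𝓘).Osh h.1) x Q (show x ∈ kU 𝓘 V from hV) (mp ψ (kU 𝓘 V)
              (puC h (FSch.completionToX X 𝓘) (FSch.completionToX_comm X 𝓘) N s)) = 1 ⊗ₜ gm N hV s :=
            (congrArg (skyVal _ x Q (show x ∈ kU 𝓘 V from hV)) h1.symm).trans (hφ V hV s)
          refine (congrArg (gH ((Xh 𝓘).Osh h.1) hxW a • ·) h2).trans ?_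
          rw [TensorProduct.smul_tmul', smul_eq_mul, mul_one]
      | add w w' iw iw' =>
        obtain ⟨W, hx, s, e, e'⟩ := iw
        obtain ⟨W', hx', s', f, f'⟩ := iw'
        refine ⟨W ⊓ W', ⟨hx, hx'⟩, res _ inf_le_left s + res _ inf_le_right s', ?_, ?_⟩
        · rw [map_add, RngSp.gm_add, RngSp.gm_res, RngSp.gm_res, e, f]
        · rw [map_add, RngSp.mp_res, RngSp.mp_res]
          exact congrArg₂ (· + ·) e' f'
    obtain ⟨W, hx, s, e, e'⟩ := key w
    rw [e, ← RngSp.gm_zero (M := (kMor 𝓘 h).pull.obj N) hx] at hw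
    obtain ⟨W', hW', hxW', he⟩ := (RngSp.gm_eq_iff _ _ _).1 hw
    have h4 := congrArg (fun q => skyVal ((Xh 𝓘).Osh h.1) x Q hxW' (mp ψ W' q)) he
    simp only [RngSp.mp_res, map_zero, res_zero] at h4
    exact e'.symm.trans h4
  · intro w
    obtain ⟨W, hW, z', rfl⟩ := RngSp.exists_gm w
    obtain ⟨W', hW', hxW', V, g, n, a, k, he⟩ :=
      RngSp.nearby_of_locally_opens (ModPull.locally_combination (kMor 𝓘 h) N (W := W) z') x hW
    change res ((kMor 𝓘 h).pull.obj N) hW' z' = ∑ l, (show fns ((Xh 𝓘).Osh h.1) W' from a l) •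
      res ((kMor 𝓘 h).pull.obj N) g.le (puC h (FSch.completionToX X 𝓘) (FSch.completionToX_comm X 𝓘) N (k l)) at he
    refine ⟨∑ l, gH ((Xh 𝓘).Osh h.1) hxW' (a l) ⊗ₜ gm N (show kPt 𝓘 x ∈ V from g.le hxW') (k l), ?_⟩
    rw [← RngSp.gm_res hW' hxW', he, RngSp.gm_sum, map_sum]
    refine Finset.sum_congr rfl fun l _ => ?_
    rw [hΨ, kφ_gm, RngSp.gm_smul, RngSp.gm_res]
    rfl

end Groth.Agent.FTorsL
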