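import Groth.Agent.FTorsL.PushQC
import Groth.Agent.FTorsL.Sub
import Groth.Agent.FTorsL.Acyc
import Groth.Agent.H9FCoh.Rebuild
import Groth.Agent.ExistEasy.PP.HatLemmas
import Groth.Agent.QCoh.Support

/-!
# Direct images of coherent torsion modules along pseudo-proper morphisms
-/

set_option autoImplicit false
set_option backward.isDefEq.respectTransparency false
set_option backward.isDefEq.respectTransparency.types false
set_option linter.style.haveILetI false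

universe u

open CategoryTheory CategoryTheory.Limits AlgebraicGeometry TopologicalSpace Opposite
open Groth.Agent.H9FCoh Groth.Agent.ClosedRinged
open Groth.Agent.RngSp (pt gm mp fns)

noncomputable section

namespace Groth.Agent.FTorsL

variable {𝔛 : FSch.Sys.{u}} (h : 𝔛.IsLocNoethFormal) {M : FSch.ModF 𝔛 h.1}

/-- All germs are killed by the `k`-th power of the ideal of definition. -/
def KilledJ (k : ℕ) (M : FSch.ModF 𝔛 h.1) : Prop :=
  ∀ (W : (𝔛.X 0).Opens), IsAffineOpen W → ∀ (x : 𝔛.X 0) (hx : x ∈ W) (z : ModSite.stalkAb (pt x) M), KillsAt h hx k z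

theorem exists_finite_model_affine (hFP : IsFP (O := 𝔛.Osh h.1) M) (x : 𝔛.X 0) :
    ∃ (W : (𝔛.X 0).Opens) (_ : IsAffineOpen W) (κ : Type u) (_ : Finite κ) (t : κ → M.val.obj (op W))
      (N : Submodule (Ox h W) (κ →₀ Ox h W)), x ∈ W ∧ IsModel M W t N := by
  obtain ⟨W, hW, -, κ, hκ, t, N, hxW, hm⟩ :=
    exists_finite_model (good h) (isQC_of_isFP hFP) (isFT_of_isFP hFP) (show x ∈ (⊤ : (𝔛.X 0).Opens) from trivial)
  exact ⟨W, hW, κ, hκ, t, N, hxW, hm⟩

theorem exists_killedJ [CompactSpace (𝔛.X 0)] (hT : FTors.IsTorsF 𝔛 h.1 M) (hFP : IsFP (O := 𝔛.Osh h.1) M) :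
    ∃ k, KilledJ h k M := by
  have key : ∀ x, ∃ (W : (𝔛.X 0).Opens), x ∈ W ∧ IsAffineOpen W ∧
      ∃ k, ∀ y (hy : y ∈ W) (z : ModSite.stalkAb (pt y) M), KillsAt h hy k z := fun x => by
    obtain ⟨W, hW, κ, hκ, t, N, hxW, hm⟩ := exists_finite_model_affine h hFP x
    choose k hk using fun i => exists_uniform h hT hW le_rfl (t i)
    obtain ⟨K, hK⟩ := exists_bound k
    refine ⟨W, hxW, hW, K, fun y hy z a ha => ?_⟩
    obtain ⟨w, rfl⟩ := hm.gen y hy z
    rw [← map_smul, gcmb, Finsupp.linearCombination_apply, Finsupp.sum]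
    refine Finset.sum_eq_zero fun i _ => ?_
    rw [Finsupp.smul_apply, smul_eq_mul, mul_comm, mul_smul, (hk i y hy).mono (hK i) a ha, smul_zero]
  obtain ⟨κ, hκ, W, -, hcov, hP⟩ := exists_cover (Q := (⊤ : (𝔛.X 0).Opens)) isCompact_univ
    (fun W => IsAffineOpen W ∧ ∃ k, ∀ y (hy : y ∈ W) (z : ModSite.stalkAb (pt y) M), KillsAt h hy k z)
    fun x _ => by
      obtain ⟨W, hxW, hW⟩ := key x
      exact ⟨W, le_top, hxW, hW⟩
  choose hWa k hk using hP
  obtain ⟨K, hK⟩ := exists_bound k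
  refine ⟨K, fun V hV x hx z => ?_⟩
  obtain ⟨a, ha⟩ := hcov x trivial
  exact ((hk a x ha z).mono (hK a)).change (hWa a) hV ha hx

theorem smul_fn_res {U V : (𝔛.X 0).Opens} (hVU : V ≤ U) (a : Ox h U) (z : M.val.obj (op U)) :
    res M hVU (HSMul.hSMul (α := fns (𝔛.Osh h.1) U) a z) =
      HSMul.hSMul (α := fns (𝔛.Osh h.1) V) (rO h hVU a) (res M hVU z) :=
  eq_of_gm fun x hx => by rw [RngSp.gm_res, gm_smul' h, gm_smul' h, RngSp.gm_res, gH_rO]

theorem gH_mem_map_change {U V : (𝔛.X 0).Opens} (hU : IsAffineOpen U) (hV : IsAffineOpen V) {x : 𝔛.X 0}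
    (hxU : x ∈ U) (hxV : x ∈ V) {a : Ox h U} (ha : a ∈ J h U) :
    gH (𝔛.Osh h.1) hxU a ∈ (J h V).map (gH (𝔛.Osh h.1) hxV) := by
  obtain ⟨W, hW, hxW, hle⟩ := exists_affine (W := U ⊓ V) (x := x) ⟨hxU, hxV⟩
  rw [← gH_rO h (hle.trans inf_le_left) hxW]
  have h1 : rO h (hle.trans inf_le_left) a ∈ (J h V).map (rO h (hle.trans inf_le_right)) := by
    rw [map_rO_J h hV hW, ← map_rO_J h hU hW (hle.trans inf_le_left)]
    exact Ideal.mem_map_of_mem _ ha
  have h2 := Ideal.mem_map_of_mem (gH (𝔛.Osh h.1) hxW) h1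
  rw [Ideal.map_map] at h2
  have e : (gH (𝔛.Osh h.1) hxW).comp (rO h (hle.trans inf_le_right)) = gH (𝔛.Osh h.1) hxV :=
    RingHom.ext fun b => gH_rO h _ hxW b
  rwa [e] at h2

section JM

variable (M)

/-- The stalks of the product of the module with the ideal of definition. -/
def jS (x : 𝔛.X 0) : Submodule (St (𝔛.Osh h.1) x) (ModSite.stalkAb (pt x) M) :=
  Submodule.span _ {z | ∃ (W : (𝔛.X 0).Opens) (_ : IsAffineOpen W) (hx : x ∈ W) (a : Ox h W)
    (m : ModSite.stalkAb (pt x) M), a ∈ J h W ∧ gH (𝔛.Osh h.1) hx a • m = z}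

variable {M}

theorem exists_fx_subι_jS {x : 𝔛.X 0} {z : ModSite.stalkAb (pt x) M} (hz : z ∈ jS h M x) :
    ∃ u, fx (subι (jS h M)) x u = z := by
  induction hz using Submodule.span_induction with
  | mem z hz =>
    obtain ⟨W, hW, hx, a, m, ha, rfl⟩ := hz
    obtain ⟨V, hV, s, rfl⟩ := RngSp.exists_gm m
    obtain ⟨W', hW', hxW', hle⟩ := exists_affine (W := W ⊓ V) (x := x) ⟨hx, hV⟩
    let σ : M.val.obj (op W') :=
      HSMul.hSMul (α := fns (𝔛.Osh h.1) W') (rO h (hle.trans inf_le_left) a) (res M (hle.trans inf_le_right) s)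
    have hσ : σ ∈ inS (jS h M) W' := fun y hy => Submodule.subset_span
      ⟨W, hW, (hle hy).1, a, gm M (hle hy).2 s, ha, by
        show _ = gm M hy σ
        rw [gm_smul' h, gH_rO, RngSp.gm_res]⟩
    refine ⟨gm (sub (jS h M)) hxW' ⟨σ, hσ⟩, ?_⟩
    rw [fx_gm]
    change gm M hxW' σ = _
    rw [gm_smul' h, gH_rO, RngSp.gm_res]
  | zero => exact ⟨0, map_zero _⟩
  | add a b _ _ ha hb =>
    obtain ⟨u, rfl⟩ := ha
    obtain ⟨v, rfl⟩ := hb
    exact ⟨u + v, map_add _ u v⟩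
  | smul r z _ hz =>
    obtain ⟨u, rfl⟩ := hz
    obtain ⟨W, hxW, b, rfl⟩ := exists_gH r
    exact ⟨_, fx_smul (subι (jS h M)) hxW b u⟩

theorem isFP_jS (hl : lqP h M) (hFP : IsFP (O := 𝔛.Osh h.1) M) : IsFP (O := 𝔛.Osh h.1) (sub (jS h M)) := by
  refine isFP_sub h hl _ fun x => ?_
  obtain ⟨W, hW, κ, hκ, t, N, hxW, hm⟩ := exists_finite_model_affine h hFP x
  haveI := isNoetherianRing_Ox h hW
  obtain ⟨n, g, hg⟩ := Submodule.fg_iff_exists_fin_generating_family.1 (IsNoetherian.noetherian (J h W))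
  refine ⟨W, hW, hxW, ULift.{u} (Fin n) × κ, inferInstance,
    fun li => HSMul.hSMul (α := fns (𝔛.Osh h.1) W) (g li.1.down) (t li.2), fun y hy => le_antisymm ?_ ?_⟩
  · refine Submodule.span_le.2 ?_
    rintro _ ⟨W', hW', hy', a, m, ha, rfl⟩
    obtain ⟨w, rfl⟩ := hm.gen y hy m
    have h1 := gH_mem_map_change h hW' hW hy' hy ha
    rw [← hg, Ideal.submodule_span_eq, Ideal.map_span, ← Set.range_comp] at h1
    obtain ⟨c, hc⟩ := (Submodule.mem_span_range_iff_exists_fun _).1 h1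
    rw [← hc, Finset.sum_smul, gcmb, Finsupp.linearCombination_apply, Finsupp.sum]
    refine Submodule.sum_mem _ fun l _ => ?_
    rw [Finset.smul_sum]
    refine Submodule.sum_mem _ fun i _ => ?_
    rw [smul_eq_mul, Function.comp_apply, smul_smul, mul_assoc, mul_comm _ (w i), ← mul_assoc, mul_smul]
    refine Submodule.smul_mem _ _ (Submodule.subset_span ⟨(ULift.up l, i), ?_⟩)
    exact gm_smul' h hy _ _
  · refine Submodule.span_le.2 ?_
    rintro _ ⟨⟨l, i⟩, rfl⟩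
    exact Submodule.subset_span ⟨W, hW, hy, g l.down, gm M hy (t i), hg ▸ Submodule.subset_span ⟨l.down, rfl⟩,
      (gm_smul' h hy _ _).symm⟩

theorem killedJ_jS {k : ℕ} (hM : KilledJ h (k + 1) M) : KilledJ h k (sub (jS h M)) := by
  intro V hV x hx u b hb
  refine fx_injective (subι (jS h M)) x ?_
  rw [fx_smul, map_zero]
  have hu := fx_subι_mem (jS h M) u
  generalize fx (subι (jS h M)) x u = z at hu ⊢
  induction hu using Submodule.span_induction with
  | mem z hz =>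
    obtain ⟨W, hW, hxW, a, m, ha, rfl⟩ := hz
    have h1 := gH_mem_map_change h hW hV hxW hx ha
    generalize gH (𝔛.Osh h.1) hxW a = r at h1 ⊢
    induction h1 using Submodule.span_induction with
    | mem r hr =>
      obtain ⟨a', ha', rfl⟩ := hr
      rw [smul_smul, ← map_mul]
      exact hM V hV x hx m _ (by rw [pow_succ]; exact Ideal.mul_mem_mul hb ha')
    | zero => rw [zero_smul, smul_zero]
    | add p q _ _ ip iq => rw [add_smul, smul_add, ip, iq, add_zero]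
    | smul c p _ ip => rw [smul_eq_mul, mul_smul, smul_comm, ip, smul_zero]
  | zero => rw [smul_zero]
  | add a c _ _ ia ic => rw [smul_add, ia, ic, add_zero]
  | smul r z _ iz => rw [smul_comm, iz, smul_zero]

theorem killedJ_cokernel : KilledJ h 1 (cokernel (subι (jS h M))) := by
  intro V hV x hx u a ha
  rw [pow_one] at ha
  obtain ⟨z, rfl⟩ := fx_surjective_of_epi (cokernel.π (subι (jS h M))) x u
  obtain ⟨v, hv⟩ := exists_fx_subι_jS h (Submodule.subset_span ⟨V, hV, hx, a, z, ha, rfl⟩ :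
    gH (𝔛.Osh h.1) hx a • z ∈ jS h M x)
  rw [← fx_smul, ← hv, fx_comp, cokernel.condition, fx_zero]

end JM

theorem injective_puL_unit (hl : lqP h M) (hk : KilledJ h 1 M) {U : (𝔛.X 0).Opens}
    (z : M.val.obj (op U)) (hz : puL h 0 M z = 0) : z = 0 := by
  refine eq_of_gm fun x hx => ?_
  obtain ⟨V, hV, hxV, hVU⟩ := exists_affine (W := U) hx
  obtain ⟨ι, t, N, hm⟩ := hl V hV
  have hz' : puL h 0 M (res M hVU z) = 0 := by
    refine (puSec_res (𝔛.gInv h.1 0) (𝔛.OshProj h.1 0) M hVU z).trans ?_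
    rw [show puSec (𝔛.gInv h.1 0) (𝔛.OshProj h.1 0) M z = 0 from hz, res_zero]
  obtain ⟨v, hv⟩ := hm.exists_cmb (good h) hV (res M hVU z)
  rw [← hv] at hz'
  replace hz' : cmb (fun i => puL h 0 M (t i)) (pv (pr h 0 V) v) = 0 :=
    (puSec_cmb (𝔛.gInv h.1 0) (𝔛.OshProj h.1 0) M t v).symm.trans hz'
  have hmem : pv (pr h 0 V) v ∈ pN (pr h 0 V) N := by
    haveI := h.2.2 0
    refine (schGood (𝔛.X 0)).mem_of_stalks (affine_lvU h hV 0) fun y hy => ?_
    refine ((isModel_lvP h 0 hm).rel y hy _).1 ?_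
    rw [← gm_cmb, hz', RngSp.gm_zero]
  have hvN : pv (gH (𝔛.Osh h.1) hxV) v ∈ pN (gH (𝔛.Osh h.1) hxV) N := by
    have h1 : ∃ n ∈ N, pv (pr h 0 V) (v - n) = 0 := by
      have key : ∀ w ∈ pN (pr h 0 V) N, ∃ n ∈ N, pv (pr h 0 V) n = w := fun w hw => by
        induction hw using Submodule.span_induction with
        | mem w hw => obtain ⟨n, hn, rfl⟩ := hw; exact ⟨n, hn, rfl⟩
        | zero => exact ⟨0, N.zero_mem, pv_zero _⟩
        | add a b _ _ ha hb =>
          obtain ⟨m, hm, rfl⟩ := ha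
          obtain ⟨n, hn, rfl⟩ := hb
          exact ⟨m + n, add_mem hm hn, pv_add _ m n⟩
        | smul r a _ ha =>
          obtain ⟨n, hn, rfl⟩ := ha
          obtain ⟨r', rfl⟩ := pr_surjective h hV 0 r
          exact ⟨r' • n, N.smul_mem r' hn, pv_smul _ r' n⟩
      obtain ⟨n, hn, hn'⟩ := key _ hmem
      exact ⟨n, hn, by rw [pv_sub, hn', sub_self]⟩
    obtain ⟨n, hn, hvn⟩ := h1
    rw [← sub_add_cancel v n, pv_add]
    refine add_mem ?_ (pv_mem_pN _ hn)
    generalize v - n = w at hvn ⊢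
    rw [← w.sum_single, Finsupp.sum, pv_sum]
    refine Submodule.sum_mem _ fun i _ => (hm.rel x hxV _).1 ?_
    rw [pv, Finsupp.mapRange_single, gcmb, Finsupp.linearCombination_single]
    refine hk V hV x hxV _ _ ?_
    rw [pow_one]
    have := DFunLike.congr_fun hvn i
    exact this
  rw [← RngSp.gm_res hVU hxV z, ← hv, gm_cmb, RngSp.gm_zero]
  exact (hm.rel x hxV _).2 hvN

theorem surjective_map_of_eq {Y : Scheme.{u}} (G : Y.Modules) {A B : Y.Opens} (e : A = B) :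
    Function.Surjective (G.presheaf.map (homOfLE e.ge).op).hom := by
  subst e
  intro z
  refine ⟨z, ?_⟩
  rw [show (homOfLE (le_refl A)).op = 𝟙 (op A) from rfl, CategoryTheory.Functor.map_id]
  rfl

theorem puL_smul {U : (𝔛.X 0).Opens} (a : Ox h U) (z : M.val.obj (op U)) :
    puL h 0 M (HSMul.hSMul (α := fns (𝔛.Osh h.1) U) a z) =
      HSMul.hSMul (α := Γ(𝔛.X 0, 𝔛.lvU h.1 0 U)) (pr h 0 U a) (puL h 0 M z) :=
  ModPull.pu_smul (FSch.levelMor 𝔛 h.1 0) M (U := op U) _ _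

theorem puL_surjective (hl : lqP h M) (hk : KilledJ h 1 M) (U : (𝔛.X 0).Opens) :
    Function.Surjective (fun z : M.val.obj (op U) => puL h 0 M z) := by
  let η := (FSch.levelMor 𝔛 h.1 0).adj.unit.app M
  have hη : ∀ {V : (𝔛.X 0).Opens} (z : M.val.obj (op V)), mp η V z = puL h 0 M z := fun z => rfl
  haveI : Mono η := by
    haveI : Mono ((SheafOfModules.forget _).map η) := PresheafOfModules.mono_of_injective fun {V} z z' e => by
      refine sub_eq_zero.1 (injective_puL_unit h hl hk _ ?_)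
      change mp η V.unop (z - z') = 0
      rw [map_sub, sub_eq_zero]
      exact e
    exact (SheafOfModules.forget _).mono_of_mono_map ‹_›
  haveI : Epi η := by
    refine Preadditive.epi_of_cancel_zero _ fun q hq => eq_zero_of_fx q fun x z => ?_
    obtain ⟨V₀, hx₀, w₀, rfl⟩ := RngSp.exists_gm z
    obtain ⟨V, hV, hxV, hVV⟩ := exists_affine (W := V₀) hx₀
    obtain ⟨ι, t, N, hm⟩ := hl V hV
    haveI := h.2.2 0
    obtain ⟨v, hv⟩ := (isModel_lvP h 0 hm).exists_cmb (schGood (𝔛.X 0)) (affine_lvU h hV 0)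
      (res ((FSch.levelMor 𝔛 h.1 0).push.obj (lvP h 0 M)) hVV w₀)
    obtain ⟨v', rfl⟩ : ∃ v' : ι →₀ Ox h V, pv (pr h 0 V) v' = v := by
      obtain ⟨v', hv'⟩ := Finsupp.mapRange_surjective (pr h 0 V) (map_zero _) (pr_surjective h hV 0) v
      exact ⟨v', hv'⟩
    have hw : mp η V (cmb t v') = res _ hVV w₀ := (puSec_cmb (𝔛.gInv h.1 0) (𝔛.OshProj h.1 0) M t v').trans hv
    rw [← RngSp.gm_res hVV hxV, ← hw, ← fx_gm, fx_comp, hq, fx_zero]
  haveI := isIso_of_mono_of_epi η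
  intro w
  refine ⟨mp (inv η) U w, ?_⟩
  change mp η U (mp (inv η) U w) = w
  exact congrArg (fun q => mp q U w) (IsIso.inv_hom_id η)

section Push

variable {𝔜 : FSch.Sys.{u}} (hY : 𝔜.IsLocNoethFormal) (f : 𝔛 ⟶ 𝔜)

/-- The sections of the direct image over the affine opens are finitely generated. -/
def FinSec (M : FSch.ModF 𝔛 h.1) : Prop :=
  ∀ U : (𝔜.X 0).Opens, IsAffineOpen U →
    Module.Finite (fns (𝔜.Osh hY.1) U) (((FSch.pushF f h.1 hY.1).obj M).val.obj (op U))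

theorem finSec_of_killed [IsProper (fl f 0)] (hl : lqP h M) (hFP : IsFP (O := 𝔛.Osh h.1) M)
    (hk : KilledJ h 1 M) : FinSec h hY f M := by
  intro U hU
  haveI := hY.2.2 0
  have hF : Coh.IsCoh (X := 𝔛.X 0) (lvP h 0 M) := isCoh_pullSys h M hFP 0
  have hP := ExistEasy.isCoh_pushforward_proper (fl f 0) hF
  haveI := QCoh.finite_sections hP (affine_lvU hY hU 0)
  obtain ⟨n, s, hs⟩ := Module.Finite.exists_fin (R := Γ(𝔜.X 0, 𝔜.lvU hY.1 0 U))
    (M := Γ((Scheme.Modules.pushforward (fl f 0)).obj (lvP h 0 M), 𝔜.lvU hY.1 0 U))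
  let e : fl f 0 ⁻¹ᵁ 𝔜.lvU hY.1 0 U = 𝔛.lvU h.1 0 (fU f U) := FSch.Hom.lvU_preimage f h.1 hY.1 0 U
  let P₀ := (Scheme.Modules.pushforward (fl f 0)).obj (lvP h 0 M)
  let ψ : Γ(P₀, 𝔜.lvU hY.1 0 U) →+ Γ(lvP h 0 M, 𝔛.lvU h.1 0 (fU f U)) :=
    ((lvP h 0 M).presheaf.map (homOfLE e.ge).op).hom
  have hψ : Function.Surjective ψ := surjective_map_of_eq _ e
  have hex : ∀ i, ∃ z : ((FSch.pushF f h.1 hY.1).obj M).val.obj (op U),
      puL h 0 M (toSec h hY f z) = ψ (s i) := fun i => puL_surjective h hl hk (fU f U) (ψ (s i))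
  choose z hz using hex
  refine ⟨Submodule.fg_iff_exists_fin_generating_family.2 ⟨n, z, top_unique fun w _ => ?_⟩⟩
  obtain ⟨q, hq⟩ : ∃ q : Γ(P₀, 𝔜.lvU hY.1 0 U), ψ q = puL h 0 M (toSec h hY f w) := hψ _
  have hq' : q ∈ Submodule.span Γ(𝔜.X 0, 𝔜.lvU hY.1 0 U) (Set.range s) := hs ▸ Submodule.mem_top
  obtain ⟨c, hc⟩ := (Submodule.mem_span_range_iff_exists_fun _).1 hq'
  choose a ha using fun i => pr_surjective hY hU 0 (c i)
  refine (Submodule.mem_span_range_iff_exists_fun _).2 ⟨fun i => a i, ?_⟩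
  suffices h0 : toSec h hY f (∑ i, HSMul.hSMul (α := fns (𝔜.Osh hY.1) U) (a i) (z i)) - toSec h hY f w = 0 from
    sub_eq_zero.1 h0
  refine injective_puL_unit h hl hk _ ?_
  let η := (FSch.levelMor 𝔛 h.1 0).adj.unit.app M
  change mp η (fU f U) _ = 0
  rw [map_sub, sub_eq_zero]
  refine Eq.trans ?_ hq
  change mp η (fU f U) (∑ i, toSec h hY f (HSMul.hSMul (α := fns (𝔜.Osh hY.1) U) (a i) (z i))) = _
  rw [map_sum, ← hc, map_sum]
  refine Finset.sum_congr rfl fun i _ => ?_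
  refine (puL_smul h (shF h hY f U (a i)) (toSec h hY f (z i))).trans ?_
  rw [hz i, pr_shF, ha i]
  exact ((lvP h 0 M).map_smul (homOfLE e.ge) _ _).symm

theorem finSec_of_exact {A B C : FSch.ModF 𝔛 h.1} (i : A ⟶ B) (p : B ⟶ C) [Mono i] (w : i ≫ p = 0)
    (hex : (ShortComplex.mk i p w).Exact) (hA : FinSec h hY f A) (hC : FinSec h hY f C) :
    FinSec h hY f B := by
  intro U hU
  haveI := hA U hU
  haveI := hC U hU
  haveI : IsNoetherianRing (fns (𝔜.Osh hY.1) U) := isNoetherianRing_Ox hY hU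
  let P := FSch.pushF f h.1 hY.1
  let i' := (((P.map i)).val.app (op U)).hom
  let p' := (((P.map p)).val.app (op U)).hom
  refine ⟨Submodule.fg_of_fg_map_of_fg_inf_ker p' (IsNoetherian.noetherian _) ?_⟩
  rw [top_inf_eq]
  have : LinearMap.ker p' = Submodule.map i' ⊤ := by
    refine le_antisymm (fun z hz => ?_) ?_
    · have hz' : mp p (fU f U) (toSec h hY f z) = 0 := hz
      obtain ⟨b, hb⟩ := exists_mp_kernel_eq p _ hz'
      haveI := hex.epi_kernelLift
      haveI : Mono (kernel.lift p i w) := mono_of_mono_fac (kernel.lift_ι p i w)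
      haveI := isIso_of_mono_of_epi (kernel.lift p i w)
      refine ⟨mp (inv (kernel.lift p i w)) (fU f U) b, trivial, ?_⟩
      change mp i (fU f U) _ = toSec h hY f z
      rw [← hb]
      refine congrArg (fun q => mp q (fU f U) b) (?_ : inv (kernel.lift p i w) ≫ i = kernel.ι p)
      rw [IsIso.inv_comp_eq, kernel.lift_ι]
    · rintro _ ⟨a, -, rfl⟩
      change mp p (fU f U) (mp i (fU f U) (toSec h hY f a)) = 0
      exact congrArg (fun q => mp q (fU f U) (toSec h hY f a)) w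
  rw [this]
  exact Submodule.FG.map _ (Module.Finite.fg_top)

theorem finSec_of_killedJ [IsProper (fl f 0)] : ∀ (k : ℕ) (M : FSch.ModF 𝔛 h.1), FTors.IsTorsF 𝔛 h.1 M →
    lqP h M → IsFP (O := 𝔛.Osh h.1) M → KilledJ h k M → FinSec h hY f M := by
  intro k
  induction k with
  | zero =>
    intro M hT hl hFP hk
    exact finSec_of_killed h hY f hl hFP fun W hW x hx z => (hk W hW x hx z).mono (Nat.zero_le 1)
  | succ k ih =>
    intro M hT hl hFP hk
    have hA : IsFP (O := 𝔛.Osh h.1) (sub (jS h M)) := isFP_jS h hl hFP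
    have hAT : FTors.IsTorsF 𝔛 h.1 (sub (jS h M)) := isTorsF_of_mono h (subι (jS h M)) hT
    have hAl : lqP h (sub (jS h M)) := ((isQCT_iff h _).1 ⟨hAT, isQC_of_isFP hA⟩).2
    have hC : IsFP (O := 𝔛.Osh h.1) (cokernel (subι (jS h M))) := isFP_cokernel (good h) hA hFP _
    exact finSec_of_exact h hY f (subι (jS h M)) (cokernel.π (subι (jS h M))) (cokernel.condition _)
      (ShortComplex.exact_cokernel _) (ih _ hAT hAl hA (killedJ_jS h hk))
      (finSec_of_killed h hY f (lqP_cokernel h _ hAl hl) hC (killedJ_cokernel h))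

theorem isFP_push [CompactSpace (𝔛.X 0)] [IsProper (fl f 0)] (hM : FTors.IsQCT 𝔛 h.1 M)
    (hFP : IsFP (O := 𝔛.Osh h.1) M) : IsFP (O := 𝔜.Osh hY.1) ((FSch.pushF f h.1 hY.1).obj M) := by
  obtain ⟨k, hk⟩ := exists_killedJ h hM.1 hFP
  have hfin := finSec_of_killedJ h hY f k M hM.1 ((isQCT_iff h M).1 hM).2 hFP hk
  have hN := isQCT_push h hY f hM
  refine isFP_of_isQC_of_isFT (good hY) hN.2 (RngSp.isFiniteType_iff.2 fun y => ?_)
  obtain ⟨U, hU, hy, -⟩ := exists_affine (W := (⊤ : (𝔜.X 0).Opens)) (x := y) trivial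
  obtain ⟨ι, t, N, hm⟩ := ((isQCT_iff hY _).1 hN).2 U hU
  haveI := hfin U hU
  obtain ⟨n, s, hs⟩ := Module.Finite.exists_fin (R := fns (𝔜.Osh hY.1) U)
    (M := ((FSch.pushF f h.1 hY.1).obj M).val.obj (op U))
  refine ⟨U, ULift.{u} (Fin n), inferInstance, fun i => s i.down, hy, fun V hV z x hx => ?_⟩
  obtain ⟨W, hW, hxW, hle⟩ := hm.genOn V hV z x hx
  refine ⟨W, hW, hxW, Submodule.span_le.2 ?_ hle⟩
  rintro _ ⟨i, rfl⟩
  have hi : t i ∈ Submodule.span (fns (𝔜.Osh hY.1) U) (Set.range s) := hs ▸ Submodule.mem_top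
  obtain ⟨c, hc⟩ := (Submodule.mem_span_range_iff_exists_fun _).1 hi
  simp only [← hc]
  rw [show res ((FSch.pushF f h.1 hY.1).obj M) (hW.trans hV) (∑ j, c j • s j) =
      ∑ j, rO hY (hW.trans hV) (c j) • res ((FSch.pushF f h.1 hY.1).obj M) (hW.trans hV) (s j) from
    eq_of_gm fun p hp => by
      rw [RngSp.gm_res, RngSp.gm_sum, RngSp.gm_sum]
      exact Finset.sum_congr rfl fun j _ => by rw [gm_smul' hY, gm_smul' hY, RngSp.gm_res, gH_rO]]
  exact Submodule.sum_mem _ fun j _ => Submodule.smul_mem _ _ (Submodule.subset_span ⟨ULift.up j, rfl⟩)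

end Push

end Groth.Agent.FTorsL
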