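import Groth.Agent.FTorsL.Colim
import Groth.Agent.H9FCoh.FinPush
import Groth.Agent.H9FCoh.PushCoprod

/-!
# Direct images of quasi-coherent torsion modules
-/

set_option autoImplicit false
set_option backward.isDefEq.respectTransparency false
set_option backward.isDefEq.respectTransparency.types false
set_option linter.style.haveILetI false

universe u

open CategoryTheory CategoryTheory.Limits AlgebraicGeometry TopologicalSpace Opposite
open Groth.Agent.H9FCoh Groth.Agent.ClosedRinged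
open Groth.Agent.RngSp (pt gm mp fns)

noncomputable section

namespace Groth.Agent.FTorsL

section Criterion

variable {𝔛 : FSch.Sys.{u}} (h : 𝔛.IsLocNoethFormal) {M : FSch.ModF 𝔛 h.1}
  (hT : FTors.IsTorsF 𝔛 h.1 M)
  (hK : ∀ (W : (𝔛.X 0).Opens), IsAffineOpen W → ∀ (g : Ox h W) (z : M.val.obj (op W)),
    (∀ x (hx : x ∈ W), IsUnit (gH (𝔛.Osh h.1) hx g) → gm M hx z = 0) →
    ∃ m, ∀ x (hx : x ∈ W), gH (𝔛.Osh h.1) hx g ^ m • gm M hx z = 0)
  (hE : ∀ (W : (𝔛.X 0).Opens), IsAffineOpen W → ∀ (g : Ox h W) (D : (𝔛.X 0).Opens) (hDW : D ≤ W),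
    (∀ x (hx : x ∈ W), IsUnit (gH (𝔛.Osh h.1) hx g) → x ∈ D) → ∀ s : M.val.obj (op D),
    ∃ (m : ℕ) (z : M.val.obj (op W)), ∀ x (hx : x ∈ D),
      gm M (hDW hx) z = gH (𝔛.Osh h.1) (hDW hx) g ^ m • gm M hx s)

include hT hK hE in
/-- A torsion module with sections over affines extending and killed like quasi-coherent ones has models. -/
theorem lqP_of_extKills : lqP h M := by
  intro V hV
  classical
  let T : M.val.obj (op V) → M.val.obj (op V) := fun z => z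
  refine ⟨_, T, LinearMap.ker (Finsupp.linearCombination (Ox h V) T), fun x hx z => ?_, fun x hx w => ⟨fun hw => ?_, fun hw => ?_⟩⟩
  · obtain ⟨V₀, hxV₀, s, rfl⟩ := RngSp.exists_gm z
    obtain ⟨g, hg, hgV⟩ := exists_unit_nbhd h hV (W' := V₀) hx hxV₀
    obtain ⟨D, hDV, hD⟩ := exists_unitOpen h g
    have hDV₀ : D ≤ V₀ := fun y hy => hgV y (hDV hy) ((hD y (hDV hy)).1 hy)
    have hxD : x ∈ D := (hD x hx).2 hg
    obtain ⟨m, z', hz'⟩ := hE V hV g D hDV (fun y hy => (hD y hy).2) (res M hDV₀ s)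
    obtain ⟨c, hc⟩ := hg.pow m
    refine ⟨Finsupp.single z' (↑c⁻¹ : St (𝔛.Osh h.1) x), ?_⟩
    rw [show gcmb (fun i => gm M hx (T i)) (Finsupp.single z' (↑c⁻¹ : St (𝔛.Osh h.1) x)) = (↑c⁻¹ : St (𝔛.Osh h.1) x) • gm M hx z'
      from Finsupp.linearCombination_single _ _ _, hz' x hxD, ← hc, smul_smul, Units.inv_mul, one_smul, RngSp.gm_res]
  · choose kt hkt using fun i : w.support => exists_uniform h hT hV le_rfl (T i)
    obtain ⟨k, hk⟩ := exists_bound kt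
    obtain ⟨a, b, ha, hb, e, he0, hemem, hsum, heq⟩ := exists_frac_vec h hV hx T k w
      fun i hi => (hkt ⟨i, hi⟩ x hx).mono (hk _)
    rw [hw, smul_zero] at heq
    obtain ⟨V₀, hV₀, hxV₀, hb0⟩ := (RngSp.gm_eq_iff hx (cmb T b) 0).1 (by rw [← heq, RngSp.gm_zero])
    obtain ⟨g, hg, hgV⟩ := exists_unit_nbhd h hV (W' := V₀) hx hxV₀
    obtain ⟨m, hm⟩ := hK V hV g (cmb T b) fun y hy hu => by
      rw [← RngSp.gm_res hV₀ (hgV y hy hu), hb0, RngSp.gm_res, RngSp.gm_zero]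
    have hmem : g ^ m • b ∈ LinearMap.ker (Finsupp.linearCombination (Ox h V) T) := by
      rw [LinearMap.mem_ker]
      refine eq_of_gm fun y hy => ?_
      change gm M hy (cmb T (g ^ m • b)) = _
      rw [gm_cmb, pv_smul, map_smul, ← gm_cmb, map_pow, hm y hy, RngSp.gm_zero]
    rw [← Submodule.smul_mem_iff_of_isUnit _ ha, hsum]
    refine add_mem ?_ ?_
    · rw [← Submodule.smul_mem_iff_of_isUnit _ (hg.pow m), ← map_pow, ← pv_smul]
      exact pv_mem_pN _ hmem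
    · rw [← e.sum_single]
      refine Submodule.sum_mem _ fun i hi => ?_
      have hi' : i ∈ w.support := by_contra fun h' => (Finsupp.mem_support_iff.1 hi) (he0 i h')
      have key : ∀ r ∈ (J h V ^ k).map (gH (𝔛.Osh h.1) hx),
          Finsupp.single i r ∈ pN (gH (𝔛.Osh h.1) hx) (LinearMap.ker (Finsupp.linearCombination (Ox h V) T)) := by
        intro r hr
        induction hr using Submodule.span_induction with
        | mem r hr =>
          obtain ⟨c, hc, rfl⟩ := hr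
          have hmem' : Finsupp.single i c ∈ LinearMap.ker (Finsupp.linearCombination (Ox h V) T) := by
            rw [LinearMap.mem_ker, Finsupp.linearCombination_single]
            refine eq_of_gm fun y hy => ?_
            rw [RngSp.gm_zero]
            exact (gm_smul' h hy c _).trans ((hkt ⟨i, hi'⟩ y hy).mono (hk _) c hc)
          have h5 := pv_mem_pN (gH (𝔛.Osh h.1) hx) hmem'
          rwa [pv, Finsupp.mapRange_single] at h5
        | zero => rw [Finsupp.single_zero]; exact zero_mem _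
        | add r s _ _ ir is => rw [Finsupp.single_add]; exact add_mem ir is
        | smul c r _ ir => rw [← Finsupp.smul_single]; exact Submodule.smul_mem _ _ ir
      exact key _ (hemem i)
  · refine LinearMap.mem_ker.1 ((Submodule.span_le.2 ?_ : pN (gH (𝔛.Osh h.1) hx) (LinearMap.ker (Finsupp.linearCombination (Ox h V) T)) ≤
      LinearMap.ker (gcmb fun i => gm M hx (T i))) hw)
    rintro _ ⟨n, hn, rfl⟩
    rw [SetLike.mem_coe, LinearMap.mem_ker, ← gm_cmb]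
    exact (congrArg (gm M hx) (LinearMap.mem_ker.1 hn)).trans (RngSp.gm_zero hx)

end Criterion

section Push

variable {𝔛 𝔜 : FSch.Sys.{u}} (hX : 𝔛.IsLocNoethFormal) (hY : 𝔜.IsLocNoethFormal) (f : 𝔛 ⟶ 𝔜)
  {M : FSch.ModF 𝔛 hX.1}

/-- A section of a direct image as a section of the module. -/
abbrev toSec {U : (𝔜.X 0).Opens} (z : ((FSch.pushF f hX.1 hY.1).obj M).val.obj (op U)) :
    M.val.obj (op (fU f U)) := z

theorem toSec_smul {U : (𝔜.X 0).Opens} (a : Ox hY U) (z : ((FSch.pushF f hX.1 hY.1).obj M).val.obj (op U)) :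
    toSec hX hY f (HSMul.hSMul (α := fns (𝔜.Osh hY.1) U) a z) =
      HSMul.hSMul (α := fns (𝔛.Osh hX.1) (fU f U)) (shF hX hY f U a) (toSec hX hY f z) :=
  rfl

theorem toSec_res {U V : (𝔜.X 0).Opens} (hVU : V ≤ U) (z : ((FSch.pushF f hX.1 hY.1).obj M).val.obj (op U)) :
    toSec hX hY f (res _ hVU z) = res M (fun _ hx => hVU hx : fU f V ≤ fU f U) (toSec hX hY f z) :=
  rfl

theorem shF_rO {U V : (𝔜.X 0).Opens} (hVU : V ≤ U) (a : Ox hY U) :
    shF hX hY f V (rO hY hVU a) = rO hX (fun _ hx => hVU hx : fU f V ≤ fU f U) (shF hX hY f U a) :=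
  (shH_rr _ _ hVU a).symm

theorem isUnit_shF_iff {U : (𝔜.X 0).Opens} (g : Ox hY U) {x : 𝔛.X 0} (hx : x ∈ fU f U) :
    IsUnit (gH (𝔛.Osh hX.1) hx (shF hX hY f U g)) ↔ IsUnit (gH (𝔜.Osh hY.1) (x := fl f 0 x) hx g) := by
  rw [isUnit_gH_iff hX 0, isUnit_gH_iff hY 0, pr_shF]
  change 𝔛.toX 0 x ∈ (𝔛.X 0).basicOpen (((fl f 0).appLE _ _ _).hom _) ↔ _
  rw [Scheme.basicOpen_appLE]
  exact ⟨fun h => h.2, fun h => ⟨(toX_mem_lvU hX 0).2 hx, h⟩⟩

theorem mem_J_shF {U : (𝔜.X 0).Opens} {V : (𝔛.X 0).Opens} (hVU : V ≤ fU f U)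
    {a : Ox hY U} (ha : a ∈ J hY U) : rO hX hVU (shF hX hY f U a) ∈ J hX V := by
  have h1 : pr hX 0 (fU f U) (shF hX hY f U a) = 0 := by
    rw [pr_shF, (show pr hY 0 U a = 0 from ha), map_zero]
  change pr hX 0 V (rO hX hVU (shF hX hY f U a)) = 0
  rw [← rn_pr hX 0 hVU, h1, map_zero]

variable [CompactSpace (𝔛.X 0)]

include hX in
theorem exists_affine_cover (U : (𝔛.X 0).Opens) :
    ∃ (κ : Type u) (_ : Finite κ) (V : κ → (𝔛.X 0).Opens), (∀ a, V a ≤ U) ∧ (∀ x ∈ U, ∃ a, x ∈ V a) ∧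
      ∀ a, IsAffineOpen (V a) := by
  haveI := noetherianSpace_X0 hX
  refine exists_cover (NoetherianSpace.isCompact _) IsAffineOpen fun x hx => ?_
  obtain ⟨V, hV, hxV, hVU⟩ := exists_affine (W := U) hx
  exact ⟨V, hVU, hxV, hV⟩

theorem exists_uniform_push (hT : FTors.IsTorsF 𝔛 hX.1 M) {U : (𝔜.X 0).Opens}
    (z : ((FSch.pushF f hX.1 hY.1).obj M).val.obj (op U)) :
    ∃ k, ∀ a ∈ J hY U ^ k, HSMul.hSMul (α := fns (𝔜.Osh hY.1) U) a z = 0 := by
  obtain ⟨κ, hκ, V, hVU, hcov, hVa⟩ := exists_affine_cover hX (fU f U)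
  choose k hk using fun a => exists_uniform hX hT (hVa a) le_rfl (res M (hVU a) (toSec hX hY f z))
  obtain ⟨N, hN⟩ := exists_bound k
  refine ⟨N, fun b hb => ?_⟩
  suffices h0 : toSec hX hY f (HSMul.hSMul (α := fns (𝔜.Osh hY.1) U) b z) = 0 from h0
  refine eq_of_gm fun x hx => ?_
  obtain ⟨a, ha⟩ := hcov x hx
  have hbJ : rO hX (hVU a) (shF hX hY f U b) ∈ J hX (V a) ^ N := by
    have h1 : (J hY U).map ((rO hX (hVU a)).comp (shF hX hY f U)) ≤ J hX (V a) :=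
      Ideal.map_le_iff_le_comap.2 fun c hc => mem_J_shF hX hY f (hVU a) hc
    refine Ideal.pow_right_mono h1 N ?_
    rw [← Ideal.map_pow]
    exact Ideal.mem_map_of_mem ((rO hX (hVU a)).comp (shF hX hY f U)) hb
  have h2 := (hk a x ha).mono (hN a) _ hbJ
  rw [gH_rO, RngSp.gm_res] at h2
  rw [toSec_smul, gm_smul' hX, RngSp.gm_zero]
  exact h2

theorem isTorsF_push (hT : FTors.IsTorsF 𝔛 hX.1 M) :
    FTors.IsTorsF 𝔜 hY.1 ((FSch.pushF f hX.1 hY.1).obj M) := by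
  refine isTorsF_of_torsAt hY fun y w => ?_
  obtain ⟨U₀, hy₀, z₀, rfl⟩ := RngSp.exists_gm w
  obtain ⟨U, hU, hy, hUU⟩ := exists_affine (W := U₀) hy₀
  obtain ⟨k, hk⟩ := exists_uniform_push hX hY f hT (res _ hUU z₀)
  refine ⟨U, hU, hy, k, fun a ha => ?_⟩
  rw [← RngSp.gm_res hUU hy, ← gm_smul' hY hy, hk a ha, RngSp.gm_zero]

variable (hM : FTors.IsQCT 𝔛 hX.1 M)

include hM in
theorem exists_pow_kills_push {U : (𝔜.X 0).Opens} (g : Ox hY U)
    (z : ((FSch.pushF f hX.1 hY.1).obj M).val.obj (op U))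
    (hz : ∀ y (hy : y ∈ U), IsUnit (gH (𝔜.Osh hY.1) hy g) → gm _ hy z = 0) :
    ∃ m, ∀ y (hy : y ∈ U), gH (𝔜.Osh hY.1) hy g ^ m • gm _ hy z = 0 := by
  obtain ⟨κ, hκ, V, hVU, hcov, hVa⟩ := exists_affine_cover hX (fU f U)
  have hvan : ∀ x (hx : x ∈ fU f U), IsUnit (gH (𝔛.Osh hX.1) hx (shF hX hY f U g)) →
      gm M hx (toSec hX hY f z) = 0 := fun x hx hu => by
    have h0 := hz (fl f 0 x) hx ((isUnit_shF_iff hX hY f g hx).1 hu)
    rw [← RngSp.gm_zero (M := (FSch.pushF f hX.1 hY.1).obj M) (x := fl f 0 x) hx] at h0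
    obtain ⟨W, hW, hxW, he⟩ := (RngSp.gm_eq_iff _ _ _).1 h0
    rw [res_zero] at he
    have h1 := congrArg (gm M (show x ∈ fU f W from hxW)) (show toSec hX hY f (res _ hW z) = 0 from he)
    rwa [toSec_res, RngSp.gm_res, RngSp.gm_zero] at h1
  choose m hm using fun a => exists_pow_kills hX hM.1 hM.2 (hVa a) le_rfl (rO hX (hVU a) (shF hX hY f U g))
    (res M (hVU a) (toSec hX hY f z)) fun x hx hu => by
      rw [gH_rO] at hu
      rw [RngSp.gm_res]
      exact hvan x (hVU a hx) hu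
  obtain ⟨N, hN⟩ := exists_bound m
  refine ⟨N, fun y hy => ?_⟩
  have h0 : HSMul.hSMul (α := fns (𝔜.Osh hY.1) U) (g ^ N) z = 0 := by
    suffices h0 : toSec hX hY f (HSMul.hSMul (α := fns (𝔜.Osh hY.1) U) (g ^ N) z) = 0 from h0
    refine eq_of_gm fun x hx => ?_
    obtain ⟨a, ha⟩ := hcov x hx
    have h2 := hm a x ha
    rw [gH_rO, RngSp.gm_res] at h2
    rw [toSec_smul, gm_smul' hX, RngSp.gm_zero, map_pow, map_pow, ← Nat.sub_add_cancel (hN a), pow_add, mul_smul,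
      h2, smul_zero]
  rw [← map_pow, ← gm_smul' hY hy, h0, RngSp.gm_zero]

include hM in
theorem exists_extend_push {U : (𝔜.X 0).Opens} (g : Ox hY U) {D : (𝔜.X 0).Opens} (hDU : D ≤ U)
    (hD : ∀ y (hy : y ∈ U), IsUnit (gH (𝔜.Osh hY.1) hy g) → y ∈ D)
    (s : ((FSch.pushF f hX.1 hY.1).obj M).val.obj (op D)) :
    ∃ (m : ℕ) (z : ((FSch.pushF f hX.1 hY.1).obj M).val.obj (op U)), ∀ y (hy : y ∈ D),
      gm _ (hDU hy) z = gH (𝔜.Osh hY.1) (hDU hy) g ^ m • gm _ hy s := by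
  obtain ⟨κ, hκ, V, hVU, hcov, hVa⟩ := exists_affine_cover hX (fU f U)
  let G := shF hX hY f U g
  have hDx : ∀ x (hx : x ∈ fU f U), IsUnit (gH (𝔛.Osh hX.1) hx G) → x ∈ fU f D := fun x hx hu =>
    hD _ hx ((isUnit_shF_iff hX hY f g hx).1 hu)
  choose m z hz using fun a => exists_extend hX hM.1 hM.2 (hVa a) (rO hX (hVU a) G) (D := fU f D ⊓ V a)
    inf_le_right (fun x hx hu => ⟨hDx x (hVU a hx) (by rwa [gH_rO] at hu), hx⟩)
    (res M inf_le_left (toSec hX hY f s))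
  obtain ⟨N, hN⟩ := exists_bound m
  obtain ⟨z₁, hz₁⟩ : ∃ z₁ : ∀ a, M.val.obj (op (V a)), ∀ a x (hx : x ∈ V a) (hxD : x ∈ fU f D),
      gm M hx (z₁ a) = gH (𝔛.Osh hX.1) (hVU a hx) G ^ N • gm M hxD (toSec hX hY f s) :=
    ⟨fun a => HSMul.hSMul (α := fns (𝔛.Osh hX.1) (V a)) (rO hX (hVU a) G ^ (N - m a)) (z a), fun a x hx hxD => by
      have h1 := hz a x ⟨hxD, hx⟩
      rw [gH_rO, RngSp.gm_res] at h1
      rw [gm_smul' hX, map_pow, gH_rO, h1, smul_smul, ← pow_add, Nat.sub_add_cancel (hN a)]⟩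
  have hov : ∀ p : κ × κ, ∃ n, ∀ x (hx : x ∈ V p.1 ⊓ V p.2),
      gH (𝔛.Osh hX.1) (hVU p.1 hx.1) G ^ n • (gm M hx.1 (z₁ p.1) - gm M hx.2 (z₁ p.2)) = 0 := fun p => by
    obtain ⟨n, hn⟩ := exists_pow_kills hX hM.1 hM.2 (hVa p.1) (Q := V p.1 ⊓ V p.2) inf_le_left
      (rO hX (hVU p.1) G) (res M inf_le_left (z₁ p.1) - res M inf_le_right (z₁ p.2)) fun x hx hu => by
        rw [gH_rO] at hu
        have hxD := hDx x _ hu
        rw [gm_sub, RngSp.gm_res, RngSp.gm_res, hz₁ _ x _ hxD, hz₁ _ x _ hxD, sub_self]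
    refine ⟨n, fun x hx => ?_⟩
    have := hn x hx
    rwa [gH_rO, gm_sub, RngSp.gm_res, RngSp.gm_res] at this
  choose n hn using hov
  obtain ⟨K, hK⟩ := exists_bound n
  obtain ⟨Z, hZ⟩ := ClosedRinged.exists_glue M V hVU hcov
    (fun a => HSMul.hSMul (α := fns (𝔛.Osh hX.1) (V a)) (rO hX (hVU a) G ^ K) (z₁ a)) fun a b => eq_of_gm fun x hx => by
      rw [RngSp.gm_res, RngSp.gm_res, gm_smul' hX, gm_smul' hX, map_pow, map_pow, gH_rO, gH_rO, ← sub_eq_zero,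
        ← smul_sub, ← Nat.sub_add_cancel (hK (a, b)), pow_add, mul_smul, hn (a, b) x hx, smul_zero]
  refine ⟨K + N, Z, fun y hy => ?_⟩
  have key : res ((FSch.pushF f hX.1 hY.1).obj M) hDU Z =
      HSMul.hSMul (α := fns (𝔜.Osh hY.1) D) (rO hY hDU g ^ (K + N)) s := by
    suffices h0 : toSec hX hY f (res ((FSch.pushF f hX.1 hY.1).obj M) hDU Z) =
        toSec hX hY f (HSMul.hSMul (α := fns (𝔜.Osh hY.1) D) (rO hY hDU g ^ (K + N)) s) from h0
    refine eq_of_gm fun x hx => ?_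
    obtain ⟨a, ha⟩ := hcov x (hDU hx)
    rw [toSec_res, RngSp.gm_res, toSec_smul, gm_smul' hX, map_pow, map_pow, shF_rO, gH_rO]
    refine (RngSp.gm_res (hVU a) ha Z).symm.trans ?_
    rw [hZ a, gm_smul' hX, map_pow, gH_rO, hz₁ a x ha hx, smul_smul, ← pow_add]
  have h1 := congrArg (gm ((FSch.pushF f hX.1 hY.1).obj M) hy) key
  rw [RngSp.gm_res, gm_smul' hY, map_pow, gH_rO] at h1
  exact h1

include hM in
/-- The direct image of a quasi-coherent torsion module is one. -/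
theorem isQCT_push : FTors.IsQCT 𝔜 hY.1 ((FSch.pushF f hX.1 hY.1).obj M) :=
  (isQCT_iff hY _).2 ⟨isTorsF_push hX hY f hM.1, lqP_of_extKills hY (isTorsF_push hX hY f hM.1)
    (fun _ _ g z hz => exists_pow_kills_push hX hY f hM g z hz)
    (fun _ _ g _ hDU hD s => exists_extend_push hX hY f hM g hDU hD s)⟩

end Push

end Groth.Agent.FTorsL
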