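import Groth.Agent.FTorsL.Tors

/-!
# Quasi-coherent torsion modules have models on every affine open
-/

set_option autoImplicit false
set_option backward.isDefEq.respectTransparency false
set_option backward.isDefEq.respectTransparency.types false
set_option linter.style.haveILetI false

universe u

open CategoryTheory CategoryTheory.Limits AlgebraicGeometry TopologicalSpace Opposite
open Groth.Agent.H9FCoh Groth.Agent.ClosedRinged
open Groth.Agent.RngSp (pt gm mp fns)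

noncomputable section

namespace Groth.Agent.FTorsL

variable {𝔛 : FSch.Sys.{u}} (h : 𝔛.IsLocNoethFormal) {M : FSch.ModF 𝔛 h.1}

include h in
theorem isCompact_of_le {W Q : (𝔛.X 0).Opens} (hW : IsAffineOpen W) (hQ : Q ≤ W) :
    IsCompact (Q : Set (𝔛.X 0)) := by
  haveI := h.2.2 0
  haveI := IsLocallyNoetherian.component_noetherian (⟨W, hW⟩ : (𝔛.X 0).affineOpens)
  exact (noetherianSpace_set_iff (W : Set (𝔛.X 0))).1 (noetherianSpace_of_isAffineOpen W hW) _ hQ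

theorem exists_cover {Q : (𝔛.X 0).Opens} (hQc : IsCompact (Q : Set (𝔛.X 0)))
    (P : (𝔛.X 0).Opens → Prop) (hP : ∀ x ∈ Q, ∃ V : (𝔛.X 0).Opens, V ≤ Q ∧ x ∈ V ∧ P V) :
    ∃ (κ : Type u) (_ : Finite κ) (W : κ → (𝔛.X 0).Opens), (∀ a, W a ≤ Q) ∧ (∀ x ∈ Q, ∃ a, x ∈ W a) ∧
      ∀ a, P (W a) := by
  choose V hV hxV hPV using hP
  obtain ⟨s, hs⟩ := hQc.elim_finite_subcover (fun x : Q => ((V x.1 x.2 : (𝔛.X 0).Opens) : Set (𝔛.X 0)))
    (fun x => (V x.1 x.2).2) fun x hx => Set.mem_iUnion.2 ⟨⟨x, hx⟩, hxV x hx⟩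
  refine ⟨s, inferInstance, fun a => V a.1.1 a.1.2, fun a => hV _ _, fun x hx => ?_, fun a => hPV _ _⟩
  obtain ⟨y, hy, hxy⟩ := Set.mem_iUnion₂.1 (hs hx)
  exact ⟨⟨y, hy⟩, hxy⟩

theorem exists_bound {κ : Type*} [Finite κ] (f : κ → ℕ) : ∃ N, ∀ a, f a ≤ N := by
  obtain ⟨N, hN⟩ := (Set.finite_range f).bddAbove
  exact ⟨N, fun a => hN ⟨a, rfl⟩⟩

variable (hT : FTors.IsTorsF 𝔛 h.1 M)

include hT in
/-- A section on a quasi-compact open is killed by a uniform power. -/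
theorem exists_uniform {W Q : (𝔛.X 0).Opens} (hW : IsAffineOpen W) (hQ : Q ≤ W) (s : M.val.obj (op Q)) :
    ∃ k, ∀ x (hx : x ∈ Q), KillsAt h (hQ hx) k (gm M hx s) := by
  obtain ⟨κ, hκ, V, hV, hcov, hP⟩ := exists_cover (isCompact_of_le h hW hQ)
    (fun V => IsAffineOpen V ∧ ∃ (hVQ : V ≤ Q) (k : ℕ), ∀ y (hy : y ∈ V), KillsAt h hy k (gm M (hVQ hy) s))
    fun x hx => by
      obtain ⟨V, hV, hVQ, k, hxV, hk⟩ := exists_nbhd_kills hx (torsAt_of_isTorsF h hT (gm M hx s))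
      exact ⟨V, hVQ, hxV, hV, hVQ, k, hk⟩
  choose hVa hVQ k hk using hP
  obtain ⟨N, hN⟩ := exists_bound k
  refine ⟨N, fun x hx => ?_⟩
  obtain ⟨a, ha⟩ := hcov x hx
  exact ((hk a x ha).mono (hN a)).change (hVa a) hW ha (hQ hx)

theorem exists_model_nbhd (hQC : IsQC M) {Q : (𝔛.X 0).Opens} {x : 𝔛.X 0} (hx : x ∈ Q) :
    ∃ V : (𝔛.X 0).Opens, V ≤ Q ∧ x ∈ V ∧ IsAffineOpen V ∧
      ∃ (ι : Type u) (t : ι → M.val.obj (op V)) (N : Submodule (Ox h V) (ι →₀ Ox h V)), IsModel M V t N := by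
  haveI := hQC
  obtain ⟨V, hP, hVQ, ι, t, N, hxV, hm⟩ := exists_isModel (M := M) (good h) hx
  exact ⟨V, hVQ, hxV, hP, ι, t, N, hm⟩

include hT in
/-- On an open with a model, a section vanishing where `g` is a unit is killed by a power of `g`. -/
theorem exists_pow_kills_model {V : (𝔛.X 0).Opens} (hV : IsAffineOpen V) {ι : Type u}
    {t : ι → M.val.obj (op V)} {N : Submodule (Ox h V) (ι →₀ Ox h V)} (hm : IsModel M V t N)
    (g : Ox h V) (z : M.val.obj (op V))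
    (hz : ∀ x (hx : x ∈ V), IsUnit (gH (𝔛.Osh h.1) hx g) → gm M hx z = 0) :
    ∃ m, ∀ x (hx : x ∈ V), gH (𝔛.Osh h.1) hx g ^ m • gm M hx z = 0 := by
  obtain ⟨k, hk⟩ := exists_uniform h hT hV le_rfl z
  obtain ⟨v, rfl⟩ := hm.exists_cmb (good h) hV z
  have hJ : J h V ^ k ≤ colon N v := fun a ha => by
    rw [mem_colon]
    refine (good h).mem_of_stalks hV fun x hx => (hm.rel x hx _).1 ?_
    rw [pv_smul, map_smul, ← gm_cmb]
    exact hk x hx a ha
  obtain ⟨m, hm'⟩ := exists_pow_mem h hV hJ g fun x hx hu =>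
    map_colon_eq_top _ ((good h).flat V hV x hx) ((hm.rel x hx _).1 (by rw [← gm_cmb]; exact hz x hx hu))
  refine ⟨m, fun x hx => ?_⟩
  have h1 : gcmb (fun i => gm M hx (t i)) (pv (gH (𝔛.Osh h.1) hx) (g ^ m • v)) = 0 :=
    (hm.rel x hx _).2 (pv_mem_pN _ hm')
  rwa [pv_smul, map_smul, ← gm_cmb, map_pow] at h1

variable (hQC : IsQC M)

include hT hQC in
/-- A section vanishing where `g` is a unit is killed by a power of `g`. -/
theorem exists_pow_kills {W Q : (𝔛.X 0).Opens} (hW : IsAffineOpen W) (hQ : Q ≤ W) (g : Ox h W)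
    (z : M.val.obj (op Q))
    (hz : ∀ x (hx : x ∈ Q), IsUnit (gH (𝔛.Osh h.1) (hQ hx) g) → gm M hx z = 0) :
    ∃ m, ∀ x (hx : x ∈ Q), gH (𝔛.Osh h.1) (hQ hx) g ^ m • gm M hx z = 0 := by
  obtain ⟨κ, hκ, V, hV, hcov, hP⟩ := exists_cover (isCompact_of_le h hW hQ)
    (fun V => ∃ (hVQ : V ≤ Q) (m : ℕ), ∀ y (hy : y ∈ V),
      gH (𝔛.Osh h.1) (hQ (hVQ hy)) g ^ m • gm M (hVQ hy) z = 0) fun x hx => by
      obtain ⟨V, hVQ, hxV, hV, ι, t, N, hm⟩ := exists_model_nbhd h hQC hx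
      obtain ⟨m, hm'⟩ := exists_pow_kills_model h hT hV hm (rO h (hVQ.trans hQ) g) (res M hVQ z)
        fun y hy hu => by
          rw [gH_rO] at hu
          rw [RngSp.gm_res]
          exact hz y (hVQ hy) hu
      refine ⟨V, hVQ, hxV, hVQ, m, fun y hy => ?_⟩
      have := hm' y hy
      rwa [gH_rO, RngSp.gm_res] at this
  choose hVQ m hm using hP
  obtain ⟨N, hN⟩ := exists_bound m
  refine ⟨N, fun x hx => ?_⟩
  obtain ⟨a, ha⟩ := hcov x hx
  rw [← Nat.sub_add_cancel (hN a), pow_add, mul_smul, hm a x ha, smul_zero]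

/-- Torsion germs as combinations with coefficients from an affine open. -/
theorem exists_frac_vec {W : (𝔛.X 0).Opens} (hW : IsAffineOpen W) {x : 𝔛.X 0} (hx : x ∈ W) {ι : Type u}
    (t : ι → M.val.obj (op W)) (k : ℕ) (w : ι →₀ St (𝔛.Osh h.1) x)
    (hk : ∀ i ∈ w.support, KillsAt h hx k (gm M hx (t i))) :
    ∃ (a : Ox h W) (b : ι →₀ Ox h W), IsUnit (gH (𝔛.Osh h.1) hx a) ∧
      (∀ i, i ∉ w.support → b i = 0) ∧
      ∃ e : ι →₀ St (𝔛.Osh h.1) x, (∀ i, i ∉ w.support → e i = 0) ∧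
        (∀ i, e i ∈ (J h W ^ k).map (gH (𝔛.Osh h.1) hx)) ∧
        gH (𝔛.Osh h.1) hx a • w = pv (gH (𝔛.Osh h.1) hx) b + e ∧
        gH (𝔛.Osh h.1) hx a • gcmb (fun i => gm M hx (t i)) w = gm M hx (cmb t b) := by
  classical
  choose a b hu he using fun i => exists_frac h k hW hx (w i)
  let A := ∏ i ∈ w.support, a i
  let B : ι →₀ Ox h W := Finsupp.onFinset w.support
    (fun i => if i ∈ w.support then (∏ j ∈ w.support.erase i, a j) * b i else 0)
    (fun i hi => by by_contra h'; exact hi (if_neg h'))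
  let e := gH (𝔛.Osh h.1) hx A • w - pv (gH (𝔛.Osh h.1) hx) B
  have hB : ∀ i, i ∉ w.support → B i = 0 := fun i hi => by
    simp only [B, Finsupp.onFinset_apply, if_neg hi]
  have he0 : ∀ i, i ∉ w.support → e i = 0 := fun i hi => by
    simp only [e, Finsupp.sub_apply, Finsupp.smul_apply, pv_apply, Finsupp.notMem_support_iff.1 hi, hB i hi,
      smul_zero, map_zero, sub_zero]
  have hemem : ∀ i, e i ∈ (J h W ^ k).map (gH (𝔛.Osh h.1) hx) := fun i => by
    by_cases hi : i ∈ w.support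
    · have e1 : B i = (∏ j ∈ w.support.erase i, a j) * b i := by
        simp only [B, Finsupp.onFinset_apply, if_pos hi]
      simp only [e, Finsupp.sub_apply, Finsupp.smul_apply, pv_apply, smul_eq_mul, e1,
        A, ← Finset.mul_prod_erase _ _ hi, map_mul]
      rw [mul_comm (gH (𝔛.Osh h.1) hx (a i)), mul_assoc, ← mul_sub]
      exact Ideal.mul_mem_left _ _ (Ideal.map_mono (Ideal.pow_le_pow_right k.le_succ) (he i))
    · rw [he0 i hi]; exact zero_mem _
  have hsum : gH (𝔛.Osh h.1) hx A • w = pv (gH (𝔛.Osh h.1) hx) B + e := by simp [e]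
  refine ⟨A, B, ?_, hB, e, he0, hemem, hsum, ?_⟩
  · rw [map_prod]; exact IsUnit.prod_iff.2 fun i _ => hu i
  · rw [← map_smul, hsum, map_add, ← gm_cmb, add_eq_left]
    rw [show gcmb (fun i => gm M hx (t i)) e = Finsupp.linearCombination _ (fun i => gm M hx (t i)) e from rfl,
      Finsupp.linearCombination_apply]
    refine Finset.sum_eq_zero fun i hi => ?_
    have hi' : i ∈ w.support := by_contra fun h' => (Finsupp.mem_support_iff.1 hi) (he0 i h')
    have key : ∀ r ∈ (J h W ^ k).map (gH (𝔛.Osh h.1) hx), r • gm M hx (t i) = 0 := by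
      intro r hr
      induction hr using Submodule.span_induction with
      | mem r hr =>
        obtain ⟨c, hc, rfl⟩ := hr
        exact hk i hi' c hc
      | zero => rw [zero_smul]
      | add r s _ _ ir is => rw [add_smul, ir, is, add_zero]
      | smul c r _ ir => rw [smul_eq_mul, mul_smul, ir, smul_zero]
    exact key _ (hemem i)

include hT hQC in
/-- Extension of a section from the locus where `g` is a unit, on an open with a model. -/
theorem exists_extend_model {W : (𝔛.X 0).Opens} (hW : IsAffineOpen W) {ι : Type u}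
    {t : ι → M.val.obj (op W)} {N : Submodule (Ox h W) (ι →₀ Ox h W)} (hm : IsModel M W t N)
    (g : Ox h W) {D : (𝔛.X 0).Opens} (hDW : D ≤ W)
    (hD : ∀ x (hx : x ∈ W), IsUnit (gH (𝔛.Osh h.1) hx g) → x ∈ D) (s : M.val.obj (op D)) :
    ∃ (m : ℕ) (z : M.val.obj (op W)), ∀ x (hx : x ∈ D),
      gm M (hDW hx) z = gH (𝔛.Osh h.1) (hDW hx) g ^ m • gm M hx s := by
  let 𝔞 : Ideal (Ox h W) :=
    { carrier := {a | ∃ z : M.val.obj (op W), ∀ x (hx : x ∈ D),
        gm M (hDW hx) z = gH (𝔛.Osh h.1) (hDW hx) a • gm M hx s}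
      add_mem' := fun {a b} ⟨z, hz⟩ ⟨z', hz'⟩ => ⟨z + z', fun x hx => by
        rw [RngSp.gm_add, hz, hz', map_add, add_smul]⟩
      zero_mem' := ⟨0, fun x hx => by rw [RngSp.gm_zero, map_zero, zero_smul]⟩
      smul_mem' := fun c a ⟨z, hz⟩ => ⟨HSMul.hSMul (α := fns (𝔛.Osh h.1) W) c z, fun x hx => by
        rw [gm_smul' h, hz, smul_eq_mul, map_mul, mul_smul]⟩ }
  obtain ⟨k, hk⟩ := exists_uniform h hT hW hDW s
  have hJ : J h W ^ k ≤ 𝔞 := fun a ha => ⟨0, fun x hx => by rw [RngSp.gm_zero, hk x hx a ha]⟩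
  obtain ⟨m, z, hz⟩ := exists_pow_mem h hW hJ g fun x hx hu => by
    have hxD := hD x hx hu
    obtain ⟨w, hw⟩ := hm.gen x hx (gm M hxD s)
    choose kt hkt using fun i : w.support => exists_uniform h hT hW le_rfl (t i)
    obtain ⟨kk, hkk⟩ := exists_bound kt
    obtain ⟨a, b, ha, -, e, -, -, -, heq⟩ := exists_frac_vec h hW hx t kk w
      fun i hi => (hkt ⟨i, hi⟩ x hx).mono (hkk _)
    rw [hw] at heq
    let z' : M.val.obj (op D) := HSMul.hSMul (α := fns (𝔛.Osh h.1) D) (rO h hDW a) s - res M hDW (cmb t b)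
    have hz' : ∀ y (hy : y ∈ D), gm M hy z' =
        gH (𝔛.Osh h.1) (hDW hy) a • gm M hy s - gm M (hDW hy) (cmb t b) := fun y hy => by
      rw [gm_sub, gm_smul' h, gH_rO, RngSp.gm_res]
    have h0 : gm M hxD z' = gm M hxD 0 := by rw [hz', heq, sub_self, RngSp.gm_zero]
    obtain ⟨V, hV, hxV, he⟩ := (RngSp.gm_eq_iff hxD _ _).1 h0
    obtain ⟨c, hc, hcV⟩ := exists_unit_nbhd h hW (W' := V) hx hxV
    obtain ⟨m', hm'⟩ := exists_pow_kills h hT hQC hW hDW c z' fun y hy hu' => by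
      have hyV := hcV y (hDW hy) hu'
      rw [← RngSp.gm_res hV hyV, he, RngSp.gm_res, RngSp.gm_zero]
    refine Ideal.eq_top_of_isUnit_mem _ (Ideal.mem_map_of_mem _ (show c ^ m' * a ∈ 𝔞 from
      ⟨HSMul.hSMul (α := fns (𝔛.Osh h.1) W) (c ^ m') (cmb t b), fun y hy => ?_⟩)) ?_
    · have h3 := hm' y hy
      rw [hz', smul_sub, sub_eq_zero] at h3
      rw [gm_smul' h, map_pow, ← h3, map_mul, map_pow, mul_smul]
    · rw [map_mul, map_pow]; exact (hc.pow _).mul ha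
  exact ⟨m, z, fun x hx => by rw [hz, map_pow]⟩

include hT hQC in
/-- Extension of a section from the locus where `g` is a unit. -/
theorem exists_extend {W : (𝔛.X 0).Opens} (hW : IsAffineOpen W) (g : Ox h W) {D : (𝔛.X 0).Opens}
    (hDW : D ≤ W) (hD : ∀ x (hx : x ∈ W), IsUnit (gH (𝔛.Osh h.1) hx g) → x ∈ D) (s : M.val.obj (op D)) :
    ∃ (m : ℕ) (z : M.val.obj (op W)), ∀ x (hx : x ∈ D),
      gm M (hDW hx) z = gH (𝔛.Osh h.1) (hDW hx) g ^ m • gm M hx s := by
  obtain ⟨κ, hκ, V, hV, hcov, hP⟩ := exists_cover (isCompact_of_le h hW le_rfl)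
    (fun V => ∃ (hVW : V ≤ W) (m : ℕ) (z : M.val.obj (op V)), ∀ x (hx : x ∈ V) (hxD : x ∈ D),
      gm M hx z = gH (𝔛.Osh h.1) (hVW hx) g ^ m • gm M hxD s) fun x hx => by
      obtain ⟨V, hVW, hxV, hV, ι, t, N, hm⟩ := exists_model_nbhd h hQC hx
      obtain ⟨m, z, hz⟩ := exists_extend_model h hT hQC hV hm (rO h hVW g) (D := D ⊓ V) inf_le_right
        (fun y hy hu => ⟨hD y (hVW hy) (by rwa [gH_rO] at hu), hy⟩) (res M inf_le_left s)
      refine ⟨V, hVW, hxV, hVW, m, z, fun y hy hyD => ?_⟩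
      have := hz y ⟨hyD, hy⟩
      rwa [gH_rO, RngSp.gm_res] at this
  choose hVW m z hz using hP
  obtain ⟨N, hN⟩ := exists_bound m
  obtain ⟨z₁, hz₁⟩ : ∃ z₁ : ∀ a, M.val.obj (op (V a)), ∀ a x (hx : x ∈ V a) (hxD : x ∈ D),
      gm M hx (z₁ a) = gH (𝔛.Osh h.1) (hVW a hx) g ^ N • gm M hxD s :=
    ⟨fun a => HSMul.hSMul (α := fns (𝔛.Osh h.1) (V a)) (rO h (hVW a) g ^ (N - m a)) (z a), fun a x hx hxD => by
      rw [gm_smul' h, map_pow, gH_rO, hz a x hx hxD, smul_smul, ← pow_add, Nat.sub_add_cancel (hN a)]⟩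
  have hov : ∀ p : κ × κ, ∃ n, ∀ x (hx : x ∈ V p.1 ⊓ V p.2),
      gH (𝔛.Osh h.1) (hVW p.1 hx.1) g ^ n • (gm M hx.1 (z₁ p.1) - gm M hx.2 (z₁ p.2)) = 0 := fun p => by
    obtain ⟨n, hn⟩ := exists_pow_kills h hT hQC hW (Q := V p.1 ⊓ V p.2) (inf_le_left.trans (hVW _)) g
      (res M inf_le_left (z₁ p.1) - res M inf_le_right (z₁ p.2)) fun x hx hu => by
        have hxD := hD x _ hu
        rw [gm_sub, RngSp.gm_res, RngSp.gm_res, hz₁ _ x _ hxD, hz₁ _ x _ hxD, sub_self]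
    refine ⟨n, fun x hx => ?_⟩
    have := hn x hx
    rwa [gm_sub, RngSp.gm_res, RngSp.gm_res] at this
  choose n hn using hov
  obtain ⟨K, hK⟩ := exists_bound n
  obtain ⟨Z, hZ⟩ := ClosedRinged.exists_glue M V hVW hcov
    (fun a => HSMul.hSMul (α := fns (𝔛.Osh h.1) (V a)) (rO h (hVW a) g ^ K) (z₁ a)) fun a b => eq_of_gm fun x hx => by
      rw [RngSp.gm_res, RngSp.gm_res, gm_smul' h, gm_smul' h, map_pow, map_pow, gH_rO, gH_rO, ← sub_eq_zero,
        ← smul_sub, ← Nat.sub_add_cancel (hK (a, b)), pow_add, mul_smul, hn (a, b) x hx, smul_zero]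
  refine ⟨K + N, Z, fun x hx => ?_⟩
  obtain ⟨a, ha⟩ := hcov x (hDW hx)
  rw [← RngSp.gm_res (hVW a) ha, hZ a, gm_smul' h, map_pow, gH_rO, hz₁ a x ha hx, smul_smul, ← pow_add]

include hT hQC in
/-- A quasi-coherent torsion module has a model on every affine open. -/
theorem lqP_of_qct : lqP h M := by
  intro V hV
  classical
  let T : M.val.obj (op V) → M.val.obj (op V) := fun z => z
  refine ⟨_, T, LinearMap.ker (Finsupp.linearCombination (Ox h V) T), fun x hx z => ?_, fun x hx w => ⟨fun hw => ?_, fun hw => ?_⟩⟩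
  · obtain ⟨V₀, hxV₀, s, rfl⟩ := RngSp.exists_gm z
    obtain ⟨g, hg, hgV⟩ := exists_unit_nbhd h hV (W' := V₀) hx hxV₀
    obtain ⟨D, hDV, hD⟩ := exists_unitOpen h g
    have hDV₀ : D ≤ V₀ := fun y hy => hgV y (hDV hy) ((hD y (hDV hy)).1 hy)
    have hxD : x ∈ D := (hD x hx).2 hg
    obtain ⟨m, z', hz'⟩ := exists_extend h hT hQC hV g hDV (fun y hy => (hD y hy).2) (res M hDV₀ s)
    obtain ⟨c, hc⟩ := hg.pow m
    refine ⟨Finsupp.single z' (↑c⁻¹ : St (𝔛.Osh h.1) x), ?_⟩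
    rw [show gcmb (fun i => gm M hx (T i)) (Finsupp.single z' (↑c⁻¹ : St (𝔛.Osh h.1) x)) = (↑c⁻¹ : St (𝔛.Osh h.1) x) • gm M hx z'
      from Finsupp.linearCombination_single _ _ _, hz' x hxD, ← hc, smul_smul, Units.inv_mul, one_smul, RngSp.gm_res]
  · choose kt hkt using fun i : w.support => exists_uniform h hT hV le_rfl (T i)
    obtain ⟨k, hk⟩ := exists_bound kt
    obtain ⟨a, b, ha, hb, e, he0, hemem, hsum, heq⟩ := exists_frac_vec h hV hx T k w
      fun i hi => (hkt ⟨i, hi⟩ x hx).mono (hk _)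
    rw [hw, smul_zero] at heq
    obtain ⟨V₀, hV₀, hxV₀, hb0⟩ := (RngSp.gm_eq_iff hx (cmb T b) 0).1 (by rw [← heq, RngSp.gm_zero])
    obtain ⟨g, hg, hgV⟩ := exists_unit_nbhd h hV (W' := V₀) hx hxV₀
    obtain ⟨m, hm⟩ := exists_pow_kills h hT hQC hV le_rfl g (cmb T b) fun y hy hu => by
      rw [← RngSp.gm_res hV₀ (hgV y hy hu), hb0, RngSp.gm_res, RngSp.gm_zero]
    have hmem : g ^ m • b ∈ LinearMap.ker (Finsupp.linearCombination (Ox h V) T) := by
      rw [LinearMap.mem_ker]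
      refine eq_of_gm fun y hy => ?_
      change gm M hy (cmb T (g ^ m • b)) = _
      rw [gm_cmb, pv_smul, map_smul, ← gm_cmb, map_pow, hm y hy, RngSp.gm_zero]
    rw [← Submodule.smul_mem_iff_of_isUnit _ ha, hsum]
    refine add_mem ?_ ?_
    · rw [← Submodule.smul_mem_iff_of_isUnit _ (hg.pow m), ← map_pow, ← pv_smul]
      exact pv_mem_pN _ hmem
    · rw [← e.sum_single]
      refine Submodule.sum_mem _ fun i hi => ?_
      have hi' : i ∈ w.support := by_contra fun h' => (Finsupp.mem_support_iff.1 hi) (he0 i h')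
      have key : ∀ r ∈ (J h V ^ k).map (gH (𝔛.Osh h.1) hx),
          Finsupp.single i r ∈ pN (gH (𝔛.Osh h.1) hx) (LinearMap.ker (Finsupp.linearCombination (Ox h V) T)) := by
        intro r hr
        induction hr using Submodule.span_induction with
        | mem r hr =>
          obtain ⟨c, hc, rfl⟩ := hr
          have hmem' : Finsupp.single i c ∈ LinearMap.ker (Finsupp.linearCombination (Ox h V) T) := by
            rw [LinearMap.mem_ker, Finsupp.linearCombination_single]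
            refine eq_of_gm fun y hy => ?_
            rw [RngSp.gm_zero]
            exact (gm_smul' h hy c _).trans ((hkt ⟨i, hi'⟩ y hy).mono (hk _) c hc)
          have h5 := pv_mem_pN (gH (𝔛.Osh h.1) hx) hmem'
          rwa [pv, Finsupp.mapRange_single] at h5
        | zero => rw [Finsupp.single_zero]; exact zero_mem _
        | add r s _ _ ir is => rw [Finsupp.single_add]; exact add_mem ir is
        | smul c r _ ir => rw [← Finsupp.smul_single]; exact Submodule.smul_mem _ _ ir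
      exact key _ (hemem i)
  · refine LinearMap.mem_ker.1 ((Submodule.span_le.2 ?_ : pN (gH (𝔛.Osh h.1) hx) (LinearMap.ker (Finsupp.linearCombination (Ox h V) T)) ≤
      LinearMap.ker (gcmb fun i => gm M hx (T i))) hw)
    rintro _ ⟨n, hn, rfl⟩
    rw [SetLike.mem_coe, LinearMap.mem_ker, ← gm_cmb]
    exact (congrArg (gm M hx) (LinearMap.mem_ker.1 hn)).trans (RngSp.gm_zero hx)

end Groth.Agent.FTorsL
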