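import Groth.Agent.FTorsL.Coref
import Groth.Agent.H9FCoh.LQ
import Groth.Agent.RngSp.FPHom
import Groth.Agent.S6840
import Groth.Agent.S19542
import Mathlib.CategoryTheory.Presentable.Directed

/-!
# The coreflection onto quasi-coherent torsion modules and filtered colimits
-/

set_option autoImplicit false
set_option backward.isDefEq.respectTransparency false
set_option backward.isDefEq.respectTransparency.types false
set_option linter.style.haveILetI false

universe u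

open CategoryTheory CategoryTheory.Limits AlgebraicGeometry TopologicalSpace Opposite
open Groth.Agent.H9FCoh

noncomputable section

namespace Groth.Agent.FTorsL

variable {𝔛 : FSch.Sys.{u}} (h : 𝔛.IsLocNoethFormal)

include h in
theorem refine_cover [CompactSpace (𝔛.X 0)] (ι : Type u) (V : ι → (𝔛.X 0).Opens) (hV : iSup V = ⊤) :
    ∃ (J : Type u) (_ : Finite J) (U : J → (𝔛.X 0).Opens),
      iSup U = ⊤ ∧ (∀ j, ∃ i, U j ≤ V i) ∧ ∀ j j', IsCompact ((U j ⊓ U j' : (𝔛.X 0).Opens) : Set (𝔛.X 0)) := by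
  haveI := h.2.2 0
  haveI : AlgebraicGeometry.IsNoetherian (𝔛.X 0) := {}
  obtain ⟨T, hT⟩ := isCompact_univ.elim_finite_subcover (fun i => (V i : Set (𝔛.X 0))) (fun i => (V i).2)
    (fun x _ => Set.mem_iUnion.2 (Opens.mem_iSup.1 (hV.ge (Set.mem_univ x))))
  refine ⟨T, inferInstance, fun i => V i, eq_top_iff.2 fun x _ => ?_, fun i => ⟨i.1, le_rfl⟩,
    fun _ _ => NoetherianSpace.isCompact _⟩
  obtain ⟨i, hi, hx⟩ := Set.mem_iUnion₂.1 (hT (Set.mem_univ x))
  exact Opens.mem_iSup.2 ⟨⟨i, hi⟩, hx⟩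

include h in
theorem preservesColimit_coyoneda [CompactSpace (𝔛.X 0)] (G : FSch.ModF 𝔛 h.1) (hG : IsFP (O := 𝔛.Osh h.1) G)
    {J : Type u} [SmallCategory J] [IsFiltered J] (K : J ⥤ FSch.ModF 𝔛 h.1) :
    PreservesColimit K (coyoneda.obj (op G)) := by
  obtain ⟨α, _, _, _, F, hF⟩ := IsFiltered.exists_directed J
  haveI := hG
  haveI : PreservesColimit (F ⋙ K) (coyoneda.obj (op G)) :=
    S6840.result (𝔛.Osh h.1) (refine_cover h) (F ⋙ K) G
  exact Functor.Final.preservesColimit_of_comp F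

variable {Q : FSch.ModF 𝔛 h.1 ⥤ (FTors.IsQCT 𝔛 h.1).FullSubcategory}
  (adj : (FTors.IsQCT 𝔛 h.1).ι ⊣ Q)

theorem counit_comp_bijective {A : FSch.ModF 𝔛 h.1} (hA : FTors.IsQCT 𝔛 h.1 A) (X : FSch.ModF 𝔛 h.1) :
    Function.Bijective (fun g : A ⟶ (Q.obj X).obj => g ≫ adj.counit.app X) := by
  have e : ∀ g : (⟨A, hA⟩ : (FTors.IsQCT 𝔛 h.1).FullSubcategory) ⟶ Q.obj X,
      (adj.homEquiv ⟨A, hA⟩ X).symm g = g.hom ≫ adj.counit.app X := fun g => adj.homEquiv_counit _ _ g
  constructor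
  · intro a b hab
    have := (adj.homEquiv ⟨A, hA⟩ X).symm.injective
      (a₁ := ObjectProperty.homMk a) (a₂ := ObjectProperty.homMk b) ((e _).trans (hab.trans (e _).symm))
    exact congrArg (fun q => q.hom) this
  · intro f
    refine ⟨((adj.homEquiv ⟨A, hA⟩ X) f).hom, ?_⟩
    exact (e _).symm.trans (Equiv.symm_apply_apply _ _)

theorem isQCT_kernel {A B : FSch.ModF 𝔛 h.1} (φ : A ⟶ B) (hA : FTors.IsQCT 𝔛 h.1 A) (hB : FTors.IsQCT 𝔛 h.1 B) :
    FTors.IsQCT 𝔛 h.1 (kernel φ) :=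
  (isQCT_iff h _).2 ⟨isTorsF_of_mono h (kernel.ι φ) hA.1,
    lqP_kernel h φ ((isQCT_iff h A).1 hA).2 ((isQCT_iff h B).1 hB).2⟩

theorem isIso_of_bijective_fp {A B : FSch.ModF 𝔛 h.1} (φ : A ⟶ B) (hA : FTors.IsQCT 𝔛 h.1 A)
    (hB : FTors.IsQCT 𝔛 h.1 B)
    (hφ : ∀ P : FSch.ModF 𝔛 h.1, FTors.IsQCT 𝔛 h.1 P → IsFP (O := 𝔛.Osh h.1) P →
      Function.Bijective (fun g : P ⟶ A => g ≫ φ)) : IsIso φ := by
  have hgen : ∀ {A : FSch.ModF 𝔛 h.1}, FTors.IsQCT 𝔛 h.1 A → ∀ {Z : FSch.ModF 𝔛 h.1} (q : A ⟶ Z),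
      (∀ (P : FSch.ModF 𝔛 h.1), FTors.IsQCT 𝔛 h.1 P → IsFP (O := 𝔛.Osh h.1) P → ∀ a : P ⟶ A, a ≫ q = 0) → q = 0 := by
    intro A hA Z q hq
    obtain ⟨J, _, _, pres, hP, hmono⟩ := S19542.result 𝔛 h A (ind_of_isQCT h hA)
    refine pres.isColimit.hom_ext fun j => ?_
    haveI := hmono j
    rw [comp_zero]
    exact hq _ ⟨isTorsF_of_mono h (pres.ι.app j) hA.1, isQC_of_isFP (hP j)⟩ (hP j) _
  haveI : Mono φ := Preadditive.mono_of_isZero_kernel φ ((IsZero.iff_id_eq_zero _).2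
    (hgen (isQCT_kernel h φ hA hB) _ fun P hP hP' a => by
      rw [Category.comp_id, ← cancel_mono (kernel.ι φ), zero_comp]
      exact (hφ P hP hP').1 (by simp [kernel.condition])))
  haveI : Epi φ := Preadditive.epi_of_cancel_zero φ fun q hq => hgen hB q fun P hP hP' a => by
    obtain ⟨g, rfl⟩ := (hφ P hP hP').2 a
    simp [hq]
  exact isIso_of_mono_of_epi φ

include adj in
theorem preservesColimit_coreflection [CompactSpace (𝔛.X 0)] {J : Type u} [SmallCategory J] [IsFiltered J]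
    (K : J ⥤ FSch.ModF 𝔛 h.1) : PreservesColimit K Q := by
  refine ⟨fun {c} hc => ?_⟩
  let P : ObjectProperty (FSch.ModF 𝔛 h.1) := FTors.IsQCT 𝔛 h.1
  let D := colimit.cocone (K ⋙ Q ⋙ P.ι)
  let hD : IsColimit D := colimit.isColimit _
  have hDt : P D.pt := isQCT_colimit h hD fun j => (Q.obj (K.obj j)).property
  let φ : D.pt ⟶ (Q.obj c.pt).obj := hD.desc (P.ι.mapCocone (Q.mapCocone c))
  have hfac : ∀ j, D.ι.app j ≫ φ = (Q.map (c.ι.app j)).hom := fun j => hD.fac _ j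
  have nat : ∀ j, (Q.map (c.ι.app j)).hom ≫ adj.counit.app c.pt = adj.counit.app (K.obj j) ≫ c.ι.app j :=
    fun j => adj.counit.naturality (c.ι.app j)
  haveI : IsIso φ := by
    refine isIso_of_bijective_fp h φ hDt (Q.obj c.pt).property fun G hG hG' => ?_
    haveI := preservesColimit_coyoneda h G hG' K
    haveI := preservesColimit_coyoneda h G hG' (K ⋙ Q ⋙ P.ι)
    have h1 := isColimitOfPreserves (coyoneda.obj (op G)) hc
    have h2 := isColimitOfPreserves (coyoneda.obj (op G)) hD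
    constructor
    · intro a b hab
      obtain ⟨i, a', ha⟩ := Types.jointly_surjective_of_isColimit h2 a
      obtain ⟨j, b', hb⟩ := Types.jointly_surjective_of_isColimit h2 b
      change a' ≫ D.ι.app i = a at ha
      change b' ≫ D.ι.app j = b at hb
      subst ha hb
      have hab' := congrArg (· ≫ adj.counit.app c.pt) hab
      simp only [Category.assoc, hfac, nat] at hab'
      obtain ⟨k, f, g, hfg⟩ := (Types.FilteredColimit.isColimit_eq_iff _ h1
        (xi := a' ≫ adj.counit.app (K.obj i)) (xj := b' ≫ adj.counit.app (K.obj j))).1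
        ((Category.assoc _ _ _).trans (hab'.trans (Category.assoc _ _ _).symm))
      change (a' ≫ adj.counit.app (K.obj i)) ≫ K.map f = (b' ≫ adj.counit.app (K.obj j)) ≫ K.map g at hfg
      have n : ∀ {i k : J} (f : i ⟶ k), adj.counit.app (K.obj i) ≫ K.map f = (Q.map (K.map f)).hom ≫ adj.counit.app (K.obj k) :=
        fun f => (adj.counit.naturality (K.map f)).symm
      rw [Category.assoc, Category.assoc, n, n, ← Category.assoc, ← Category.assoc] at hfg
      have hk : a' ≫ (Q.map (K.map f)).hom = b' ≫ (Q.map (K.map g)).hom :=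
        (counit_comp_bijective h adj hG _).1 hfg
      have wi : (Q.map (K.map f)).hom ≫ D.ι.app k = D.ι.app i := D.w f
      have wj : (Q.map (K.map g)).hom ≫ D.ι.app k = D.ι.app j := D.w g
      rw [← wi, ← wj, ← Category.assoc, hk, Category.assoc]
    · intro b
      obtain ⟨j, v, hv⟩ := Types.jointly_surjective_of_isColimit h1 (b ≫ adj.counit.app c.pt)
      change v ≫ c.ι.app j = b ≫ adj.counit.app c.pt at hv
      obtain ⟨v', hv'⟩ := (counit_comp_bijective h adj hG (K.obj j)).2 v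
      refine ⟨v' ≫ D.ι.app j, (counit_comp_bijective h adj hG c.pt).1 ?_⟩
      change ((v' ≫ D.ι.app j) ≫ φ) ≫ adj.counit.app c.pt = b ≫ adj.counit.app c.pt
      simp only [Category.assoc, hfac, nat]
      rw [← Category.assoc, ← hv]
      exact congrArg (· ≫ c.ι.app j) hv'
  exact ⟨isColimitOfReflects P.ι (IsColimit.ofIsoColimit hD (Cocone.ext (asIso φ) hfac))⟩

end Groth.Agent.FTorsL
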