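import Groth.Agent.FTorsL.KLoc
import Groth.Agent.FTorsL.QC
import Groth.Agent.H9FCoh.RBound
import Mathlib.CategoryTheory.Category.ULift
import Mathlib.CategoryTheory.Functor.OfSequence

/-!
# Torsion of complexes with quasi-coherent cohomology
-/

set_option autoImplicit false
set_option backward.isDefEq.respectTransparency false
set_option backward.isDefEq.respectTransparency.types false
set_option linter.style.haveILetI false

universe u

open CategoryTheory CategoryTheory.Limits AlgebraicGeometry TopologicalSpace Opposite DerivedCategory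
open Groth.Agent.H9FCoh Groth.Agent.ClosedRinged
open Groth.Agent.RngSp (pt gm mp fns)

attribute [local instance] HasDerivedCategory.standard

noncomputable section

namespace Groth.Agent.FTorsL

variable {𝔛 : FSch.Sys.{u}} (h : 𝔛.IsLocNoethFormal) {W : (𝔛.X 0).Opens}

/-- Modules with a model on the given open. -/
def modelAt (W : (𝔛.X 0).Opens) : ObjectProperty (FSch.ModF 𝔛 h.1) := fun M =>
  ∃ (ι : Type u) (t : ι → M.val.obj (op W)) (N : Submodule (Ox h W) (ι →₀ Ox h W)), IsModel M W t N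

theorem isWeakSerre_modelAt (hW : IsAffineOpen W) : WSerre.IsWeakSerre (modelAt h W) where
  exists_zero := ⟨_, isZero_zero _, lqP_zero h (isZero_zero _) W hW⟩
  kernels_le := by
    rintro _ ⟨f, k, hk, ⟨ι, t, N, hm⟩, ⟨κ, t', N', hm'⟩⟩
    choose col hcol using fun i => hm'.exists_cmb (good h) hW (mp f W (t i))
    obtain ⟨s, -, hs⟩ := isModel_kernel f ((good h).flat W hW) hm hm' (fun i => (hcol i).symm)
      (g := fun j : N'.comap (Finsupp.linearCombination (Ox h W) col) => (j : ι →₀ Ox h W))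
      ((congrArg _ Subtype.range_coe).trans (Submodule.span_eq _))
    let e := IsLimit.conePointUniqueUpToIso (kernelIsKernel f) hk
    exact ⟨_, _, _, hs.map_iso e⟩
  cokernels_le := by
    rintro _ ⟨f, k, hk, ⟨ι, t, N, hm⟩, ⟨κ, t', N', hm'⟩⟩
    choose col hcol using fun i => hm'.exists_cmb (good h) hW (mp f W (t i))
    let e := IsColimit.coconePointUniqueUpToIso (cokernelIsCokernel f) hk
    exact ⟨_, _, _, (isModel_cokernel f hm hm' fun i => (hcol i).symm).map_iso e⟩
  prop_X₂_of_shortExact := by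
    rintro S hS ⟨ι, tA, NA, hA⟩ ⟨κ, tB, NB, hB⟩
    choose l hl using fun k => sections_surjective_of_isModel h hS hW hA (tB k)
    exact ⟨_, _, _, isModel_extension (good h) hS hW hA hB l hl⟩

section Loc

variable (g : ℕ → Ox h W) (I : CochainComplex (FSch.ModF 𝔛 h.1) ℤ)

/-- The germs on the open killed by powers of the first members, zero outside. -/
def tS (k : ℕ) (i : ℤ) (x : 𝔛.X 0) : Submodule (St (𝔛.Osh h.1) x) (ModSite.stalkAb (pt x) (I.X i)) where
  carrier := {z | (∀ (hx : x ∈ W) (r : ℕ), r < k → ∃ e : ℕ, gH (𝔛.Osh h.1) hx (g r) ^ e • z = 0) ∧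
    (x ∉ W → z = 0)}
  zero_mem' := ⟨fun hx r hr => ⟨0, smul_zero _⟩, fun _ => rfl⟩
  add_mem' {a b} ha hb := ⟨fun hx r hr => by
      obtain ⟨e, he⟩ := ha.1 hx r hr
      obtain ⟨e', he'⟩ := hb.1 hx r hr
      refine ⟨e + e', ?_⟩
      rw [smul_add, pow_add, mul_smul (gH (𝔛.Osh h.1) hx (g r) ^ e) _ b, he', smul_zero, mul_comm, mul_smul, he,
        smul_zero, add_zero],
    fun hx => by rw [ha.2 hx, hb.2 hx, add_zero]⟩
  smul_mem' c z hz := ⟨fun hx r hr => by
      obtain ⟨e, he⟩ := hz.1 hx r hr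
      exact ⟨e, by rw [smul_comm, he, smul_zero]⟩,
    fun hx => by rw [hz.2 hx, smul_zero]⟩

theorem tS_stable (k : ℕ) (i j : ℤ) (x : 𝔛.X 0) (z : ModSite.stalkAb (pt x) (I.X i)) (hz : z ∈ tS h g I k i x) :
    fx (I.d i j) x z ∈ tS h g I k j x :=
  ⟨fun hx r hr => by
    obtain ⟨e, he⟩ := hz.1 hx r hr
    exact ⟨e, by rw [← fx_smul_stalk, he, map_zero]⟩, fun hx => by rw [hz.2 hx, map_zero]⟩

theorem tS_succ_le (k : ℕ) (i : ℤ) (x : 𝔛.X 0) : tS h g I (k + 1) i x ≤ tS h g I k i x :=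
  fun _ hz => ⟨fun hx r hr => hz.1 hx r (hr.trans k.lt_succ_self), hz.2⟩

theorem openS_tS (k : ℕ) (i : ℤ) : OpenS (tS h g I k i) := by
  intro x z hz
  by_cases hxW : x ∈ W
  · obtain ⟨V, hV, s, rfl⟩ := RngSp.exists_gm z
    choose e he using fun r : Fin k => hz.1 hxW r r.2
    obtain ⟨N, hN⟩ := exists_bound e
    have key : ∀ r : Fin k, ∃ (V' : (𝔛.X 0).Opens) (h₁ : V' ≤ V ⊓ W), x ∈ V' ∧
        ∀ y (hy : y ∈ V'), gH (𝔛.Osh h.1) (h₁ hy).2 (g r) ^ N • gm (I.X i) (h₁ hy).1 s = 0 := fun r => by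
      let σ : (I.X i).val.obj (op (V ⊓ W)) :=
        (show fns (𝔛.Osh h.1) (V ⊓ W) from rO h inf_le_right (g r) ^ N) • res (I.X i) inf_le_left s
      have hσ : gm (I.X i) (show x ∈ V ⊓ W from ⟨hV, hxW⟩) σ = gm (I.X i) (show x ∈ V ⊓ W from ⟨hV, hxW⟩) 0 := by
        rw [RngSp.gm_smul, RngSp.gm_res, RngSp.gm_zero]
        change gH (𝔛.Osh h.1) _ (rO h inf_le_right (g r) ^ N) • gm (I.X i) hV s = 0
        rw [map_pow, gH_rO]
        obtain ⟨d, hd⟩ := Nat.exists_eq_add_of_le (hN r)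
        rw [hd, add_comm, pow_add, mul_smul, he r, smul_zero]
      obtain ⟨V', h₁, hxV', hV'⟩ := (RngSp.gm_eq_iff _ σ 0).1 hσ
      refine ⟨V', h₁, hxV', fun y hy => ?_⟩
      have h2 := congrArg (gm (I.X i) hy) hV'
      rw [RngSp.gm_res, RngSp.gm_smul, RngSp.gm_res, RngSp.gm_res, RngSp.gm_zero] at h2
      change gH (𝔛.Osh h.1) _ (rO h inf_le_right (g r) ^ N) • gm (I.X i) _ s = 0 at h2
      rwa [map_pow, gH_rO] at h2
    choose V' h₁ hxV' hV' using key
    let U : (𝔛.X 0).Opens := (V ⊓ W) ⊓ Finset.univ.inf V'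
    have hxU : x ∈ U := by
      refine ⟨⟨hV, hxW⟩, ?_⟩
      rw [Opens.coe_finset_inf]
      simpa using fun r => hxV' r
    have hUV : U ≤ V := inf_le_left.trans inf_le_left
    refine ⟨U, hxU, res (I.X i) hUV s, RngSp.gm_res _ _ _, fun y hy => ⟨fun hyW r hr => ⟨N, ?_⟩,
      fun hyW => absurd hy.1.2 hyW⟩⟩
    rw [RngSp.gm_res]
    exact hV' ⟨r, hr⟩ y ((Finset.inf_le (Finset.mem_univ (⟨r, hr⟩ : Fin k)) : _ ≤ V' _) hy.2)
  · obtain ⟨V, hV, s, rfl⟩ := RngSp.exists_gm z
    obtain ⟨V', hV', hxV', he⟩ := (RngSp.gm_eq_iff hV s 0).1 ((hz.2 hxW).trans (RngSp.gm_zero hV).symm)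
    refine ⟨V', hxV', 0, (RngSp.gm_zero hxV').trans ((hz.2 hxW).symm), fun y hy => ?_⟩
    rw [RngSp.gm_zero]
    exact zero_mem _

/-- The subcomplex of germs killed by powers of the first members. -/
abbrev Kc (k : ℕ) : CochainComplex (FSch.ModF 𝔛 h.1) ℤ := subCx I (tS h g I k) (tS_stable h g I k)

/-- The inclusion of the next subcomplex. -/
abbrev kIncl (k : ℕ) : Kc h g I (k + 1) ⟶ Kc h g I k :=
  subCxIncl I _ _ _ _ (tS_succ_le h g I k)

theorem Kc_off (k : ℕ) (i : ℤ) (x : 𝔛.X 0) (hx : x ∉ W) (z : ModSite.stalkAb (pt x) ((Kc h g I k).X i)) :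
    z = 0 :=
  fx_injective (subι (tS h g I k i)) x (((fx_subι_mem (tS h g I k i) z).2 hx).trans (map_zero _).symm)

/-- Multiplication on a subcomplex. -/
def mulCx (k : ℕ) (a : Ox h W) : Kc h g I k ⟶ Kc h g I k where
  f i := mulEnd (M := (Kc h g I k).X i) a (Kc_off h g I k i)
  comm' i j _ := (comp_mulEnd a (Kc_off h g I k i) (Kc_off h g I k j) ((Kc h g I k).d i j)).symm

theorem fx_kIncl_ι (k : ℕ) (i : ℤ) (x : 𝔛.X 0) (w : ModSite.stalkAb (pt x) ((Kc h g I (k + 1)).X i)) :
    fx (subι (tS h g I k i)) x (fx ((kIncl h g I k).f i) x w) = fx (subι (tS h g I (k + 1) i)) x w := by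
  refine (fx_comp ((kIncl h g I k).f i) (subι (tS h g I k i)) x w).trans ?_
  exact congrArg (fun φ => fx φ x w) (congrArg (fun φ : Kc h g I (k + 1) ⟶ I => φ.f i)
    (subCxIncl_ι I (tS h g I (k + 1)) (tS_stable h g I (k + 1)) (tS h g I k) (tS_stable h g I k)
      (tS_succ_le h g I k)))

theorem mulCx_comm (k : ℕ) (a : Ox h W) :
    kIncl h g I k ≫ mulCx h g I k a = mulCx h g I (k + 1) a ≫ kIncl h g I k := by
  ext i : 1
  exact comp_mulEnd a (Kc_off h g I (k + 1) i) (Kc_off h g I k i) ((kIncl h g I k).f i)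

/-- The quotient of consecutive subcomplexes. -/
abbrev Qc (k : ℕ) : CochainComplex (FSch.ModF 𝔛 h.1) ℤ := cokernel (kIncl h g I k)

theorem mono_kIncl (k : ℕ) : Mono (kIncl h g I k) :=
  HomologicalComplex.mono_of_mono_f _ fun i => by
    change Mono (subLift (tS h g I (k + 1) i) (tS h g I k i) (𝟙 (I.X i))
      (mem_of_le I _ _ (tS_succ_le h g I k) i))
    exact mono_of_mono_fac (subLift_subι (tS h g I (k + 1) i) (tS h g I k i) (𝟙 (I.X i))
      (mem_of_le I _ _ (tS_succ_le h g I k) i) |>.trans (Category.comp_id _))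

/-- The short exact sequence of consecutive subcomplexes. -/
abbrev kSeq (k : ℕ) : ShortComplex (CochainComplex (FSch.ModF 𝔛 h.1) ℤ) :=
  ShortComplex.mk (kIncl h g I k) (cokernel.π (kIncl h g I k)) (cokernel.condition _)

theorem shortExact_kSeq (k : ℕ) : (kSeq h g I k).ShortExact :=
  haveI := mono_kIncl h g I k
  { exact := ShortComplex.exact_cokernel (kIncl h g I k) }

/-- Multiplication by the next member on the quotient. -/
def mulQ (k : ℕ) : Qc h g I k ⟶ Qc h g I k :=
  cokernel.desc _ (mulCx h g I k (g k) ≫ cokernel.π (kIncl h g I k)) (by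
    rw [← Category.assoc, mulCx_comm, Category.assoc, cokernel.condition, comp_zero])

theorem π_mulQ (k : ℕ) :
    cokernel.π (kIncl h g I k) ≫ mulQ h g I k = mulCx h g I k (g k) ≫ cokernel.π (kIncl h g I k) :=
  cokernel.π_desc _ _ _

theorem epi_π_f (k : ℕ) (i : ℤ) : Epi ((cokernel.π (kIncl h g I k)).f i) :=
  inferInstanceAs (Epi ((HomologicalComplex.eval _ _ i).map (cokernel.π (kIncl h g I k))))

theorem exists_of_π_eq_zero (k : ℕ) (i : ℤ) (x : 𝔛.X 0) (w : ModSite.stalkAb (pt x) ((Kc h g I k).X i))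
    (hw : fx ((cokernel.π (kIncl h g I k)).f i) x w = 0) : ∃ v, fx ((kIncl h g I k).f i) x v = w :=
  exists_fx_of_exact (((shortExact_kSeq h g I k).exact).map (HomologicalComplex.eval _ _ i)) x w hw

theorem fx_π_mulQ (k : ℕ) (i : ℤ) (x : 𝔛.X 0) (hx : x ∈ W) (w : ModSite.stalkAb (pt x) ((Kc h g I k).X i)) :
    fx ((mulQ h g I k).f i) x (fx ((cokernel.π (kIncl h g I k)).f i) x w) =
      gH (𝔛.Osh h.1) hx (g k) • fx ((cokernel.π (kIncl h g I k)).f i) x w := by
  rw [fx_comp, ← HomologicalComplex.comp_f, π_mulQ, HomologicalComplex.comp_f, ← fx_comp]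
  exact (congrArg _ (fx_mulEnd (g k) (Kc_off h g I k i) hx w)).trans (fx_smul_stalk _ _ _ _)

variable (hdiv : ∀ (i : ℤ) (x : 𝔛.X 0) (hx : x ∈ W),
  letI : Module (Ox h W) (ModSite.stalkAb (pt x) (I.X i)) := Module.compHom _ (gH (𝔛.Osh h.1) hx)
  DivG g (ModSite.stalkAb (pt x) (I.X i)))

include hdiv in
theorem isIso_mulQ (k : ℕ) : IsIso (mulQ h g I k) := by
  haveI : ∀ i, IsIso ((mulQ h g I k).f i) := fun i => isIso_of_bijective_fx _ fun x => by
    haveI := epi_π_f h g I k i
    by_cases hx : x ∈ W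
    · constructor
      · refine (injective_iff_map_eq_zero _).2 fun q hq => ?_
        obtain ⟨w, rfl⟩ := fx_surjective_of_epi ((cokernel.π (kIncl h g I k)).f i) x q
        rw [fx_π_mulQ h g I k i x hx, ← fx_smul_stalk] at hq
        obtain ⟨v, hv⟩ := exists_of_π_eq_zero h g I k i x _ hq
        have h1 := congrArg (fx (subι (tS h g I k i)) x) hv
        rw [fx_kIncl_ι, fx_smul_stalk] at h1
        have h2 : fx (subι (tS h g I k i)) x w ∈ tS h g I (k + 1) i x := by
          refine ⟨fun hx' r hr => ?_, fun hx' => absurd hx hx'⟩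
          rcases Nat.lt_succ_iff_lt_or_eq.1 hr with hr' | rfl
          · exact (fx_subι_mem (tS h g I k i) w).1 hx' r hr'
          · obtain ⟨e, he⟩ := (fx_subι_mem (tS h g I (r + 1) i) v).1 hx' r r.lt_succ_self
            refine ⟨e + 1, ?_⟩
            rw [h1, smul_smul, ← pow_succ] at he
            exact he
        obtain ⟨v', hv'⟩ := exists_fx_subι _ (openS_tS h g I (k + 1) i) h2
        rw [← fx_kIncl_ι] at hv'
        rw [← fx_injective (subι (tS h g I k i)) x hv', fx_comp, ← HomologicalComplex.comp_f, cokernel.condition,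
          HomologicalComplex.zero_f, fx_zero]
      · intro q
        obtain ⟨w, rfl⟩ := fx_surjective_of_epi ((cokernel.π (kIncl h g I k)).f i) x q
        letI : Module (Ox h W) (ModSite.stalkAb (pt x) (I.X i)) := Module.compHom _ (gH (𝔛.Osh h.1) hx)
        have hTT : TT g k (fx (subι (tS h g I k i)) x w) := fun r hr => by
          obtain ⟨e, he⟩ := (fx_subι_mem (tS h g I k i) w).1 hx r hr
          refine ⟨e, ?_⟩
          change gH (𝔛.Osh h.1) hx (g r ^ e) • fx (subι (tS h g I k i)) x w = 0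
          rw [map_pow]
          exact he
        obtain ⟨m', j, hm', hj⟩ := hdiv i x hx k _ hTT 1
        have hmem : m' ∈ tS h g I k i x := ⟨fun hx' r hr => by
          obtain ⟨e, he⟩ := hm' r hr
          refine ⟨e, ?_⟩
          change gH (𝔛.Osh h.1) hx (g r ^ e) • m' = 0 at he
          rwa [map_pow] at he, fun hx' => absurd hx hx'⟩
        obtain ⟨v, rfl⟩ : ∃ v : ModSite.stalkAb (pt x) ((Kc h g I k).X i), fx (subι (tS h g I k i)) x v = m' :=
          exists_fx_subι _ (openS_tS h g I k i) hmem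
        refine ⟨fx ((cokernel.π (kIncl h g I k)).f i) x v, ?_⟩
        rw [fx_π_mulQ h g I k i x hx, ← fx_smul_stalk, ← sub_eq_zero, ← map_sub]
        change gH (𝔛.Osh h.1) hx (g k ^ j) •
          (gH (𝔛.Osh h.1) hx (g k ^ 1) • fx (subι (tS h g I k i)) x v - fx (subι (tS h g I k i)) x w) = 0 at hj
        rw [map_pow, pow_one, ← fx_smul_stalk, ← map_sub] at hj
        generalize gH (𝔛.Osh h.1) hx (g k) • v - w = d at hj ⊢
        have h2 : fx (subι (tS h g I k i)) x d ∈ tS h g I (k + 1) i x := by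
          refine ⟨fun hx' r hr => ?_, fun hx' => absurd hx hx'⟩
          rcases Nat.lt_succ_iff_lt_or_eq.1 hr with hr' | rfl
          · exact (fx_subι_mem (tS h g I k i) d).1 hx' r hr'
          · exact ⟨j, hj⟩
        obtain ⟨v', hv'⟩ := exists_fx_subι _ (openS_tS h g I (k + 1) i) h2
        rw [← fx_kIncl_ι] at hv'
        rw [← fx_injective (subι (tS h g I k i)) x hv', fx_comp, ← HomologicalComplex.comp_f, cokernel.condition,
          HomologicalComplex.zero_f, fx_zero]
    · have hz : ∀ q : ModSite.stalkAb (pt x) ((Qc h g I k).X i), q = 0 := fun q => by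
        obtain ⟨w, rfl⟩ := fx_surjective_of_epi ((cokernel.π (kIncl h g I k)).f i) x q
        rw [Kc_off h g I k i x hx w, map_zero]
      exact ⟨fun a b _ => (hz a).trans (hz b).symm, fun q => ⟨0, (map_zero _).trans (hz q).symm⟩⟩
  exact HomologicalComplex.Hom.isIso_of_components _

theorem fx_homologyMap_mulQ (k : ℕ) (j : ℤ) (x : 𝔛.X 0) (hx : x ∈ W)
    (u : ModSite.stalkAb (pt x) ((Qc h g I k).homology j)) :
    fx (HomologicalComplex.homologyMap (mulQ h g I k) j) x u = gH (𝔛.Osh h.1) hx (g k) • u := by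
  obtain ⟨z, hz⟩ := exists_rep_of_homology _ u
  obtain ⟨w, rfl⟩ := (haveI := epi_π_f h g I k j; fx_surjective_of_epi ((cokernel.π (kIncl h g I k)).f j) x z)
  have h1 := hz.map (Qc h g I k) (mulQ h g I k)
  rw [fx_π_mulQ h g I k j x hx] at h1
  exact h1.unique _ (hz.smul _ _)

theorem fx_homologyMap_mulCx (k : ℕ) (a : Ox h W) (j : ℤ) (x : 𝔛.X 0) (hx : x ∈ W)
    (u : ModSite.stalkAb (pt x) ((Kc h g I k).homology j)) :
    fx (HomologicalComplex.homologyMap (mulCx h g I k a) j) x u = gH (𝔛.Osh h.1) hx a • u := by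
  obtain ⟨z, hz⟩ := exists_rep_of_homology _ u
  have h1 := hz.map (Kc h g I k) (mulCx h g I k a)
  have h2 : fx ((mulCx h g I k a).f j) x z = gH (𝔛.Osh h.1) hx a • z := fx_mulEnd a (Kc_off h g I k j) hx z
  rw [h2] at h1
  exact h1.unique _ (hz.smul _ _)

include hdiv in
theorem modelAt_homology_Qc (hW : IsAffineOpen W) (k : ℕ) (j : ℤ)
    (hK : modelAt h W ((Kc h g I k).homology j)) : modelAt h W ((Qc h g I k).homology j) := by
  haveI := isIso_mulQ h g I hdiv k
  haveI : IsFiltered (AsSmall.{u} ℕ) := IsFiltered.of_equivalence AsSmall.equiv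
  let m := HomologicalComplex.homologyMap (mulCx h g I k (g k)) j
  let q := HomologicalComplex.homologyMap (mulQ h g I k) j
  let p := HomologicalComplex.homologyMap (cokernel.π (kIncl h g I k)) j
  haveI : IsIso q := inferInstanceAs (IsIso ((HomologicalComplex.homologyFunctor _ _ j).map (mulQ h g I k)))
  have hpq : p ≫ q = m ≫ p := by
    simp only [p, q, m, ← HomologicalComplex.homologyMap_comp, π_mulQ]
  let seq : ℕ ⥤ FSch.ModF 𝔛 h.1 := Functor.ofSequence (X := fun _ => (Kc h g I k).homology j) fun _ => m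
  let a : ℕ → ((Kc h g I k).homology j ⟶ (Qc h g I k).homology j) := fun n => Nat.rec p (fun _ f => f ≫ inv q) n
  have ha : ∀ n, m ≫ a (n + 1) = a n := by
    intro n
    induction n with
    | zero =>
      change m ≫ p ≫ inv q = p
      rw [← Category.assoc, ← hpq, Category.assoc, IsIso.hom_inv_id, Category.comp_id]
    | succ n ih =>
      change m ≫ a (n + 1) ≫ inv q = a n ≫ inv q
      rw [← Category.assoc, ih]
  let cc : Cocone seq := Cocone.mk _ (NatTrans.ofSequence (G := (Functor.const ℕ).obj ((Qc h g I k).homology j))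
    a fun n => by
      simp only [seq, Functor.ofSequence_map_homOfLE_succ, Functor.const_obj_map]
      exact (ha n).trans (Category.comp_id _).symm)
  let D : AsSmall.{u} ℕ ⥤ FSch.ModF 𝔛 h.1 := AsSmall.down ⋙ seq
  let φ := colimit.desc D (cc.whisker AsSmall.down)
  have hφ : ∀ (n : ℕ), colimit.ι D (AsSmall.up.obj n) ≫ φ = a n := fun n => colimit.ι_desc _ _
  have hpow : ∀ (n e : ℕ) (x : 𝔛.X 0) (hx : x ∈ W) (u : ModSite.stalkAb (pt x) ((Kc h g I k).homology j)),
      fx (colimit.ι D (AsSmall.up.obj (n + e))) x (gH (𝔛.Osh h.1) hx (g k) ^ e • u) =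
        fx (colimit.ι D (AsSmall.up.obj n)) x u := by
    intro n e x hx
    induction e with
    | zero => intro u; rw [pow_zero, one_smul]; rfl
    | succ e ih =>
      intro u
      have hw : m ≫ colimit.ι D (AsSmall.up.obj (n + e + 1)) = colimit.ι D (AsSmall.up.obj (n + e)) := by
        have h1 := colimit.w D (AsSmall.up.map (homOfLE (Nat.le_add_right (n + e) 1)))
        rwa [show D.map (AsSmall.up.map (homOfLE (Nat.le_add_right (n + e) 1))) = m from
          Functor.ofSequence_map_homOfLE_succ _ (n + e)] at h1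
      rw [pow_succ', mul_smul, ← fx_homologyMap_mulCx h g I k (g k) j x hx]
      exact (fx_comp m (colimit.ι D (AsSmall.up.obj (n + e + 1))) x _).trans
        ((congrArg (fun f => fx f x _) hw).trans (ih u))
  have hinv : ∀ (n : ℕ) (x : 𝔛.X 0) (hx : x ∈ W) (u : ModSite.stalkAb (pt x) ((Kc h g I k).homology j)),
      gH (𝔛.Osh h.1) hx (g k) ^ n • fx (a n) x u = fx p x u := by
    intro n x hx
    induction n with
    | zero => intro u; rw [pow_zero, one_smul]; rfl
    | succ n ih =>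
      intro u
      rw [pow_succ, mul_smul, ← fx_homologyMap_mulQ h g I k j x hx, fx_comp]
      refine Eq.trans (congrArg (fun f => _ • fx f x u) ?_) (ih u)
      exact (Category.assoc _ _ _).trans ((congrArg (a n ≫ ·) (IsIso.inv_hom_id q)).trans (Category.comp_id _))
  have hbij : ∀ x ∈ W, Function.Bijective (fx φ x) := fun x hx => by
    refine ⟨(injective_iff_map_eq_zero _).2 fun y hy => ?_, fun y => ?_⟩
    · haveI := RngSp.preservesColimits_stalkF (O := 𝔛.Osh h.1) x
      obtain ⟨n, u, hu⟩ := Types.jointly_surjective_of_isColimit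
        (isColimitOfPreserves (RngSp.stalkF (𝔛.Osh h.1) x ⋙ CategoryTheory.forget AddCommGrpCat.{u})
          (colimit.isColimit D)) y
      have hu' : fx (colimit.ι D n) x u = y := hu
      obtain ⟨n, rfl⟩ : ∃ n' : ℕ, AsSmall.up.obj n' = n := ⟨AsSmall.down.obj n, rfl⟩
      obtain ⟨u, rfl⟩ : ∃ u' : ModSite.stalkAb (pt x) ((Kc h g I k).homology j), u' = u := ⟨u, rfl⟩
      rw [← hu', fx_comp, hφ] at hy
      have hp : fx p x u = 0 :=
        (hinv n x hx u).symm.trans ((congrArg (gH (𝔛.Osh h.1) hx (g k) ^ n • ·) hy).trans (smul_zero _))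
      obtain ⟨z, hz⟩ := exists_rep_of_homology _ u
      obtain ⟨q₀, hq₀⟩ := ((hz.map _ (cokernel.π (kIncl h g I k))).eq_zero_iff _ (i := j - 1) (by omega)).1 hp
      obtain ⟨v, rfl⟩ := (haveI := epi_π_f h g I k (j - 1); fx_surjective_of_epi
        ((cokernel.π (kIncl h g I k)).f (j - 1)) x q₀)
      rw [fx_comp, (cokernel.π (kIncl h g I k)).comm, ← fx_comp, eq_comm, ← sub_eq_zero, ← map_sub] at hq₀
      obtain ⟨w, hw⟩ := exists_of_π_eq_zero h g I k j x _ hq₀
      obtain ⟨e, he⟩ := (fx_subι_mem (tS h g I (k + 1) j) w).1 hx k k.lt_succ_self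
      rw [← fx_kIncl_ι, hw, ← fx_smul_stalk] at he
      have hge : gH (𝔛.Osh h.1) hx (g k) ^ e • u = 0 := by
        refine ((hz.smul _ (gH (𝔛.Osh h.1) hx (g k) ^ e)).eq_zero_iff _ (i := j - 1) (by omega)).2
          ⟨gH (𝔛.Osh h.1) hx (g k) ^ e • v, ?_⟩
        rw [fx_smul_stalk, eq_comm, ← sub_eq_zero, ← smul_sub]
        exact fx_injective (subι (tS h g I k j)) x (he.trans (map_zero _).symm)
      rw [← hu', ← hpow n e x hx u, hge, map_zero]
    · obtain ⟨z, hz⟩ := exists_rep_of_homology _ y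
      obtain ⟨w, rfl⟩ := (haveI := epi_π_f h g I k j; fx_surjective_of_epi ((cokernel.π (kIncl h g I k)).f j) x z)
      have h1 := hz.cycle _ (j + 1)
      rw [fx_comp, (cokernel.π (kIncl h g I k)).comm, ← fx_comp] at h1
      obtain ⟨b, hb⟩ := exists_of_π_eq_zero h g I k (j + 1) x _ h1
      obtain ⟨e, he⟩ := (fx_subι_mem (tS h g I (k + 1) (j + 1)) b).1 hx k k.lt_succ_self
      rw [← fx_kIncl_ι, hb, ← fx_smul_stalk, ← fx_smul_stalk] at he
      obtain ⟨u, hu⟩ := exists_rep_of_cycle (Kc h g I k) (l := j + 1) rfl (gH (𝔛.Osh h.1) hx (g k) ^ e • w)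
        (fx_injective (subι (tS h g I k (j + 1))) x (he.trans (map_zero _).symm))
      refine ⟨fx (colimit.ι D (AsSmall.up.obj e)) x u, ?_⟩
      rw [fx_comp, hφ]
      have h2 := hu.map _ (cokernel.π (kIncl h g I k))
      rw [fx_smul_stalk] at h2
      have h3 : fx p x u = gH (𝔛.Osh h.1) hx (g k) ^ e • y := h2.unique _ (hz.smul _ _)
      rw [← hinv e x hx u] at h3
      have hpowinj : ∀ n : ℕ, Function.Injective fun t : ModSite.stalkAb (pt x) ((Qc h g I k).homology j) =>
          gH (𝔛.Osh h.1) hx (g k) ^ n • t := by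
        intro n
        induction n with
        | zero => intro s t hst; simpa using hst
        | succ n ih =>
          intro s t hst
          simp only [pow_succ, mul_smul] at hst
          have h4 := ih hst
          rw [← fx_homologyMap_mulQ h g I k j x hx, ← fx_homologyMap_mulQ h g I k j x hx] at h4
          exact fx_injective q x h4
      exact hpowinj e h3
  obtain ⟨ι, t, N, hm⟩ := hK
  exact ⟨_, _, _, model_push φ hbij (isModel_colimit (D := D) (fun _ => t) (fun _ => N) (fun _ => hm) (good h)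
    (colimit.isColimit D) hW)⟩

include hdiv in
theorem modelAt_homology_Kc (hW : IsAffineOpen W) (a b : ℤ)
    (h0 : ∀ i, a ≤ i → i ≤ b → modelAt h W ((Kc h g I 0).homology i)) :
    ∀ (k : ℕ) (i : ℤ), a + k ≤ i → i ≤ b → modelAt h W ((Kc h g I k).homology i) := by
  intro k
  induction k with
  | zero => exact fun i hi hi' => h0 i (by simpa using hi) hi'
  | succ k ih =>
    intro i hi hi'
    haveI := isWeakSerre_modelAt h hW
    have hS := shortExact_kSeq h g I k
    have e₁ := hS.homology_exact₂ (i - 1)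
    have e₂ := hS.homology_exact₃ (i - 1) i (show i - 1 + 1 = i by omega)
    have e₃ := hS.homology_exact₁ (i - 1) i (show i - 1 + 1 = i by omega)
    have e₄ := hS.homology_exact₂ i
    have hb1 : a + k ≤ i - 1 := by omega
    exact SiteCmpLib.prop_of_five e₂ e₃ e₄ (ih (i - 1) hb1 (by omega))
      (modelAt_homology_Qc h g I hdiv hW k _ (ih (i - 1) hb1 (by omega)))
      (ih i (by omega) hi') (modelAt_homology_Qc h g I hdiv hW k _ (ih i (by omega) hi'))

theorem bijective_Kc_zero (i : ℤ) (x : 𝔛.X 0) (hx : x ∈ W) :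
    Function.Bijective (fx ((subCxι I (tS h g I 0) (tS_stable h g I 0)).f i) x) := by
  refine fx_bijective_of_subι_top _ (openS_tS h g I 0 i) (eq_top_iff.2 fun z _ => ?_)
  exact ⟨fun _ r hr => absurd hr (Nat.not_lt_zero r), fun hx' => absurd hx hx'⟩

end Loc

theorem exists_models_nbhd (H : ℤ → FSch.ModF 𝔛 h.1) (hH : ∀ i, IsQC (H i)) (a : ℤ) (x : 𝔛.X 0)
    {Q : (𝔛.X 0).Opens} (hx : x ∈ Q) : ∀ n : ℕ, ∃ V : (𝔛.X 0).Opens, V ≤ Q ∧ x ∈ V ∧ IsAffineOpen V ∧
      ∀ i, a ≤ i → i < a + n → modelAt h V (H i) := by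
  intro n
  induction n with
  | zero =>
    obtain ⟨V, hV, hxV, hVQ⟩ := exists_affine (W := Q) hx
    exact ⟨V, hVQ, hxV, hV, fun i hi hi' => absurd hi' (by omega)⟩
  | succ n ih =>
    obtain ⟨V, hVQ, hxV, hV, hVi⟩ := ih
    obtain ⟨V', hV'V, hxV', hV', ι, t, N, hm⟩ := exists_model_nbhd h (hH (a + n)) hxV
    refine ⟨V', hV'V.trans hVQ, hxV', hV', fun i hi hi' => ?_⟩
    rcases lt_or_eq_of_le (show i ≤ a + n by omega) with hlt | rfl
    · obtain ⟨ι', t', N', hm'⟩ := hVi i hi hlt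
      exact ⟨_, _, _, hm'.mono hV'V⟩
    · exact ⟨_, _, _, hm⟩

/-- The torsion of a complex of injectives with quasi-coherent cohomology has quasi-coherent cohomology. -/
theorem isQC_homology_gammaT (I : CochainComplex (FSch.ModF 𝔛 h.1) ℤ) (hI : ∀ i, Injective (I.X i))
    (hH : ∀ i, IsQC (I.homology i)) (j : ℤ) :
    IsQC ((((FTors.gammaT 𝔛 h.1).mapHomologicalComplex (ComplexShape.up ℤ)).obj I).homology j) := by
  refine isQuasicoherent_of_models (M := ((((FTors.gammaT 𝔛 h.1).mapHomologicalComplex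
    (ComplexShape.up ℤ)).obj I).homology j)) fun x => ?_
  obtain ⟨W₀, hW₀, hx₀, -⟩ := exists_affine (W := (⊤ : (𝔛.X 0).Opens)) (x := x) trivial
  haveI := isNoetherianRing_Ox h hW₀
  obtain ⟨n, γ, hγ⟩ := Submodule.fg_iff_exists_fin_generating_family.1 (IsNoetherian.noetherian (J h W₀))
  obtain ⟨W, hWW, hxW, hW, hmod⟩ := exists_models_nbhd h (fun i => I.homology i) hH (j - n) x hx₀ (n + 1)
  haveI := isNoetherianRing_Ox h hW
  let γ' : Fin n → Ox h W := fun i => rO h hWW (γ i)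
  have hγ' : Submodule.span (Ox h W) (Set.range γ') = J h W := by
    rw [← map_rO_J h hW₀ hW hWW, ← hγ, Ideal.submodule_span_eq, Ideal.submodule_span_eq, Ideal.map_span,
      ← Set.range_comp]
    rfl
  let g := famG γ'
  have hdiv : ∀ (i : ℤ) (y : 𝔛.X 0) (hy : y ∈ W),
      letI : Module (Ox h W) (ModSite.stalkAb (pt y) (I.X i)) := Module.compHom _ (gH (𝔛.Osh h.1) hy)
      DivG g (ModSite.stalkAb (pt y) (I.X i)) := fun i y hy => by
    haveI := hI i
    exact divG_injective h (I.X i) hW hy g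
  have h0 : ∀ i, j - n ≤ i → i ≤ j → modelAt h W ((Kc h g I 0).homology i) := fun i hi hi' => by
    obtain ⟨ι, t, N, hm⟩ := hmod i hi (by omega)
    obtain ⟨t', ht'⟩ := model_pull (HomologicalComplex.homologyMap (subCxι I (tS h g I 0) (tS_stable h g I 0)) i)
      (fun y hy => bijective_homologyMap_of_bijective _ _ (fun i => bijective_Kc_zero h g I i y hy) i) hm
    exact ⟨_, _, _, ht'⟩
  obtain ⟨ι, t, N, hm⟩ := modelAt_homology_Kc h g I hdiv hW (j - n) j h0 n j (by omega) le_rfl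
  have hTT : ∀ (i : ℤ) (y : 𝔛.X 0) (hy : y ∈ W) (z : ModSite.stalkAb (pt y) (I.X i)),
      TorsAt h z ↔ z ∈ tS h g I n i y := fun i y hy z => by
    rw [torsAt_iff_TT h hW hy γ' hγ']
    constructor
    · intro hz
      refine ⟨fun hy' r hr => ?_, fun hy' => absurd hy hy'⟩
      obtain ⟨e, he⟩ := hz r hr
      refine ⟨e, ?_⟩
      change gH (𝔛.Osh h.1) hy (g r ^ e) • z = 0 at he
      rwa [map_pow] at he
    · intro hz r hr
      obtain ⟨e, he⟩ := hz.1 hy r hr
      refine ⟨e, ?_⟩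
      change gH (𝔛.Osh h.1) hy (g r ^ e) • z = 0
      rwa [map_pow]
  have hT : ∀ i, FTors.IsTorsF 𝔛 h.1 ((Kc h g I n).X i) := fun i => isTorsF_of_torsAt h fun y z => by
    by_cases hy : y ∈ W
    · obtain ⟨V, hV, hyV, k, hk⟩ := (hTT i y hy _).2 (fx_subι_mem (tS h g I n i) z)
      refine ⟨V, hV, hyV, k, fun a ha => fx_injective (subι (tS h g I n i)) y ?_⟩
      rw [fx_smul_stalk, map_zero]
      exact hk a ha
    · obtain ⟨V, hV, hyV, -⟩ := exists_affine (W := (⊤ : (𝔛.X 0).Opens)) (x := y) trivial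
      exact ⟨V, hV, hyV, 0, fun a _ => by rw [Kc_off h g I n i y hy z, smul_zero]⟩
  choose l hl using fun i => gammaTι_lift_aux h (hT i) (subι (tS h g I n i))
  let Φ : Kc h g I n ⟶ ((FTors.gammaT 𝔛 h.1).mapHomologicalComplex (ComplexShape.up ℤ)).obj I :=
    { f := l
      comm' := fun i i' _ => by
        haveI : Mono ((FTors.gammaTι 𝔛 h.1).app (I.X i')) := inferInstance
        rw [← cancel_mono ((FTors.gammaTι 𝔛 h.1).app (I.X i')), Category.assoc, Category.assoc, hl]
        exact ((congrArg (l i ≫ ·) ((FTors.gammaTι 𝔛 h.1).naturality (I.d i i'))).trans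
          ((Category.assoc _ _ _).symm.trans (congrArg (· ≫ I.d i i') (hl i)))).trans
            (subLift_subι (tS h g I n i) (tS h g I n i') (I.d i i') (tS_stable h g I n i i')).symm }
  have hbij : ∀ y ∈ W, ∀ i, Function.Bijective (fx (Φ.f i) y) := fun y hy i => by
    refine ⟨fun a b hab => fx_injective (subι (tS h g I n i)) y ?_, fun b => ?_⟩
    · rw [← hl i, ← fx_comp, ← fx_comp]
      exact congrArg _ hab
    · obtain ⟨v, hv⟩ := exists_fx_subι _ (openS_tS h g I n i)
        ((hTT i y hy _).1 ((torsAt_iff_exists_gamma h _).2 ⟨b, rfl⟩))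
      refine ⟨v, fx_injective ((FTors.gammaTι 𝔛 h.1).app (I.X i)) y ?_⟩
      rw [← hv]
      exact (fx_comp (l i) ((FTors.gammaTι 𝔛 h.1).app (I.X i)) y v).trans (congrArg (fun f => fx f y v) (hl i))
  exact ⟨W, _, _, _, hxW, model_push (HomologicalComplex.homologyMap Φ j)
    (fun y hy => bijective_homologyMap_of_bijective _ _ (hbij y hy) j) hm⟩

variable [FTors.HasRgammaT 𝔛 h.1]

/-- Derived torsion of complexes with quasi-coherent cohomology has quasi-coherent torsion cohomology. -/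
theorem isDQCT_RgammaT (E : DerivedCategory (FSch.ModF 𝔛 h.1)) (hE : ∀ i : ℤ, IsQC (SiteCmp.HMod E i)) :
    FTors.IsDQCT 𝔛 h.1 ((FTors.RgammaT 𝔛 h.1).obj E) := fun i => ⟨isDTorsF_RgammaT h E i, by
  obtain ⟨I, hI, hinj, ⟨e⟩⟩ := exists_kInjective_rep h E
  haveI := hI
  haveI := isIso_uR_app h I
  have hH : ∀ i, IsQC (I.homology i) := fun i => by
    obtain ⟨e₁⟩ := homology_iso_HMod h.1 I i
    exact (SheafOfModules.isQuasicoherent.{u} (ModSite.ringSh (𝔛.Osh h.1))).prop_of_iso
      (((homologyFunctor _ i).mapIso e).symm ≪≫ e₁) (hE i)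
  obtain ⟨e₂⟩ := homology_iso_HMod h.1 (((FTors.gammaT 𝔛 h.1).mapHomologicalComplex (ComplexShape.up ℤ)).obj I) i
  refine (SheafOfModules.isQuasicoherent.{u} (ModSite.ringSh (𝔛.Osh h.1))).prop_of_iso (e₂.symm ≪≫ (homologyFunctor _ i).mapIso
    ((Qh.mapIso (((FTors.gammaT 𝔛 h.1).mapHomotopyCategoryFactors (ComplexShape.up ℤ)).app I)).symm ≪≫
      asIso ((uR h.1).app (hq I)) ≪≫ (FTors.RgammaT 𝔛 h.1).mapIso e)) ?_
  exact isQC_homology_gammaT h I hinj hH i⟩

end Groth.Agent.FTorsL
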