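import Groth.Agent.FTorsL.RLevel
import Groth.Agent.SiteBase.FiniteCoverColimitAb

/-!
# Higher direct images and filtered colimits
-/

set_option autoImplicit false
set_option backward.isDefEq.respectTransparency false
set_option backward.isDefEq.respectTransparency.types false
set_option linter.style.haveILetI false

universe u

open CategoryTheory CategoryTheory.Limits AlgebraicGeometry TopologicalSpace Opposite
open Groth.Agent.H9FCoh Groth.Agent.ClosedRinged
open Groth.Agent.RngSp (pt gm mp fns)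

noncomputable section

namespace Groth.Agent.FTorsL

variable {𝔛 : FSch.Sys.{u}} (h : 𝔛.IsLocNoethFormal)

/-- The functoriality of the Godement module. -/
def godMap {M N : FSch.ModF 𝔛 h.1} (φ : M ⟶ N) : godMod M ⟶ godMod N :=
  ⟨PresheafOfModules.homMk
    { app := fun U => AddCommGrpCat.ofHom (AddMonoidHom.mk'
        (fun s => ((fun x => fx φ x.1 (s x)) : ∀ x : U.unop, ModSite.stalkAb (pt x.1) N))
        fun s t => funext fun x => map_add (fx φ x.1) (s x) (t x))
      naturality := fun U V i => AddCommGrpCat.ext fun s => rfl }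
    fun U r s => funext fun x => fx_smul φ x.2 r (s x)⟩

theorem toGodMod_godMap {M N : FSch.ModF 𝔛 h.1} (φ : M ⟶ N) : toGodMod M ≫ godMap h φ = φ ≫ toGodMod N := by
  refine SheafOfModules.hom_ext (PresheafOfModules.Hom.ext (funext fun U => ModuleCat.hom_ext
    (LinearMap.ext fun z => funext fun x => ?_)))
  exact fx_gm φ x.2 z

/-- The Godement module of each member of a diagram. -/
def godDiag {J : Type u} [SmallCategory J] (D : J ⥤ FSch.ModF 𝔛 h.1) : J ⥤ FSch.ModF 𝔛 h.1 where
  obj j := godMod (D.obj j)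
  map a := godMap h (D.map a)
  map_id j := SheafOfModules.hom_ext (PresheafOfModules.Hom.ext (funext fun U => ModuleCat.hom_ext
    (LinearMap.ext fun z => funext fun x => by
      change fx (D.map (𝟙 j)) x.1 (z x) = z x
      rw [D.map_id]
      exact DFunLike.congr_fun (congrArg AddCommGrpCat.Hom.hom ((RngSp.stalkF (𝔛.Osh h.1) x.1).map_id (D.obj j))) (z x))))
  map_comp a b := SheafOfModules.hom_ext (PresheafOfModules.Hom.ext (funext fun U => ModuleCat.hom_ext
    (LinearMap.ext fun z => funext fun x => by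
      change fx (D.map (a ≫ b)) x.1 (z x) = fx (D.map b) x.1 (fx (D.map a) x.1 (z x))
      rw [D.map_comp, fx_comp])))

/-- The embedding of a diagram into its Godement diagram. -/
def toGodDiag {J : Type u} [SmallCategory J] (D : J ⥤ FSch.ModF 𝔛 h.1) : D ⟶ godDiag h D where
  app j := toGodMod (D.obj j)
  naturality _ _ a := (toGodMod_godMap h (D.map a)).symm

section Colimit

variable {J : Type u} [SmallCategory J] [IsFiltered J]

include h in
/-- Sections of abelian sheaves on a Noetherian space commute with filtered colimits. -/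
theorem preservesColimits_sheafToPresheaf [CompactSpace (𝔛.X 0)] :
    PreservesColimitsOfShape J (sheafToPresheaf (Opens.grothendieckTopology (𝔛.X 0).toPresheafedSpace.carrier)
      AddCommGrpCat.{u}) :=
  haveI := noetherianSpace_X0 h
  SiteBase.preservesColimitsOfShape_sheafToPresheaf_ab (I := J)
    (J := Opens.grothendieckTopology (𝔛.X 0).toPresheafedSpace.carrier) (SiteBase.isQCSite_of_noetherianSpace _)

theorem isFlasqueF_colimit [CompactSpace (𝔛.X 0)] (D : J ⥤ FSch.ModF 𝔛 h.1) (c : Cocone D) (hc : IsColimit c)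
    (hD : ∀ j, IsFlasqueF h (D.obj j)) : IsFlasqueF h c.pt where
  epi {U V} i := by
    haveI := preservesColimits_sheafToPresheaf h (J := J)
    haveI := ModTensor.preservesColimits_toSheaf (𝔛.Osh h.1)
    refine (AddCommGrpCat.epi_iff_surjective _).2 fun x => ?_
    let Φ := SheafOfModules.toSheaf (ModSite.ringSh (𝔛.Osh h.1)) ⋙
      sheafToPresheaf _ AddCommGrpCat.{u} ⋙ (evaluation _ _).obj V
    obtain ⟨j, a, ha⟩ := Types.jointly_surjective _
      (isColimitOfPreserves (Φ ⋙ CategoryTheory.forget AddCommGrpCat.{u}) hc) x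
    obtain ⟨b, hb⟩ := (AddCommGrpCat.epi_iff_surjective _).1 ((hD j).epi i) a
    exact ⟨mp (c.ι.app j) U.unop b, (RngSp.mp_res (c.ι.app j) i.unop.le b).symm.trans
      ((congrArg (mp (c.ι.app j) V.unop) hb).trans ha)⟩

variable {𝔜 : FSch.Sys.{u}} (hY : 𝔜.IsLocNoethFormal) (g : 𝔛 ⟶ 𝔜)

theorem preservesFilteredColimit_pushF [CompactSpace (𝔛.X 0)] :
    PreservesColimitsOfShape J (FSch.pushF g h.1 hY.1) := ⟨fun {D} => ⟨fun {c} hc => ⟨by
  haveI := preservesColimits_sheafToPresheaf h (J := J)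
  haveI := ModTensor.preservesColimits_toSheaf (𝔛.Osh h.1)
  haveI := ModTensor.preservesColimits_toSheaf (𝔜.Osh hY.1)
  let TY : FSch.ModF 𝔜 hY.1 ⥤ TopCat.Sheaf AddCommGrpCat.{u} (𝔜.X 0).toPresheafedSpace.carrier :=
    SheafOfModules.toSheaf.{u} (ModSite.ringSh (𝔜.Osh hY.1))
  haveI : IsGrothendieckAbelian.{u} (FSch.ModF 𝔜 hY.1) :=
    S0484.result (Opens.grothendieckTopology (𝔜.X 0).toPresheafedSpace.carrier) (ModSite.ringSh (𝔜.Osh hY.1))
  haveI : PreservesColimitsOfShape J TY := inferInstanceAs (PreservesColimitsOfShape J (SheafOfModules.toSheaf.{u} _))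
  haveI : TY.ReflectsIsomorphisms := inferInstanceAs ((SheafOfModules.toSheaf.{u} _).ReflectsIsomorphisms)
  haveI : ReflectsColimitsOfShape J TY := reflectsColimitsOfShape_of_reflectsIsomorphisms
  let SP := sheafToPresheaf (Opens.grothendieckTopology (𝔜.X 0).toPresheafedSpace.carrier) AddCommGrpCat.{u}
  haveI : ReflectsColimitsOfShape J SP := fullyFaithful_reflectsColimits SP |>.reflectsColimitsOfShape
  refine isColimitOfReflects TY (isColimitOfReflects SP (evaluationJointlyReflectsColimits _ fun U => ?_))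
  exact isColimitOfPreserves (SheafOfModules.toSheaf (ModSite.ringSh (𝔛.Osh h.1)) ⋙
    sheafToPresheaf _ AddCommGrpCat.{u} ⋙ (evaluation _ _).obj (op (fU g U.unop))) hc⟩⟩⟩

include hY in
/-- Higher direct images of a filtered colimit are a colimit of higher direct images. -/
theorem exists_RpushF_colimit_diagram [CompactSpace (𝔛.X 0)] [HasInjectiveResolutions (FSch.ModF 𝔛 h.1)] :
    ∀ (p : ℕ) (D : J ⥤ FSch.ModF 𝔛 h.1), ∃ D' : J ⥤ FSch.ModF 𝔜 hY.1,
      (∀ j, Nonempty (D'.obj j ≅ (FSch.RpushF g h.1 hY.1 p).obj (D.obj j))) ∧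
      Nonempty (colimit D' ≅ (FSch.RpushF g h.1 hY.1 p).obj (colimit D)) := by
  haveI := enoughInjectives_of_hasInjectiveResolutions (C := FSch.ModF 𝔛 h.1)
  haveI : IsGrothendieckAbelian.{u} (FSch.ModF 𝔛 h.1) :=
    S0484.result (Opens.grothendieckTopology (𝔛.X 0).toPresheafedSpace.carrier) (ModSite.ringSh (𝔛.Osh h.1))
  haveI : IsGrothendieckAbelian.{u} (FSch.ModF 𝔜 hY.1) :=
    S0484.result (Opens.grothendieckTopology (𝔜.X 0).toPresheafedSpace.carrier) (ModSite.ringSh (𝔜.Osh hY.1))
  let P := FSch.pushF g h.1 hY.1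
  haveI : P.IsRightAdjoint := (FSch.homMor g h.1 hY.1).adj.isRightAdjoint
  haveI : PreservesFiniteLimits P := inferInstance
  haveI := preservesFilteredColimit_pushF h hY g (J := J)
  have hfl : ∀ (M : FSch.ModF 𝔛 h.1), IsFlasqueF h M → ∀ i, IsZero ((P.rightDerived (i + 1)).obj M) :=
    fun M hM i => isZero_RpushF_of_flasque h hY.1 g M hM i
  intro p
  induction p using Nat.strongRecOn with
  | ind p ih =>
  intro D
  let τ := toGodDiag h D
  haveI : ∀ j, Mono (τ.app j) := fun j => inferInstanceAs (Mono (toGodMod (D.obj j)))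
  haveI : Mono τ := NatTrans.mono_of_mono_app τ
  let S : ShortComplex (J ⥤ FSch.ModF 𝔛 h.1) := ShortComplex.mk τ (cokernel.π τ) (cokernel.condition _)
  have hS : S.ShortExact := { exact := ShortComplex.exact_of_g_is_cokernel _ (cokernelIsCokernel _) }
  have hSc : (S.map colim).ShortExact := hS.map_of_exact colim
  have hSj : ∀ j, (S.map ((evaluation J _).obj j)).ShortExact := fun j => hS.map_of_exact _
  have hj : ∀ j i, IsZero ((P.rightDerived (i + 1)).obj ((godDiag h D).obj j)) :=
    fun j => hfl _ (isFlasqueF_godMod h (D.obj j))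
  have hE : ∀ i, IsZero ((P.rightDerived (i + 1)).obj (colimit (godDiag h D))) :=
    hfl _ (isFlasqueF_colimit h _ _ (colimit.isColimit _) fun j => isFlasqueF_godMod h (D.obj j))
  match p with
  | 0 =>
    exact ⟨D ⋙ P, fun j => ⟨(P.rightDerivedZeroIsoSelf.app (D.obj j)).symm⟩,
      ⟨(preservesColimitIso P D).symm ≪≫ (P.rightDerivedZeroIsoSelf.app _).symm⟩⟩
  | 1 =>
    let w := Functor.whiskerRight S.g P
    have ej : ∀ j, Nonempty ((cokernel w).obj j ≅ (P.rightDerived 1).obj (D.obj j)) := fun j => by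
      obtain ⟨e⟩ := QCoh.nonempty_R1_iso P (hSj j) (hj j 0)
      exact ⟨(PreservesCokernel.iso ((evaluation J _).obj j) w) ≪≫ e.symm⟩
    obtain ⟨e⟩ := QCoh.nonempty_R1_iso P hSc (hE 0)
    exact ⟨cokernel w, ej, ⟨PreservesCokernel.iso (colim (J := J)) w ≪≫
      cokernel.mapIso _ _ ((preservesColimitNatIso P).symm.app S.X₂) ((preservesColimitNatIso P).symm.app S.X₃)
        ((preservesColimitNatIso P).inv.naturality S.g) ≪≫ e.symm⟩⟩
  | q + 2 =>
    obtain ⟨D', hD', ⟨e⟩⟩ := ih (q + 1) (by omega) S.X₃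
    obtain ⟨e'⟩ := QCoh.nonempty_shift_iso P hSc q (hE q) (hE (q + 1))
    refine ⟨D', fun j => ?_, ⟨e ≪≫ e'⟩⟩
    obtain ⟨ej⟩ := hD' j
    obtain ⟨ej'⟩ := QCoh.nonempty_shift_iso P (hSj j) q (hj j q) (hj j (q + 1))
    exact ⟨ej ≪≫ ej'⟩

end Colimit

end Groth.Agent.FTorsL
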