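import Groth.Agent.FTorsL.KRgamma
import Groth.Agent.H9FCoh.PushCoprod

/-!
# Derived torsion and coproducts
-/

set_option autoImplicit false
set_option backward.isDefEq.respectTransparency false
set_option backward.isDefEq.respectTransparency.types false
set_option linter.style.haveILetI false

universe u

open CategoryTheory CategoryTheory.Limits AlgebraicGeometry TopologicalSpace Opposite DerivedCategory
open Groth.Agent.H9FCoh Groth.Agent.ClosedRinged
open Groth.Agent.RngSp (pt gm mp fns)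

attribute [local instance] HasDerivedCategory.standard

noncomputable section

namespace Groth.Agent.FTorsL

section General

variable {T : TopCat.{u}} {O : TopCat.Sheaf CommRingCat.{u} T} {J : Type u} (M : J → ModSite.Mod O)

/-- The projection of a coproduct to a summand. -/
def sProj (i : J) : ∐ M ⟶ M i :=
  haveI := Classical.decEq J
  Sigma.desc fun j => if h : j = i then eqToHom (by rw [h]) else 0

theorem finEnd_eq_sum (G : Finset J) : finEnd M G = ∑ i ∈ G, sProj M i ≫ Sigma.ι M i := by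
  classical
  refine Sigma.hom_ext _ _ fun j => ?_
  rw [Preadditive.comp_sum]
  simp only [finEnd, sProj, colimit.ι_desc, colimit.ι_desc_assoc, Cofan.mk_ι_app]
  by_cases hj : j ∈ G
  · rw [if_pos hj, Finset.sum_eq_single j]
    · simp
    · intro b _ hb
      simp [Ne.symm hb]
    · exact fun h' => absurd hj h'
  · rw [if_neg hj, Finset.sum_eq_zero]
    intro b hb
    simp [show j ≠ b from fun e => hj (e ▸ hb)]

theorem fx_sum {A B : ModSite.Mod O} {ι : Type*} (s : Finset ι) (f : ι → (A ⟶ B)) (x : T)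
    (z : ModSite.stalkAb (pt x) A) : fx (∑ i ∈ s, f i) x z = ∑ i ∈ s, fx (f i) x z := by
  classical
  induction s using Finset.induction_on with
  | empty => rw [Finset.sum_empty, Finset.sum_empty, fx_zero]
  | insert a s ha ih => rw [Finset.sum_insert ha, Finset.sum_insert ha, fx_add, ih]

/-- A germ of a coproduct is the sum of finitely many of its components. -/
theorem exists_eq_sum_proj {x : T} (z : ModSite.stalkAb (pt x) (∐ M)) :
    ∃ S : Finset J, z = ∑ i ∈ S, fx (Sigma.ι M i) x (fx (sProj M i) x z) := by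
  obtain ⟨W, hx, s, rfl⟩ := RngSp.exists_gm z
  obtain ⟨V, hV, F, hxV, hF⟩ := exists_fix_nearby M s hx
  refine ⟨F, ?_⟩
  have h0 : fx (finEnd M F) x (gm (∐ M) hx s) = gm (∐ M) hx s := by
    rw [← RngSp.gm_res hV hxV s, fx_gm, hF F subset_rfl]
  conv_lhs => rw [← h0, finEnd_eq_sum, fx_sum]
  exact Finset.sum_congr rfl fun i _ => (fx_comp _ _ _ _).symm

end General

variable {𝔛 : FSch.Sys.{u}} (h : 𝔛.IsLocNoethFormal) {κ : Type u}

theorem divG_coprod (M : κ → FSch.ModF 𝔛 h.1) {W : (𝔛.X 0).Opens} {x : 𝔛.X 0} (hx : x ∈ W) (g : ℕ → Ox h W)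
    (hM : letI : ∀ N : FSch.ModF 𝔛 h.1, Module (Ox h W) (ModSite.stalkAb (pt x) N) := fun _ =>
        Module.compHom _ (gH (𝔛.Osh h.1) hx)
      ∀ i, DivG g (ModSite.stalkAb (pt x) (M i))) :
    letI : ∀ N : FSch.ModF 𝔛 h.1, Module (Ox h W) (ModSite.stalkAb (pt x) N) := fun _ =>
        Module.compHom _ (gH (𝔛.Osh h.1) hx)
    DivG g (ModSite.stalkAb (pt x) (∐ M)) := by
  letI : ∀ N : FSch.ModF 𝔛 h.1, Module (Ox h W) (ModSite.stalkAb (pt x) N) := fun _ =>
    Module.compHom _ (gH (𝔛.Osh h.1) hx)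
  intro k z hz q
  obtain ⟨S, hS⟩ := exists_eq_sum_proj M z
  let π : ∀ i, ModSite.stalkAb (pt x) (∐ M) →ₗ[Ox h W] ModSite.stalkAb (pt x) (M i) := fun i =>
    { toFun := fx (sProj M i) x
      map_add' := map_add _
      map_smul' := fun a w => fx_smul (sProj M i) hx a w }
  let ι : ∀ i, ModSite.stalkAb (pt x) (M i) →ₗ[Ox h W] ModSite.stalkAb (pt x) (∐ M) := fun i =>
    { toFun := fx (Sigma.ι M i) x
      map_add' := map_add _
      map_smul' := fun a w => fx_smul (Sigma.ι M i) hx a w }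
  choose w j hw hj using fun i => hM i k (π i z) (hz.map (π i)) q
  let N := ∑ i ∈ S, j i
  refine ⟨∑ i ∈ S, ι i (w i), N, ?_, ?_⟩
  · exact (ttSub (ModSite.stalkAb (pt x) (∐ M)) g k).sum_mem fun i _ => (hw i).map (ι i)
  · conv_lhs => rw [hS]
    change g k ^ N • (g k ^ q • ∑ i ∈ S, ι i (w i) - ∑ i ∈ S, ι i (π i z)) = 0
    rw [Finset.smul_sum, ← Finset.sum_sub_distrib, Finset.smul_sum]
    refine Finset.sum_eq_zero fun i hi => ?_
    have hN : N = (N - j i) + j i :=
      (Nat.sub_add_cancel (Finset.single_le_sum (fun a _ => Nat.zero_le (j a)) hi : j i ≤ N)).symm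
    rw [hN, pow_add, mul_smul, ← map_smul, ← map_sub, ← map_smul, hj, map_zero, smul_zero]

theorem isIso_gammaT_sigmaComparison (M : κ → FSch.ModF 𝔛 h.1) :
    IsIso (sigmaComparison (FTors.gammaT 𝔛 h.1) M) := by
  let G := FTors.gammaT 𝔛 h.1
  let c := sigmaComparison G M
  have hι : ∀ i, Sigma.ι (fun i => G.obj (M i)) i ≫ c ≫ (FTors.gammaTι 𝔛 h.1).app (∐ M) =
      (FTors.gammaTι 𝔛 h.1).app (M i) ≫ Sigma.ι M i := fun i => by
    rw [ι_comp_sigmaComparison_assoc]
    exact (FTors.gammaTι 𝔛 h.1).naturality (Sigma.ι M i)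
  refine isIso_of_bijective_fx c fun x => ⟨(injective_iff_map_eq_zero _).2 fun z hz => ?_, fun z => ?_⟩
  · obtain ⟨S, hS⟩ := exists_eq_sum_proj (fun i => G.obj (M i)) z
    rw [hS]
    refine Finset.sum_eq_zero fun i _ => ?_
    suffices h0 : fx (sProj (fun i => G.obj (M i)) i) x z = 0 by rw [h0, map_zero]
    haveI := mono_gammaTι h.1 (M i)
    refine fx_injective ((FTors.gammaTι 𝔛 h.1).app (M i)) x ?_
    have e : sProj (fun i => G.obj (M i)) i ≫ (FTors.gammaTι 𝔛 h.1).app (M i) =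
        (c ≫ (FTors.gammaTι 𝔛 h.1).app (∐ M)) ≫ sProj M i := by
      classical
      refine Sigma.hom_ext _ _ fun j => ?_
      rw [← Category.assoc, ← Category.assoc, Category.assoc (Sigma.ι _ j), hι, Category.assoc]
      simp only [sProj, colimit.ι_desc, Cofan.mk_ι_app]
      by_cases hji : j = i
      · subst hji; simp
      · simp [hji]
    rw [fx_comp, e, ← fx_comp, map_zero, show fx (c ≫ (FTors.gammaTι 𝔛 h.1).app (∐ M)) x z =
      fx ((FTors.gammaTι 𝔛 h.1).app (∐ M)) x (fx c x z) from (fx_comp _ _ _ _).symm, hz, map_zero, map_zero]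
  · haveI := mono_gammaTι h.1 (∐ M)
    obtain ⟨S, hS⟩ := exists_eq_sum_proj M (fx ((FTors.gammaTι 𝔛 h.1).app (∐ M)) x z)
    have ht := (torsAt_iff_exists_gamma h _).2 ⟨z, rfl⟩
    choose a ha using fun i => (torsAt_iff_exists_gamma h _).1 (ht.map (sProj M i))
    refine ⟨∑ i ∈ S, fx (Sigma.ι (fun i => G.obj (M i)) i) x (a i),
      fx_injective ((FTors.gammaTι 𝔛 h.1).app (∐ M)) x ?_⟩
    refine Eq.trans ?_ hS.symm
    rw [map_sum, map_sum]
    refine Finset.sum_congr rfl fun i _ => ?_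
    rw [← ha i, fx_comp, fx_comp, hι]
    exact (fx_comp _ _ _ _).symm

theorem preservesCoproducts_gammaT (M : κ → FSch.ModF 𝔛 h.1) :
    PreservesColimit (Discrete.functor M) (FTors.gammaT 𝔛 h.1) :=
  haveI := isIso_gammaT_sigmaComparison h M
  PreservesCoproduct.of_iso_comparison _ M

theorem divCx_coprod (I : κ → CochainComplex (FSch.ModF 𝔛 h.1) ℤ) (hI : ∀ a i, Injective ((I a).X i)) :
    DivCx h (∐ I) := fun x => by
  obtain ⟨W, hW, hx, -⟩ := exists_affine (W := (⊤ : (𝔛.X 0).Opens)) (x := x) trivial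
  haveI := isNoetherianRing_Ox h hW
  obtain ⟨n, g, hg⟩ := Submodule.fg_iff_exists_fin_generating_family.1 (IsNoetherian.noetherian (J h W))
  refine ⟨W, hW, hx, n, g, hg, fun i => ?_⟩
  letI : ∀ N : FSch.ModF 𝔛 h.1, Module (Ox h W) (ModSite.stalkAb (pt x) N) := fun _ =>
    Module.compHom _ (gH (𝔛.Osh h.1) hx)
  let e := PreservesCoproduct.iso (HomologicalComplex.eval (FSch.ModF 𝔛 h.1) (ComplexShape.up ℤ) i) I
  let e' : ModSite.stalkAb (pt x) (∐ fun a => (I a).X i) ≃+ ModSite.stalkAb (pt x) ((∐ I).X i) :=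
    { toFun := fx e.inv x
      invFun := fx e.hom x
      left_inv := fun z => by rw [fx_comp, e.inv_hom_id, fx_id]
      right_inv := fun z => by rw [fx_comp, e.hom_inv_id, fx_id]
      map_add' := map_add _ }
  exact DivG.transfer (g := famG g) (g' := famG g) e' (fun r m => fx_smul e.inv hx _ m)
    (divG_coprod h (fun a => (I a).X i) hx (famG g) fun a =>
      haveI := hI a i; divG_injective h ((I a).X i) hW hx (famG g))

end Groth.Agent.FTorsL
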