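import Groth.Agent.FTorsL.RColim
import Groth.Agent.FTorsL.QFilt
import Groth.Agent.H9FCoh.RCoprod
import Groth.Agent.SiteCmpLib.Secs.Amplitude
import Groth.Agent.S0036

/-!
# Higher direct images of quasi-coherent torsion modules
-/

set_option autoImplicit false
set_option backward.isDefEq.respectTransparency false
set_option backward.isDefEq.respectTransparency.types false
set_option linter.style.haveILetI false

universe u

open scoped ZeroObject
open CategoryTheory CategoryTheory.Limits AlgebraicGeometry TopologicalSpace Opposite DerivedCategory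
open Groth.Agent.H9FCoh Groth.Agent.ClosedRinged
open Groth.Agent.RngSp (pt gm mp fns)

attribute [local instance] HasDerivedCategory.standard

noncomputable section

namespace Groth.Agent.FTorsL

variable {𝔛 : FSch.Sys.{u}} (h : 𝔛.IsLocNoethFormal)

theorem eq_zero_of_isZero {Z : FSch.ModF 𝔛 h.1} (hZ : IsZero Z) {V : (𝔛.X 0).Opens} (z : Z.val.obj (op V)) :
    z = 0 := by
  have h0 : (𝟙 Z) = 0 := hZ.eq_of_src _ _
  exact congrArg (fun φ => mp φ V z) h0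

theorem isWeakSerre_qct : WSerre.IsWeakSerre (FTors.IsQCT 𝔛 h.1) where
  exists_zero := by
    obtain ⟨Z, hZ⟩ : ∃ Z : FSch.ModF 𝔛 h.1, IsZero Z := ⟨_, isZero_zero _⟩
    refine ⟨Z, hZ, (isQCT_iff h Z).2 ⟨isTorsF_of_torsAt h fun x u => ?_, lqP_zero h hZ⟩⟩
    obtain ⟨W, hW, hx, -⟩ := exists_affine (W := (⊤ : (𝔛.X 0).Opens)) (x := x) trivial
    refine ⟨W, hW, hx, 0, fun a _ => ?_⟩
    obtain ⟨V, hV, s, rfl⟩ := RngSp.exists_gm u
    rw [eq_zero_of_isZero h hZ s, RngSp.gm_zero, smul_zero]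
  kernels_le := by
    rintro _ ⟨f, k, hk, hX, hY⟩
    have h1 := isQCT_kernel h f hX hY
    let e := IsLimit.conePointUniqueUpToIso (kernelIsKernel f) hk
    exact (isQCT_iff h _).2 ⟨isTorsF_of_epi h e.hom h1.1, (lqP h).prop_of_iso e ((isQCT_iff h _).1 h1).2⟩
  cokernels_le := by
    rintro _ ⟨f, k, hk, hX, hY⟩
    let e := IsColimit.coconePointUniqueUpToIso (cokernelIsCokernel f) hk
    exact (isQCT_iff h _).2 ⟨isTorsF_of_epi h (cokernel.π f ≫ e.hom) hY.1,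
      (lqP h).prop_of_iso e (lqP_cokernel h f ((isQCT_iff h _).1 hX).2 ((isQCT_iff h _).1 hY).2)⟩
  prop_X₂_of_shortExact hS h₁ h₃ := (isQCT_iff h _).2
    ⟨isTorsF_extension h hS h₁.1 h₃.1, lqP_extension h hS ((isQCT_iff h _).1 h₁).2 ((isQCT_iff h _).1 h₃).2⟩

theorem isFP_of_iso {M N : FSch.ModF 𝔛 h.1} (e : M ≅ N) (hM : IsFP (O := 𝔛.Osh h.1) M) :
    IsFP (O := 𝔛.Osh h.1) N :=
  isFP_of_epi (good h) hM
    (isQC_of_lqP h N ((lqP h).prop_of_iso e (lqP_of_ind h M (ObjectProperty.le_ind.{u} _ _ hM)))) e.hom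

theorem isWeakSerre_fpP : WSerre.IsWeakSerre (fpP (𝔛.Osh h.1)) where
  exists_zero := by
    obtain ⟨Z, hZ, hl⟩ : ∃ Z : FSch.ModF 𝔛 h.1, IsZero Z ∧ lqP h Z :=
      ⟨_, isZero_zero _, lqP_zero h (isZero_zero _)⟩
    refine ⟨Z, hZ, isFP_of_isQC_of_isFT (good h) (isQC_of_lqP h Z hl) (RngSp.isFiniteType_iff.2 fun x => ?_)⟩
    refine ⟨⊤, PEmpty.{u + 1}, inferInstance, fun i => i.elim, trivial, fun V hV z y hy => ?_⟩
    refine ⟨V, le_rfl, hy, ?_⟩
    change res Z le_rfl z ∈ _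
    rw [eq_zero_of_isZero h hZ (res Z le_rfl z)]
    exact zero_mem _
  kernels_le := by
    rintro _ ⟨f, k, hk, hX, hY⟩
    exact isFP_of_iso h (IsLimit.conePointUniqueUpToIso (kernelIsKernel f) hk) (isFP_kernel (good h) hX hY f)
  cokernels_le := by
    rintro _ ⟨f, k, hk, hX, hY⟩
    exact isFP_of_iso h (IsColimit.coconePointUniqueUpToIso (cokernelIsCokernel f) hk) (isFP_cokernel (good h) hX hY f)
  prop_X₂_of_shortExact hS h₁ h₃ := isFP_extension h hS h₁ h₃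

/-- Coherent torsion modules. -/
def cohT : ObjectProperty (FSch.ModF 𝔛 h.1) :=
  fun M => FTors.IsQCT 𝔛 h.1 M ∧ IsFP (O := 𝔛.Osh h.1) M

theorem isWeakSerre_cohT : WSerre.IsWeakSerre (cohT h) :=
  haveI := isWeakSerre_qct h
  haveI := isWeakSerre_fpP h
  {
  exists_zero := by
    obtain ⟨Z, hZ, hq⟩ := (FTors.IsQCT 𝔛 h.1).exists_prop_of_containsZero
    exact ⟨Z, hZ, hq, SiteCmpLib.prop_of_isZero (fpP (𝔛.Osh h.1)) hZ⟩
  kernels_le := by
    rintro _ ⟨f, k, hk, hX, hY⟩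
    exact ⟨(FTors.IsQCT 𝔛 h.1).prop_of_iso (IsLimit.conePointUniqueUpToIso (kernelIsKernel f) hk)
      (isQCT_kernel h f hX.1 hY.1), (fpP (𝔛.Osh h.1)).prop_of_iso
      (IsLimit.conePointUniqueUpToIso (kernelIsKernel f) hk) ((fpP (𝔛.Osh h.1)).prop_kernel f hX.2 hY.2)⟩
  cokernels_le := by
    rintro _ ⟨f, k, hk, hX, hY⟩
    exact ⟨(FTors.IsQCT 𝔛 h.1).prop_of_iso (IsColimit.coconePointUniqueUpToIso (cokernelIsCokernel f) hk)
      ((FTors.IsQCT 𝔛 h.1).prop_cokernel f hX.1 hY.1), (fpP (𝔛.Osh h.1)).prop_of_iso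
      (IsColimit.coconePointUniqueUpToIso (cokernelIsCokernel f) hk) ((fpP (𝔛.Osh h.1)).prop_cokernel f hX.2 hY.2)⟩
  prop_X₂_of_shortExact hS h₁ h₃ := ⟨(FTors.IsQCT 𝔛 h.1).prop_X₂_of_shortExact hS h₁.1 h₃.1,
    (fpP (𝔛.Osh h.1)).prop_X₂_of_shortExact hS h₁.2 h₃.2⟩
  }

/-- An extension has its derived functors in a weak Serre class if the outer terms do. -/
theorem rightDerived_prop_extension {A : Type (u + 1)} [Category.{u} A] [Abelian A] [EnoughInjectives A]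
    {B : Type (u + 1)} [Category.{u} B] [Abelian B] (F : A ⥤ B) [F.Additive] [PreservesFiniteLimits F]
    (P : ObjectProperty B) [WSerre.IsWeakSerre P] {S : ShortComplex A} (hS : S.ShortExact)
    (h₁ : ∀ p, P ((F.rightDerived p).obj S.X₁)) (h₃ : ∀ p, P ((F.rightDerived p).obj S.X₃)) :
    ∀ p, P ((F.rightDerived p).obj S.X₂)
  | 0 => by
    let := HasDerivedCategory.standard A
    let := HasDerivedCategory.standard B
    obtain ⟨δ, w₁, w₂, w₃, e₁, e₂, -⟩ := TriCat.exists_rightDerived_ses F hS 0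
    haveI : Mono ((F.rightDerived 0).map S.f) := by
      haveI := hS.mono_f
      exact ((MorphismProperty.monomorphisms B).arrow_mk_iso_iff
        (Arrow.isoOfNatIso F.rightDerivedZeroIsoSelf (Arrow.mk S.f))).2 (show Mono (F.map S.f) from inferInstance)
    obtain ⟨Z, hZ, hPZ⟩ := P.exists_prop_of_containsZero
    exact SiteCmpLib.prop_of_five (f₁ := (0 : Z ⟶ _)) (w₁ := zero_comp)
      ((ShortComplex.exact_iff_mono _ rfl).2 (show Mono ((F.rightDerived 0).map S.f) from inferInstance))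
      e₁ e₂ hPZ (h₁ 0) (h₃ 0) (h₁ 1)
  | p + 1 => by
    let := HasDerivedCategory.standard A
    let := HasDerivedCategory.standard B
    obtain ⟨δ, -, -, w₃, -, -, e₃⟩ := TriCat.exists_rightDerived_ses F hS p
    obtain ⟨δ', w₁', w₂', -, e₁', e₂', -⟩ := TriCat.exists_rightDerived_ses F hS (p + 1)
    exact SiteCmpLib.prop_of_five e₃ e₁' e₂' (h₃ p) (h₁ (p + 1)) (h₃ (p + 1)) (h₁ (p + 2))

variable {𝔜 : FSch.Sys.{u}} (hY : 𝔜.IsLocNoethFormal) (g : 𝔛 ⟶ 𝔜)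
  [CompactSpace (𝔛.X 0)] [HasInjectiveResolutions (FSch.ModF 𝔛 h.1)]

theorem isIso_unit_lvP {M : FSch.ModF 𝔛 h.1} (hl : lqP h M) (hk : KilledJ h 1 M) :
    IsIso ((FSch.levelMor 𝔛 h.1 0).adj.unit.app M) :=
  isIso_of_bijective_mp _ fun W => ⟨(injective_iff_map_eq_zero _).2 fun z hz => injective_puL_unit h hl hk z hz,
    puL_surjective h hl hk W⟩

theorem isQCoh_lvP {M : FSch.ModF 𝔛 h.1} (hl : lqP h M) : Coh.IsQCoh (X := 𝔛.X 0) (lvP h 0 M) := by
  refine isQuasicoherent_of_models (O := (𝔛.X 0).sheaf) (M := lvP h 0 M) fun x => ?_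
  obtain ⟨V, hV, hxV, -⟩ := exists_affine (W := (⊤ : (𝔛.X 0).Opens)) (x := x) trivial
  obtain ⟨ι, t, N, hm⟩ := hl V hV
  exact ⟨_, _, _, _, (lvU_zero h V).ge hxV, isModel_lvP h 0 hm⟩

include hY in
theorem rpush_killed_qct {M : FSch.ModF 𝔛 h.1} (hl : lqP h M) (hk : KilledJ h 1 M) (p : ℕ) :
    FTors.IsQCT 𝔜 hY.1 ((FSch.RpushF g h.1 hY.1 p).obj M) := by
  haveI := h.2.2 0
  haveI : AlgebraicGeometry.IsNoetherian (𝔛.X 0) := {}
  haveI : HasInjectiveResolutions (𝔛.X 0).Modules := KFlatLib.hasInjectiveResolutions_modules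
  haveI : QuasiCompact (fl g 0) := ⟨fun U _ _ => NoetherianSpace.isCompact _⟩
  haveI : QuasiSeparated (fl g 0) := inferInstance
  haveI := isIso_unit_lvP h hl hk
  haveI := isWeakSerre_qct hY
  obtain ⟨e⟩ := nonempty_RpushF_lP h hY g (lvP h 0 M) p
  exact (FTors.IsQCT 𝔜 hY.1).prop_of_iso
    (((FSch.RpushF g h.1 hY.1 p).mapIso (asIso ((FSch.levelMor 𝔛 h.1 0).adj.unit.app M))) ≪≫ e).symm
    (isQCT_lP hY (QCoh.isQCoh_Rpush (fl g 0) (isQCoh_lvP h hl) p))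

include hY in
theorem rpush_killed_fp [IsProper (fl g 0)] {M : FSch.ModF 𝔛 h.1} (hl : lqP h M) (hF : IsFP (O := 𝔛.Osh h.1) M)
    (hk : KilledJ h 1 M) (p : ℕ) : IsFP (O := 𝔜.Osh hY.1) ((FSch.RpushF g h.1 hY.1 p).obj M) := by
  haveI := hY.2.2 0
  haveI : HasInjectiveResolutions (𝔛.X 0).Modules := KFlatLib.hasInjectiveResolutions_modules
  haveI := isIso_unit_lvP h hl hk
  haveI := isWeakSerre_fpP hY
  obtain ⟨e⟩ := nonempty_RpushF_lP h hY g (lvP h 0 M) p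
  exact (fpP (𝔜.Osh hY.1)).prop_of_iso
    (((FSch.RpushF g h.1 hY.1 p).mapIso (asIso ((FSch.levelMor 𝔛 h.1 0).adj.unit.app M))) ≪≫ e).symm
    (isFP_lP hY (S0036.result (fl g 0) _ (isCoh_pullSys h M hF 0) p))

theorem rpush_prop_of_killedJ (P : ObjectProperty (FSch.ModF 𝔜 hY.1)) [WSerre.IsWeakSerre P]
    (hP : ∀ (M : FSch.ModF 𝔛 h.1), lqP h M → IsFP (O := 𝔛.Osh h.1) M → KilledJ h 1 M →
      ∀ p, P ((FSch.RpushF g h.1 hY.1 p).obj M)) :
    ∀ (k : ℕ) (M : FSch.ModF 𝔛 h.1), FTors.IsTorsF 𝔛 h.1 M → IsFP (O := 𝔛.Osh h.1) M → KilledJ h k M →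
      ∀ p, P ((FSch.RpushF g h.1 hY.1 p).obj M) := by
  haveI := enoughInjectives_of_hasInjectiveResolutions (C := FSch.ModF 𝔛 h.1)
  haveI : (FSch.pushF g h.1 hY.1).IsRightAdjoint := (FSch.homMor g h.1 hY.1).adj.isRightAdjoint
  haveI : PreservesFiniteLimits (FSch.pushF g h.1 hY.1) := inferInstance
  intro k
  induction k with
  | zero =>
    exact fun M hT hF hk => hP M ((isQCT_iff h M).1 ⟨hT, isQC_of_isFP hF⟩).2 hF
      fun W hW x hx z => (hk W hW x hx z).mono (Nat.zero_le 1)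
  | succ k ih =>
    intro M hT hF hk
    have hl := ((isQCT_iff h M).1 ⟨hT, isQC_of_isFP hF⟩).2
    have hA : IsFP (O := 𝔛.Osh h.1) (sub (jS h M)) := isFP_jS h hl hF
    have hAT : FTors.IsTorsF 𝔛 h.1 (sub (jS h M)) := isTorsF_of_mono h (subι (jS h M)) hT
    have hAl : lqP h (sub (jS h M)) := ((isQCT_iff h _).1 ⟨hAT, isQC_of_isFP hA⟩).2
    let S := ShortComplex.mk (subι (jS h M)) (cokernel.π (subι (jS h M))) (cokernel.condition _)
    have hS : S.ShortExact := { exact := ShortComplex.exact_cokernel _ }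
    exact rightDerived_prop_extension (FSch.pushF g h.1 hY.1) P hS
      (fun p => ih _ hAT hA (killedJ_jS h hk) p)
      (fun p => hP _ (lqP_cokernel h _ hAl hl) (isFP_cokernel (good h) hA hF _) (killedJ_cokernel h) p)

include hY in
/-- Higher direct images preserve quasi-coherent torsion modules. -/
theorem isQCT_RpushF {M : FSch.ModF 𝔛 h.1} (hM : FTors.IsQCT 𝔛 h.1 M) (p : ℕ) :
    FTors.IsQCT 𝔜 hY.1 ((FSch.RpushF g h.1 hY.1 p).obj M) := by
  haveI := isWeakSerre_qct hY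
  obtain ⟨J, _, _, pres, hP, hmono⟩ := S19542.result 𝔛 h M (ind_of_isQCT h hM)
  obtain ⟨D', hD', ⟨e⟩⟩ := exists_RpushF_colimit_diagram h hY g p pres.diag
  have hT : ∀ j, FTors.IsTorsF 𝔛 h.1 (pres.diag.obj j) := fun j => by
    haveI := hmono j
    exact isTorsF_of_mono h (pres.ι.app j) hM.1
  have hj : ∀ j, FTors.IsQCT 𝔜 hY.1 (D'.obj j) := fun j => by
    obtain ⟨ej⟩ := hD' j
    obtain ⟨k, hk⟩ := exists_killedJ h (hT j) (hP j)
    exact (FTors.IsQCT 𝔜 hY.1).prop_of_iso ej.symm (rpush_prop_of_killedJ h hY g _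
      (fun N hl _ hk p => rpush_killed_qct h hY g hl hk p) k _ (hT j) (hP j) hk p)
  exact (FTors.IsQCT 𝔜 hY.1).prop_of_iso
    (e ≪≫ (FSch.RpushF g h.1 hY.1 p).mapIso ((colimit.isColimit _).coconePointUniqueUpToIso pres.isColimit))
    (isQCT_colimit hY (colimit.isColimit D') hj)

include hY in
/-- Higher direct images along pseudo-proper morphisms preserve coherent torsion modules. -/
theorem isFP_RpushF [IsProper (fl g 0)] {M : FSch.ModF 𝔛 h.1} (hM : cohT h M) (p : ℕ) :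
    IsFP (O := 𝔜.Osh hY.1) ((FSch.RpushF g h.1 hY.1 p).obj M) := by
  haveI := isWeakSerre_fpP hY
  obtain ⟨k, hk⟩ := exists_killedJ h hM.1.1 hM.2
  exact rpush_prop_of_killedJ h hY g (fpP (𝔜.Osh hY.1))
    (fun N hl hF hk p => rpush_killed_fp h hY g hl hF hk p) k M hM.1.1 hM.2 hk p

section Derived

variable [CompactSpace (𝔜.X 0)] [SiteCmp.HasRpushD (FSch.homMor g h.1 hY.1)]

omit [HasInjectiveResolutions (FSch.ModF 𝔛 h.1)] in
/-- The derived direct image preserves classes of cohomology sheaves. -/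
theorem cohIn_RpushD (P : ObjectProperty (FSch.ModF 𝔛 h.1)) [WSerre.IsWeakSerre P]
    (hPl : ∀ M, P M → lqP h M) (Q' : ObjectProperty (FSch.ModF 𝔜 hY.1)) [WSerre.IsWeakSerre Q']
    (h3 : ∀ [HasInjectiveResolutions (FSch.ModF 𝔛 h.1)] (M : FSch.ModF 𝔛 h.1), P M →
      ∀ p : ℕ, Q' ((FSch.RpushF g h.1 hY.1 p).obj M))
    (X : DerivedCategory (FSch.ModF 𝔛 h.1)) (hX : WSerre.cohIn P X) :
    WSerre.cohIn Q' ((SiteCmp.RpushD (FSch.homMor g h.1 hY.1)).obj X) := by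
  haveI : IsGrothendieckAbelian.{u} (FSch.ModF 𝔛 h.1) :=
    S0484.result (Opens.grothendieckTopology (𝔛.X 0).toPresheafedSpace.carrier) (ModSite.ringSh (𝔛.Osh h.1))
  haveI : HasInjectiveResolutions (FSch.ModF 𝔛 h.1) := inferInstance
  intro j
  obtain ⟨N, hN⟩ := exists_isIso_homology_trunc h hY.1 g
  let n : ℕ := ((N : ℤ) - j).toNat
  have := hN X (fun i => hPl _ (hX i)) n j (by omega)
  refine Q'.prop_of_iso (@asIso _ _ _ _ ((homologyFunctor (FSch.ModF 𝔜 hY.1) j).map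
    ((SiteCmp.RpushD (FSch.homMor g h.1 hY.1)).map ((TStructure.t.truncGEπ (-(n : ℤ))).app X))) this).symm ?_
  have : ((TStructure.t.truncGE (-(n : ℤ))).obj X).IsGE (-(n : ℤ)) := inferInstanceAs (TStructure.t.IsGE _ _)
  exact SiteCmpLib.Secs.cohIn_RG (FSch.homMor g h.1 hY.1).push P Q' (fun M hM p => h3 M hM p) _ (-(n : ℤ))
    (H9Misc.WayOut.P_truncGE P (hP := fun Z hZ => SiteCmpLib.prop_of_isZero P hZ) hX _) j

end Derived

end Groth.Agent.FTorsL
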