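import Groth.Agent.FTorsL.PushFP
import Groth.Agent.H9FCoh.PushCoprod
import Groth.Agent.QCoh.RpushGod

/-!
# Higher direct images of modules on the smallest level
-/

set_option autoImplicit false
set_option backward.isDefEq.respectTransparency false
set_option backward.isDefEq.respectTransparency.types false
set_option linter.style.haveILetI false

universe u

open CategoryTheory CategoryTheory.Limits AlgebraicGeometry TopologicalSpace Opposite
open Groth.Agent.H9FCoh Groth.Agent.ClosedRinged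
open Groth.Agent.RngSp (pt gm mp fns)

noncomputable section

namespace Groth.Agent.FTorsL

section Abstract

variable {A B C D : Type (u + 1)} [Category.{u} A] [Abelian A] [EnoughInjectives A] [Category.{u} B] [Abelian B]
  [EnoughInjectives B] [Category.{u} C] [Abelian C] [Category.{u} D] [Abelian D]
  (F : B ⥤ C) [F.Additive] [PreservesFiniteLimits F] (F₀ : A ⥤ D) [F₀.Additive] [PreservesFiniteLimits F₀]
  (I : A ⥤ B) [I.Additive] [PreservesFiniteLimits I] [PreservesFiniteColimits I]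
  (J : D ⥤ C) [J.Additive] [PreservesFiniteLimits J] [PreservesFiniteColimits J]

/-- Derived functors and exact functors sending injective objects to acyclic ones. -/
theorem nonempty_rightDerived_comp_iso (e : I ⋙ F ≅ F₀ ⋙ J)
    (hI : ∀ E : A, Injective E → ∀ i : ℕ, IsZero ((F.rightDerived (i + 1)).obj (I.obj E))) :
    ∀ (p : ℕ) (G : A), Nonempty ((F.rightDerived p).obj (I.obj G) ≅ J.obj ((F₀.rightDerived p).obj G))
  | 0, G => ⟨F.rightDerivedZeroIsoSelf.app (I.obj G) ≪≫ e.app G ≪≫ J.mapIso (F₀.rightDerivedZeroIsoSelf.app G).symm⟩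
  | 1, G => by
    let S := ShortComplex.mk (Injective.ι G) (cokernel.π (Injective.ι G)) (cokernel.condition _)
    have hS : S.ShortExact := { exact := ShortComplex.exact_of_g_is_cokernel _ (cokernelIsCokernel _) }
    obtain ⟨e₁⟩ := QCoh.nonempty_R1_iso F (hS.map_of_exact I) (hI _ inferInstance 0)
    obtain ⟨e₂⟩ := QCoh.nonempty_R1_iso F₀ hS (F₀.isZero_rightDerived_obj_injective_succ 0 _)
    exact ⟨e₁ ≪≫ cokernel.mapIso _ _ (e.app S.X₂) (e.app S.X₃) (e.hom.naturality S.g) ≪≫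
      (PreservesCokernel.iso J (F₀.map S.g)).symm ≪≫ J.mapIso e₂.symm⟩
  | p + 2, G => by
    let S := ShortComplex.mk (Injective.ι G) (cokernel.π (Injective.ι G)) (cokernel.condition _)
    have hS : S.ShortExact := { exact := ShortComplex.exact_of_g_is_cokernel _ (cokernelIsCokernel _) }
    obtain ⟨e₁⟩ := QCoh.nonempty_shift_iso F (hS.map_of_exact I) p (hI _ inferInstance p)
      (hI _ inferInstance (p + 1))
    obtain ⟨e₂⟩ := QCoh.nonempty_shift_iso F₀ hS p (F₀.isZero_rightDerived_obj_injective_succ p _)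
      (F₀.isZero_rightDerived_obj_injective_succ (p + 1) _)
    obtain ⟨e₃⟩ := nonempty_rightDerived_comp_iso e hI (p + 1) S.X₃
    exact ⟨e₁.symm ≪≫ e₃ ≪≫ J.mapIso e₂⟩

end Abstract

variable {𝔛 : FSch.Sys.{u}} (h : 𝔛.IsLocNoethFormal)

/-- The underlying abelian sheaf is flasque. -/
abbrev IsFlasqueF (M : FSch.ModF 𝔛 h.1) : Prop :=
  TopCat.Sheaf.IsFlasque (X := (𝔛.X 0).toPresheafedSpace.carrier) (abF h M)

theorem isFlasqueF_godMod (M : FSch.ModF 𝔛 h.1) : IsFlasqueF h (godMod M) where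
  epi {U V} i := by
    classical
    exact (AddCommGrpCat.epi_iff_surjective _).2 fun s =>
      ⟨fun x => if hx : x.1 ∈ V.unop then s ⟨x.1, hx⟩ else 0, funext fun y => dif_pos y.2⟩

theorem isFlasqueF_of_injective (I : FSch.ModF 𝔛 h.1) [Injective I] : IsFlasqueF h I where
  epi {U V} i := by
    refine (AddCommGrpCat.epi_iff_surjective _).2 fun s => ?_
    obtain ⟨t, ht⟩ := (AddCommGrpCat.epi_iff_surjective _).1 ((isFlasqueF_godMod h I).epi i)
      (mp (toGodMod I) V.unop s)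
    refine ⟨mp (Injective.factorThru (𝟙 I) (toGodMod I)) U.unop t, ?_⟩
    have h1 := congrArg (fun φ => mp φ V.unop s) (Injective.comp_factorThru (𝟙 I) (toGodMod I))
    refine Eq.trans (RngSp.mp_res (Injective.factorThru (𝟙 I) (toGodMod I)) i.unop.le t).symm ?_
    exact (congrArg (mp (Injective.factorThru (𝟙 I) (toGodMod I)) V.unop) ht).trans h1

theorem isFlasqueF_X₃ {S : ShortComplex (FSch.ModF 𝔛 h.1)} (hS : S.ShortExact) (h₁ : IsFlasqueF h S.X₁)
    (h₂ : IsFlasqueF h S.X₂) : IsFlasqueF h S.X₃ where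
  epi {U V} i := by
    refine (AddCommGrpCat.epi_iff_surjective _).2 fun t => ?_
    obtain ⟨b, hb⟩ := SiteBase.surjective_sections_of_HU_one (shortExact_abF h hS) V.unop
      (have := h₁; SiteBase.subsingleton_HU_of_isFlasque (X := (𝔛.X 0).toPresheafedSpace.carrier)
        (abF h S.X₁) V.unop 0) t
    obtain ⟨b', hb'⟩ := (AddCommGrpCat.epi_iff_surjective _).1 (h₂.epi i) b
    refine ⟨mp S.g U.unop b', ?_⟩
    refine Eq.trans (RngSp.mp_res S.g i.unop.le b').symm ?_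
    exact (congrArg (mp S.g V.unop) hb').trans hb

/-- Flasque modules have no higher direct images. -/
theorem isZero_RpushF_of_flasque {𝔜 : FSch.Sys.{u}} (h𝔜 : 𝔜.IsFormal) (g : 𝔛 ⟶ 𝔜)
    [HasInjectiveResolutions (FSch.ModF 𝔛 h.1)] (M : FSch.ModF 𝔛 h.1) (hM : IsFlasqueF h M) (i : ℕ) :
    IsZero ((FSch.RpushF g h.1 h𝔜 (i + 1)).obj M) := by
  haveI := enoughInjectives_of_hasInjectiveResolutions (C := FSch.ModF 𝔛 h.1)
  haveI : (FSch.pushF g h.1 h𝔜).IsRightAdjoint := (FSch.homMor g h.1 h𝔜).adj.isRightAdjoint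
  haveI : PreservesFiniteLimits (FSch.pushF g h.1 h𝔜) := inferInstance
  refine SitePullUnit.isZero_rightDerived_of_class (FSch.pushF g h.1 h𝔜) (IsFlasqueF h)
    (fun S hS h₁ h₂ => isFlasqueF_X₃ h hS h₁ (haveI := h₂; isFlasqueF_of_injective h _))
    (fun S hS h₁ _ => ?_) hM i
  have he : Epi ((SheafOfModules.toSheaf _).map ((FSch.pushF g h.1 h𝔜).map S.g)) := by
    refine (TopCat.Sheaf.isLocallySurjective_iff_epi _).1
      ((TopCat.Presheaf.isLocallySurjective_iff _).2 fun U t y hy => ?_)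
    obtain ⟨b, hb⟩ := SiteBase.surjective_sections_of_HU_one (shortExact_abF h hS) (fU g U)
      (have := h₁; SiteBase.subsingleton_HU_of_isFlasque (X := (𝔛.X 0).toPresheafedSpace.carrier)
        (abF h S.X₁) (fU g U) 0) t
    exact ⟨U, le_rfl, ⟨b, hb.trans (ConcreteCategory.congr_hom ((abF h S.X₃).presheaf.map_id _).symm t)⟩, hy⟩
  exact (SheafOfModules.toSheaf _).epi_of_epi_map he

/-- The direct image from the smallest level. -/
abbrev lP : (𝔛.X 0).Modules ⥤ FSch.ModF 𝔛 h.1 := (FSch.levelMor 𝔛 h.1 0).push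

theorem isFlasqueF_lP (G : (𝔛.X 0).Modules) (hG : QCoh.IsFlasqueMod G) : IsFlasqueF h ((lP h).obj G) where
  epi {U V} i := hG.epi ((Opens.map (𝔛.gInv h.1 0)).map i.unop).op

instance additive_lP : (lP h).Additive :=
  haveI : (lP h).IsRightAdjoint := (FSch.levelMor 𝔛 h.1 0).adj.isRightAdjoint
  Functor.additive_of_preserves_binary_products _

theorem preservesFiniteColimits_lP : PreservesFiniteColimits (lP h) := by
  haveI : (lP h).IsRightAdjoint := (FSch.levelMor 𝔛 h.1 0).adj.isRightAdjoint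
  haveI : PreservesFiniteLimits (lP h) := inferInstance
  haveI : (lP h).PreservesEpimorphisms := ⟨fun {A B} φ _ => by
    haveI := ModTensor.preservesColimits_toSheaf (𝔛.X 0).sheaf
    have hφ : Epi ((SheafOfModules.toSheaf _).map φ) := inferInstance
    have he : Epi ((SheafOfModules.toSheaf _).map ((lP h).map φ)) := by
      refine (TopCat.Sheaf.isLocallySurjective_iff_epi _).1
        ((TopCat.Presheaf.isLocallySurjective_iff _).2 fun U t y hy => ?_)
      have hy' : y ∈ (Opens.map (𝔛.gInv h.1 0)).obj U := (lvU_zero h U).ge hy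
      obtain ⟨O, hO, ⟨s, hs⟩, hyO⟩ := (TopCat.Presheaf.isLocallySurjective_iff _).1
        ((TopCat.Sheaf.isLocallySurjective_iff_epi _).2 hφ) _ t y hy'
      have hle : (Opens.map (𝔛.gInv h.1 0)).obj (O ⊓ U) ≤ O := (lvU_zero h (O ⊓ U)).le.trans inf_le_left
      refine ⟨O ⊓ U, inf_le_right, ⟨A.presheaf.map (homOfLE hle).op s, ?_⟩, hyO, hy⟩
      refine Eq.trans (ConcreteCategory.congr_hom (((SheafOfModules.toSheaf _).map φ).hom.naturality (homOfLE hle).op) s) ?_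
      refine Eq.trans (congrArg (B.presheaf.map (homOfLE hle).op) hs) ?_
      exact QCoh.map_map _ _ _
    exact (SheafOfModules.toSheaf _).epi_of_epi_map he⟩
  exact (Functor.preservesFiniteColimits_iff_forall_exact_map_and_epi (lP h)).2 fun S hS =>
    haveI := hS.epi_g
    ⟨((Functor.preservesFiniteLimits_iff_forall_exact_map_and_mono (lP h)).1 inferInstance S hS).1, inferInstance⟩

theorem gm_lP_eq_zero {G : (𝔛.X 0).Modules} {W : (𝔛.X 0).Opens} (z : ((lP h).obj G).val.obj (op W)) {x : 𝔛.X 0}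
    (hx : x ∈ W) (hz : gm ((lP h).obj G) hx z = 0) :
    ∃ (V : (𝔛.X 0).Opens) (hV : 𝔛.lvU h.1 0 V ≤ 𝔛.lvU h.1 0 W),
      x ∈ V ∧ G.presheaf.map (homOfLE hV).op z = 0 := by
  obtain ⟨V, hV, hxV, he⟩ := (RngSp.gm_eq_iff hx z 0).1 (hz.trans (RngSp.gm_zero hx).symm)
  exact ⟨V, lvU_mono h 0 hV, hxV, he.trans (map_zero _)⟩

theorem killedJ_lP (G : (𝔛.X 0).Modules) : KilledJ h 1 ((lP h).obj G) := by
  intro W hW x hx u a ha
  obtain ⟨V, hxV, z, rfl⟩ := RngSp.exists_gm u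
  obtain ⟨V', hV', hxV', hle⟩ := exists_affine (W := W ⊓ V) (x := x) ⟨hx, hxV⟩
  rw [← gH_rO h (hle.trans inf_le_left) hxV', ← RngSp.gm_res (hle.trans inf_le_right) hxV' z, ← gm_smul' h hxV']
  have h0 : pr h 0 V' (rO h (hle.trans inf_le_left) a) = 0 := by
    rw [← RingHom.mem_ker, ker_pr h hV', pow_one, ← map_rO_J h hW hV' (hle.trans inf_le_left)]
    rw [pow_one] at ha
    exact Ideal.mem_map_of_mem _ ha
  have h1 : HSMul.hSMul (α := fns (𝔛.Osh h.1) V') (rO h (hle.trans inf_le_left) a)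
      (res ((lP h).obj G) (hle.trans inf_le_right) z) = 0 := by
    change HSMul.hSMul (α := Γ(𝔛.X 0, 𝔛.lvU h.1 0 V')) (pr h 0 V' (rO h (hle.trans inf_le_left) a))
      (show Γ(G, 𝔛.lvU h.1 0 V') from res ((lP h).obj G) (hle.trans inf_le_right) z) = _
    rw [h0]
    exact zero_smul (Γ(𝔛.X 0, 𝔛.lvU h.1 0 V'))
      (show Γ(G, 𝔛.lvU h.1 0 V') from res ((lP h).obj G) (hle.trans inf_le_right) z)
  rw [h1, RngSp.gm_zero]

theorem isTorsF_lP (G : (𝔛.X 0).Modules) : FTors.IsTorsF 𝔛 h.1 ((lP h).obj G) :=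
  isTorsF_of_torsAt h fun x u => by
    obtain ⟨W, hW, hx, -⟩ := exists_affine (W := (⊤ : (𝔛.X 0).Opens)) (x := x) trivial
    exact ⟨W, hW, hx, 1, killedJ_lP h G W hW x hx u⟩

theorem exists_pow_kills_lP {G : (𝔛.X 0).Modules} (hG : Coh.IsQCoh G) {W : (𝔛.X 0).Opens} (hW : IsAffineOpen W)
    (g : Ox h W) (z : ((lP h).obj G).val.obj (op W))
    (hz : ∀ x (hx : x ∈ W), IsUnit (gH (𝔛.Osh h.1) hx g) → gm ((lP h).obj G) hx z = 0) :
    ∃ m, ∀ x (hx : x ∈ W), gH (𝔛.Osh h.1) hx g ^ m • gm ((lP h).obj G) hx z = 0 := by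
  let f : Γ(𝔛.X 0, 𝔛.lvU h.1 0 W) := pr h 0 W g
  let z₀ : Γ(G, 𝔛.lvU h.1 0 W) := z
  have h0 : G.presheaf.map (homOfLE ((𝔛.X 0).basicOpen_le f)).op z₀ = 0 := by
    refine QCoh.eq_zero_of_locally _ _ fun p hp => ?_
    have hpW : p ∈ W := (lvU_zero h W).le ((𝔛.X 0).basicOpen_le f hp)
    have hu : IsUnit (gH (𝔛.Osh h.1) hpW g) := (isUnit_gH_iff h 0 hpW g).2 hp
    obtain ⟨V, hV, hpV, hVz⟩ := gm_lP_eq_zero h z hpW (hz p hpW hu)
    refine ⟨𝔛.lvU h.1 0 V ⊓ (𝔛.X 0).basicOpen f, homOfLE inf_le_right, ⟨(lvU_zero h V).ge hpV, hp⟩, ?_⟩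
    have e1 := congrArg (QCoh.rs G (inf_le_left : 𝔛.lvU h.1 0 V ⊓ (𝔛.X 0).basicOpen f ≤ _))
      (hVz : QCoh.rs G hV z₀ = 0)
    rw [QCoh.rs_rs] at e1
    change QCoh.rs G inf_le_right (QCoh.rs G ((𝔛.X 0).basicOpen_le f) z₀) = 0
    rw [QCoh.rs_rs]
    exact e1.trans (map_zero _)
  obtain ⟨n, hn⟩ := QCoh.exists_pow_smul_eq_zero hG (affine_lvU h hW 0) f z₀ h0
  refine ⟨n, fun x hx => ?_⟩
  rw [← map_pow, ← gm_smul' h hx]
  have h1 : HSMul.hSMul (α := fns (𝔛.Osh h.1) W) (g ^ n) z = 0 := by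
    change HSMul.hSMul (α := Γ(𝔛.X 0, 𝔛.lvU h.1 0 W)) (pr h 0 W (g ^ n)) z₀ = _
    rw [map_pow]
    exact hn
  rw [h1, RngSp.gm_zero]

/-- Direct images of quasi-coherent modules from the smallest level are quasi-coherent torsion. -/
theorem isQCT_lP {G : (𝔛.X 0).Modules} (hG : Coh.IsQCoh G) : FTors.IsQCT 𝔛 h.1 ((lP h).obj G) := by
  refine (isQCT_iff h _).2 ⟨isTorsF_lP h G, lqP_of_extKills h (isTorsF_lP h G)
    (fun W hW g z hz => exists_pow_kills_lP h hG hW g z hz) fun W hW g D hDW hD s => ?_⟩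
  let f : Γ(𝔛.X 0, 𝔛.lvU h.1 0 W) := pr h 0 W g
  have hf : (𝔛.X 0).basicOpen f ≤ 𝔛.lvU h.1 0 D := fun p hp =>
    (lvU_zero h D).ge (hD p ((lvU_zero h W).le ((𝔛.X 0).basicOpen_le f hp)) ((isUnit_gH_iff h 0 _ g).2 hp))
  obtain ⟨n, t, ht⟩ := QCoh.exists_pow_smul_eq_map hG (affine_lvU h hW 0) f
    (G.presheaf.map (homOfLE hf).op (show Γ(G, 𝔛.lvU h.1 0 D) from s))
  let z : ((lP h).obj G).val.obj (op W) := t
  let d : ((lP h).obj G).val.obj (op D) :=
    res _ hDW z - HSMul.hSMul (α := fns (𝔛.Osh h.1) D) (rO h hDW g ^ n) s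
  have hd : ∀ x (hx : x ∈ D), IsUnit (gH (𝔛.Osh h.1) (hDW hx) g) → gm ((lP h).obj G) hx d = 0 := fun x hx hu => by
    have hxf : x ∈ (𝔛.X 0).basicOpen f := (isUnit_gH_iff h 0 (hDW hx) g).1 hu
    obtain ⟨V, hV, hxV, hVf⟩ := exists_affine (W := (𝔛.X 0).basicOpen f ⊓ D) (x := x) ⟨hxf, hx⟩
    rw [← RngSp.gm_res (hVf.trans inf_le_right) hxV d]
    have hb : 𝔛.lvU h.1 0 V ≤ (𝔛.X 0).basicOpen f := (lvU_zero h V).le.trans (hVf.trans inf_le_left)
    let s₀ : Γ(G, 𝔛.lvU h.1 0 D) := s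
    have h1 := congrArg (QCoh.rs G hb) (ht : QCoh.rs G ((𝔛.X 0).basicOpen_le f) t =
      QCoh.rf (𝔛.X 0) ((𝔛.X 0).basicOpen_le f) f ^ n • QCoh.rs G hf s₀)
    rw [QCoh.rs_rs, QCoh.rs_smul, QCoh.rs_rs] at h1
    replace h1 := h1.trans (congrArg (fun c => c • QCoh.rs G (hb.trans hf) s₀)
      ((map_pow ((𝔛.X 0).presheaf.map (homOfLE hb).op).hom _ n).trans
        (congrArg (fun c => c ^ n) (QCoh.rf_rf ((𝔛.X 0).basicOpen_le f) hb f))))
    have h2 : res ((lP h).obj G) (hVf.trans inf_le_right) d = 0 := by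
      rw [RngSp.res_sub, smul_fn_res h, map_pow, sub_eq_zero, res_res]
      change QCoh.rs G (lvU_mono h 0 ((hVf.trans inf_le_right).trans hDW)) t =
        HSMul.hSMul (α := Γ(𝔛.X 0, 𝔛.lvU h.1 0 V)) (pr h 0 V (rO h (hVf.trans inf_le_right) (rO h hDW g) ^ n))
          (QCoh.rs G (lvU_mono h 0 (hVf.trans inf_le_right)) s₀)
      rw [map_pow]
      refine h1.trans ?_
      refine congrArg (fun c => HSMul.hSMul (α := Γ(𝔛.X 0, 𝔛.lvU h.1 0 V)) (c ^ n) _) ?_
      rw [rr_rr]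
      exact rn_pr h 0 _ g
    rw [h2, RngSp.gm_zero]
  obtain ⟨κ, hκ, V, hVD, hcov, hVa⟩ := exists_cover (isCompact_of_le h hW hDW) IsAffineOpen
    fun x hx => by
      obtain ⟨V, hV, hxV, hVU⟩ := exists_affine (W := D) hx
      exact ⟨V, hVU, hxV, hV⟩
  choose m hm using fun a => exists_pow_kills_lP h hG (hVa a) (rO h ((hVD a).trans hDW) g)
    (res ((lP h).obj G) (hVD a) d) fun x hx hu => by
      rw [RngSp.gm_res]
      exact hd x (hVD a hx) (by rwa [gH_rO] at hu)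
  obtain ⟨N, hN⟩ := exists_bound m
  refine ⟨N + n, HSMul.hSMul (α := fns (𝔛.Osh h.1) W) (g ^ N) z, fun x hx => ?_⟩
  obtain ⟨a, ha⟩ := hcov x hx
  have h1 := hm a x ha
  rw [gH_rO, RngSp.gm_res] at h1
  have h2 : gH (𝔛.Osh h.1) (hDW hx) g ^ N • gm ((lP h).obj G) hx d = 0 := by
    obtain ⟨e, he⟩ := Nat.exists_eq_add_of_le (hN a)
    rw [he, add_comm, pow_add, mul_smul, h1, smul_zero]
  simp only [d] at h2
  rw [gm_sub, gm_smul' h, RngSp.gm_res, map_pow, gH_rO, smul_sub, sub_eq_zero, smul_smul, ← pow_add] at h2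
  rw [gm_smul' h, map_pow]
  exact h2

/-- Direct images of coherent modules from the smallest level are finitely presented. -/
theorem isFP_lP {G : (𝔛.X 0).Modules} (hG : Coh.IsCoh G) : IsFP (O := 𝔛.Osh h.1) ((lP h).obj G) := by
  have hN := isQCT_lP h hG.1
  refine isFP_of_isQC_of_isFT (good h) hN.2 (RngSp.isFiniteType_iff.2 fun y => ?_)
  obtain ⟨U, hU, hy, -⟩ := exists_affine (W := (⊤ : (𝔛.X 0).Opens)) (x := y) trivial
  obtain ⟨ι, t, N, hm⟩ := ((isQCT_iff h _).1 hN).2 U hU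
  haveI := h.2.2 0
  haveI := QCoh.finite_sections hG (affine_lvU h hU 0)
  obtain ⟨n, s, hs⟩ := Module.Finite.exists_fin (R := Γ(𝔛.X 0, 𝔛.lvU h.1 0 U)) (M := Γ(G, 𝔛.lvU h.1 0 U))
  let s' : Fin n → ((lP h).obj G).val.obj (op U) := s
  refine ⟨U, ULift.{u} (Fin n), inferInstance, fun i => s' i.down, hy, fun V hV z x hx => ?_⟩
  obtain ⟨W, hW, hxW, hle⟩ := hm.genOn V hV z x hx
  refine ⟨W, hW, hxW, Submodule.span_le.2 ?_ hle⟩
  rintro _ ⟨i, rfl⟩
  have hi : (show Γ(G, 𝔛.lvU h.1 0 U) from t i) ∈ Submodule.span Γ(𝔛.X 0, 𝔛.lvU h.1 0 U) (Set.range s) :=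
    hs ▸ Submodule.mem_top
  obtain ⟨c, hc⟩ := (Submodule.mem_span_range_iff_exists_fun _).1 hi
  choose a ha using fun j => pr_surjective h hU 0 (c j)
  have hc' : ∑ j, HSMul.hSMul (α := fns (𝔛.Osh h.1) U) (a j) (s' j) = t i := by
    refine Eq.trans (Finset.sum_congr rfl fun j _ => ?_) hc
    change HSMul.hSMul (α := Γ(𝔛.X 0, 𝔛.lvU h.1 0 U)) (pr h 0 U (a j)) (s j) = _
    rw [ha j]
  simp only [← hc']
  rw [show res ((lP h).obj G) (hW.trans hV) (∑ j, HSMul.hSMul (α := fns (𝔛.Osh h.1) U) (a j) (s' j)) =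
      ∑ j, HSMul.hSMul (α := fns (𝔛.Osh h.1) W) (rO h (hW.trans hV) (a j)) (res ((lP h).obj G) (hW.trans hV) (s' j))
      from eq_of_gm fun p hp => by
      rw [RngSp.gm_res, RngSp.gm_sum, RngSp.gm_sum]
      exact Finset.sum_congr rfl fun j _ => by rw [gm_smul' h, gm_smul' h, RngSp.gm_res, gH_rO]]
  exact Submodule.sum_mem _ fun j _ => Submodule.smul_mem _ _ (Submodule.subset_span ⟨ULift.up j, rfl⟩)

section Push

variable {𝔜 : FSch.Sys.{u}} (hY : 𝔜.IsLocNoethFormal) (f : 𝔛 ⟶ 𝔜)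

include hY in
/-- Higher direct images of modules on the smallest level. -/
theorem nonempty_RpushF_lP [HasInjectiveResolutions (FSch.ModF 𝔛 h.1)] [HasInjectiveResolutions (𝔛.X 0).Modules]
    (G : (𝔛.X 0).Modules) (p : ℕ) :
    Nonempty ((FSch.RpushF f h.1 hY.1 p).obj ((lP h).obj G) ≅ (lP hY).obj ((Coh.Rpush (fl f 0) p).obj G)) := by
  haveI := enoughInjectives_of_hasInjectiveResolutions (C := FSch.ModF 𝔛 h.1)
  haveI := enoughInjectives_of_hasInjectiveResolutions (C := (𝔛.X 0).Modules)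
  haveI : (lP h).IsRightAdjoint := (FSch.levelMor 𝔛 h.1 0).adj.isRightAdjoint
  haveI : (lP hY).IsRightAdjoint := (FSch.levelMor 𝔜 hY.1 0).adj.isRightAdjoint
  haveI : (FSch.pushF f h.1 hY.1).IsRightAdjoint := (FSch.homMor f h.1 hY.1).adj.isRightAdjoint
  haveI : PreservesFiniteLimits (FSch.pushF f h.1 hY.1) := inferInstance
  haveI := QCoh.preservesFiniteLimits_push (fl f 0)
  haveI := preservesFiniteColimits_lP h
  haveI := preservesFiniteColimits_lP hY
  exact nonempty_rightDerived_comp_iso (FSch.pushF f h.1 hY.1) (Scheme.Modules.pushforward (fl f 0)) (lP h) (lP hY)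
    (FSch.lvPushSq f h.1 hY.1 0)
    (fun E hE i => isZero_RpushF_of_flasque h hY.1 f _
      (isFlasqueF_lP h E (haveI := hE; QCoh.isFlasqueMod_of_injective E)) i) p G

end Push

end Groth.Agent.FTorsL
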