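import Groth.Agent.FTorsL.RCoprod
import Groth.Agent.FTorsL.Groth
import Groth.Agent.SiteCmpLib.Secs.DerivedProps

/-!
# A right adjoint of the derived torsion functor
-/

set_option autoImplicit false
set_option backward.isDefEq.respectTransparency false
set_option backward.isDefEq.respectTransparency.types false
set_option linter.style.haveILetI false

universe u

open CategoryTheory CategoryTheory.Limits AlgebraicGeometry TopologicalSpace Opposite DerivedCategory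
open Groth.Agent.H9FCoh

attribute [local instance] HasDerivedCategory.standard

noncomputable section

namespace Groth.Agent.FTorsL

section Transfer

/-- Preservation of a colimit from a natural transformation invertible on a colimit cocone. -/
theorem isColimit_mapCocone_of_natTrans {C D : Type*} [Category C] [Category D] {K : Type*} [Category K]
    {F : K ⥤ C} {Φ Ψ : C ⥤ D} (v : Φ ⟶ Ψ) {c : Cocone F} (hc : IsColimit (Φ.mapCocone c))
    (hj : ∀ j, IsIso (v.app (F.obj j))) (hpt : IsIso (v.app c.pt)) : Nonempty (IsColimit (Ψ.mapCocone c)) := by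
  haveI : ∀ X, IsIso ((Functor.whiskerLeft F v).app X) := fun X => hj X
  haveI : IsIso (Functor.whiskerLeft F v) := NatIso.isIso_of_isIso_app _
  refine ⟨(IsColimit.equivOfNatIsoOfIso (asIso (Functor.whiskerLeft F v)) (Φ.mapCocone c) (Ψ.mapCocone c)
    (Cocone.ext (@asIso _ _ _ _ (v.app c.pt) hpt) fun j => ?_)) hc⟩
  haveI := hj j
  have hn : Φ.map (c.ι.app j) ≫ v.app c.pt = v.app (F.obj j) ≫ Ψ.map (c.ι.app j) := v.naturality (c.ι.app j)
  change ((inv (Functor.whiskerLeft F v)).app j ≫ Φ.map (c.ι.app j)) ≫ v.app c.pt = Ψ.map (c.ι.app j)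
  rw [Category.assoc, hn, ← Category.assoc]
  have h1 : (inv (Functor.whiskerLeft F v)).app j ≫ v.app (F.obj j) = 𝟙 _ :=
    NatTrans.congr_app (IsIso.inv_hom_id (Functor.whiskerLeft F v)) j
  rw [h1]
  exact Category.id_comp _

end Transfer

variable {𝔛 : FSch.Sys.{u}} (h : 𝔛.IsLocNoethFormal) [FTors.HasRgammaT 𝔛 h.1]

/-- The comparison from termwise torsion to derived torsion. -/
def vR (hF : 𝔛.IsFormal) [FTors.HasRgammaT 𝔛 hF] :
    (FTors.gammaT 𝔛 hF).mapHomologicalComplex (ComplexShape.up ℤ) ⋙ Q ⟶ Q ⋙ FTors.RgammaT 𝔛 hF :=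
  Functor.whiskerLeft _ (quotientCompQhIso (FSch.ModF 𝔛 hF)).inv ≫ (Functor.associator _ _ _).inv ≫
    Functor.whiskerRight ((FTors.gammaT 𝔛 hF).mapHomotopyCategoryFactors (ComplexShape.up ℤ)).inv Qh ≫
    (Functor.associator _ _ _).hom ≫
    Functor.whiskerLeft (HomotopyCategory.quotient (FSch.ModF 𝔛 hF) (ComplexShape.up ℤ)) (uR hF) ≫
    (Functor.associator _ _ _).inv ≫
    Functor.whiskerRight (quotientCompQhIso (FSch.ModF 𝔛 hF)).hom (FTors.RgammaT 𝔛 hF)

theorem isIso_vR_app {K : CochainComplex (FSch.ModF 𝔛 h.1) ℤ} (hK : DivCx h K) : IsIso ((vR h.1).app K) := by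
  haveI := isIso_uR_app_of_divCx h hK
  unfold vR
  simp only [NatTrans.comp_app, Functor.whiskerLeft_app, Functor.whiskerRight_app, Functor.associator_inv_app,
    Functor.associator_hom_app]
  infer_instance

include h in
/-- Derived torsion commutes with coproducts. -/
theorem preservesColimit_RgammaT_discrete (ι : Type u) (E : ι → DerivedCategory (FSch.ModF 𝔛 h.1)) :
    PreservesColimit (Discrete.functor E) (FTors.RgammaT 𝔛 h.1) := by
  haveI := isGrothendieckAbelian_modF h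
  choose I hI hinj e using fun a => exists_kInjective_rep h (E a)
  let eE : ∀ a, Q.obj (I a) ≅ E a := fun a => ((quotientCompQhIso (FSch.ModF 𝔛 h.1)).app (I a)).symm ≪≫ (e a).some
  let Γc := (FTors.gammaT 𝔛 h.1).mapHomologicalComplex (ComplexShape.up ℤ)
  have hΓ : PreservesColimit (Discrete.functor I) Γc := by
    refine preservesColimit_of_preserves_colimit_cocone (coproductIsCoproduct I) ?_
    refine HomologicalComplex.isColimitOfEval _ _ fun i => ?_
    haveI := preservesCoproducts_gammaT h fun a => (I a).X i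
    haveI : PreservesColimit (Discrete.functor I ⋙ HomologicalComplex.eval (FSch.ModF 𝔛 h.1) (ComplexShape.up ℤ) i)
        (FTors.gammaT 𝔛 h.1) :=
      preservesColimit_of_iso_diagram _ (Discrete.natIso fun _ => Iso.refl _ :
        Discrete.functor (fun a => (I a).X i) ≅
          Discrete.functor I ⋙ HomologicalComplex.eval (FSch.ModF 𝔛 h.1) (ComplexShape.up ℤ) i)
    exact isColimitOfPreserves (HomologicalComplex.eval (FSch.ModF 𝔛 h.1) (ComplexShape.up ℤ) i ⋙ FTors.gammaT 𝔛 h.1)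
      (coproductIsCoproduct I)
  haveI hQΓ : PreservesColimit (Discrete.functor I ⋙ Γc) (Q (C := FSch.ModF 𝔛 h.1)) := by
    haveI := H9Misc.BrownGroth.preservesColimit_Q fun a => Γc.obj (I a)
    exact preservesColimit_of_iso_diagram _ (Discrete.natIso fun _ => Iso.refl _ :
      Discrete.functor (fun a => Γc.obj (I a)) ≅ Discrete.functor I ⋙ Γc)
  have hc := isColimitOfPreserves (Γc ⋙ Q) (coproductIsCoproduct I)
  obtain ⟨hc'⟩ := isColimit_mapCocone_of_natTrans (vR h.1) hc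
    (fun j => isIso_vR_app h (divCx_of_injective h (I j.as) (hinj j.as)))
    (isIso_vR_app h (divCx_coprod h I hinj))
  haveI := H9Misc.BrownGroth.preservesColimit_Q I
  haveI : PreservesColimit (Discrete.functor I ⋙ Q) (FTors.RgammaT 𝔛 h.1) :=
    preservesColimit_of_preserves_colimit_cocone (isColimitOfPreserves Q (coproductIsCoproduct I))
      (IsColimit.ofIsoColimit hc' (Cocone.ext (Iso.refl _) fun j => Category.comp_id _))
  exact preservesColimit_of_iso_diagram _ (Discrete.natIso fun j => eE j.as :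
    Discrete.functor I ⋙ Q ≅ Discrete.functor E)

include h in
theorem isLeftAdjoint_RgammaT : (FTors.RgammaT 𝔛 h.1).IsLeftAdjoint := by
  haveI := isGrothendieckAbelian_modF h
  obtain ⟨R', hR', hR'', ⟨e⟩⟩ := SiteCmpLib.Secs.exists_commShift_RG (FTors.gammaT 𝔛 h.1)
  haveI : ∀ ι : Type u, PreservesColimitsOfShape (Discrete ι) R' := fun ι =>
    ⟨fun {K} => by
      haveI := preservesColimit_RgammaT_discrete h ι fun j => K.obj ⟨j⟩
      haveI : PreservesColimit (Discrete.functor (K.obj ∘ Discrete.mk)) R' :=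
        @preservesColimit_of_natIso _ _ _ _ _ _ (Discrete.functor fun j => K.obj ⟨j⟩) _ _ e.symm ‹_›
      exact preservesColimit_of_iso_diagram _ Discrete.natIsoFunctor.symm⟩
  haveI := isLeftAdjoint_of_std R'
  exact Functor.isLeftAdjoint_of_iso e

/-- The right adjoint of derived torsion is a section over complexes with torsion cohomology. -/
theorem exists_iso_RgammaT_rightAdjoint {Λ : DerivedCategory (FSch.ModF 𝔛 h.1) ⥤ DerivedCategory (FSch.ModF 𝔛 h.1)}
    (adj : FTors.RgammaT 𝔛 h.1 ⊣ Λ) (G : DerivedCategory (FSch.ModF 𝔛 h.1)) (hG : FTors.IsDTorsF 𝔛 h.1 G) :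
    Nonempty ((FTors.RgammaT 𝔛 h.1).obj (Λ.obj G) ≅ G) := by
  refine ⟨@asIso _ _ _ _ (adj.counit.app G) ?_⟩
  have hb : ∀ Y, FTors.IsDTorsF 𝔛 h.1 Y →
      Function.Bijective (fun φ : Y ⟶ (FTors.RgammaT 𝔛 h.1).obj (Λ.obj G) => φ ≫ adj.counit.app G) := fun Y hY => by
    haveI := (isDTorsF_iff_isIso h Y).1 hY
    let εY := (FTors.RgammaTε 𝔛 h.1).app Y
    have h1 := comp_ε_bijective h (F := Λ.obj G) hY
    have h2 := (adj.homEquiv Y G).symm.bijective
    have h3 : Function.Bijective (fun ψ : (FTors.RgammaT 𝔛 h.1).obj Y ⟶ G => inv εY ≫ ψ) :=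
      ⟨fun a b e => (cancel_epi _).1 e, fun ψ => ⟨εY ≫ ψ, IsIso.inv_hom_id_assoc εY ψ⟩⟩
    convert h3.comp (h2.comp h1) using 1
    funext φ
    simp only [Function.comp_apply, Adjunction.homEquiv_counit, Functor.map_comp, εY]
    haveI := isIso_map_RgammaTε h (Λ.obj G)
    have nat : (FTors.RgammaT 𝔛 h.1).map φ ≫ (FTors.RgammaTε 𝔛 h.1).app ((FTors.RgammaT 𝔛 h.1).obj (Λ.obj G)) =
        (FTors.RgammaTε 𝔛 h.1).app Y ≫ φ := (FTors.RgammaTε 𝔛 h.1).naturality φ
    have idem : (FTors.RgammaTε 𝔛 h.1).app ((FTors.RgammaT 𝔛 h.1).obj (Λ.obj G)) =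
        (FTors.RgammaT 𝔛 h.1).map ((FTors.RgammaTε 𝔛 h.1).app (Λ.obj G)) := by
      refine (comp_ε_bijective h (isDTorsF_RgammaT h _)).1 ?_
      exact ((FTors.RgammaTε 𝔛 h.1).naturality ((FTors.RgammaTε 𝔛 h.1).app (Λ.obj G))).symm
    rw [← idem, nat, Category.assoc, IsIso.inv_hom_id_assoc]
  obtain ⟨g, hg⟩ := (hb G hG).2 (𝟙 G)
  exact ⟨g, (hb _ (isDTorsF_RgammaT h _)).1 (by
    change (adj.counit.app G ≫ g) ≫ adj.counit.app G = 𝟙 _ ≫ adj.counit.app G
    dsimp only at hg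
    rw [Category.assoc, hg]
    exact (Category.comp_id _).trans (Category.id_comp _).symm), hg⟩

theorem isLeftAdjoint_dqctilde_RpushD {𝔜 : FSch.Sys.{u}} (h𝔜 : 𝔜.IsFormal) (g : 𝔛 ⟶ 𝔜)
    [SiteCmp.HasRpushD (FSch.homMor g h.1 h𝔜)] [CompactSpace (𝔛.X 0)] [CompactSpace (𝔜.X 0)]
    [(FTors.IsQCT 𝔛 h.1).ContainsZero] [(FTors.IsQCT 𝔛 h.1).IsClosedUnderKernels]
    [(FTors.IsQCT 𝔛 h.1).IsClosedUnderCokernels] [(FTors.IsQCT 𝔛 h.1).IsClosedUnderFiniteProducts]
    [PreservesFiniteLimits (FTors.IsQCT 𝔛 h.1).ι] [PreservesFiniteColimits (FTors.IsQCT 𝔛 h.1).ι]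
    (hj : (FTors.IsQCT 𝔛 h.1).ι.mapDerivedCategory.Full ∧ (FTors.IsQCT 𝔛 h.1).ι.mapDerivedCategory.Faithful ∧
      ∀ G : DerivedCategory (FSch.ModF 𝔛 h.1),
        (FTors.IsQCT 𝔛 h.1).ι.mapDerivedCategory.essImage G ↔ FTors.IsDQCT 𝔛 h.1 G) :
    (ObjectProperty.ι (FTors.IsDQCTilde 𝔛 h.1) ⋙ FTors.RgammaT 𝔛 h.1 ⋙
      SiteCmp.RpushD (FSch.homMor g h.1 h𝔜)).IsLeftAdjoint := by
  haveI := isLeftAdjoint_RgammaT h
  let adj := Adjunction.ofIsLeftAdjoint (FTors.RgammaT 𝔛 h.1)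
  haveI hiso : (FTors.IsDQCT 𝔛 h.1).IsClosedUnderIsomorphisms :=
    ⟨fun e hX i => (isClosedUnderIsomorphisms_qct h).of_iso ((homologyFunctor _ i).mapIso e) (hX i)⟩
  have hΛ : ∀ G : (FTors.IsDQCT 𝔛 h.1).FullSubcategory,
      FTors.IsDQCTilde 𝔛 h.1 ((FTors.RgammaT 𝔛 h.1).rightAdjoint.obj G.obj) := fun G => by
    obtain ⟨e⟩ := exists_iso_RgammaT_rightAdjoint h adj G.obj fun i => (G.property i).1
    exact (FTors.IsDQCT 𝔛 h.1).prop_of_iso e.symm G.property
  let L : (FTors.IsDQCTilde 𝔛 h.1).FullSubcategory ⥤ (FTors.IsDQCT 𝔛 h.1).FullSubcategory :=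
    (FTors.IsDQCT 𝔛 h.1).lift ((FTors.IsDQCTilde 𝔛 h.1).ι ⋙ FTors.RgammaT 𝔛 h.1) fun E => E.property
  let R : (FTors.IsDQCT 𝔛 h.1).FullSubcategory ⥤ (FTors.IsDQCTilde 𝔛 h.1).FullSubcategory :=
    (FTors.IsDQCTilde 𝔛 h.1).lift ((FTors.IsDQCT 𝔛 h.1).ι ⋙ (FTors.RgammaT 𝔛 h.1).rightAdjoint) hΛ
  haveI : L.IsLeftAdjoint := ⟨R, ⟨adj.restrictFullyFaithful (ObjectProperty.fullyFaithfulι _)
    (ObjectProperty.fullyFaithfulι _) (Iso.refl _) (Iso.refl _)⟩⟩
  haveI := isLeftAdjoint_dqct_RpushD h h𝔜 g hj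
  exact Functor.isLeftAdjoint_of_iso (F := L ⋙ (FTors.IsDQCT 𝔛 h.1).ι ⋙ SiteCmp.RpushD (FSch.homMor g h.1 h𝔜))
    (NatIso.ofComponents (fun E => Iso.refl _) fun f => by
      exact (Category.comp_id _).trans (Category.id_comp _).symm)

end Groth.Agent.FTorsL
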