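import Groth.Agent.H9FCoh.Good
import Groth.Agent.H9FCoh.SchQ

/-!
# Units and fractions in the stalks of the structure sheaf of a formal scheme
-/

set_option autoImplicit false
set_option backward.isDefEq.respectTransparency false
set_option backward.isDefEq.respectTransparency.types false
set_option linter.style.haveILetI false

universe u

open CategoryTheory AlgebraicGeometry TopologicalSpace Opposite
open Groth.Agent.H9FCoh

noncomputable section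

namespace Groth.Agent.FTorsL

variable {𝔛 : FSch.Sys.{u}} (h : 𝔛.IsLocNoethFormal)

theorem gInv_toX (k : ℕ) (x : 𝔛.X 0) : 𝔛.gInv h.1 k (𝔛.toX k x) = x :=
  congrArg (fun q => q x) (𝔛.toX_base_gInv h.1 k)

theorem toX_mem_lvU (k : ℕ) {W : (𝔛.X 0).Opens} {x : 𝔛.X 0} :
    𝔛.toX k x ∈ 𝔛.lvU h.1 k W ↔ x ∈ W := by
  change 𝔛.gInv h.1 k (𝔛.toX k x) ∈ W ↔ x ∈ W
  rw [gInv_toX h]

theorem isUnit_of_pr (k : ℕ) {W : (𝔛.X 0).Opens} (hW : IsAffineOpen W) {a : Ox h W}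
    (ha : IsUnit (pr h k W a)) : IsUnit a := by
  haveI := isAdicComplete_Ox h hW
  obtain ⟨b, hb⟩ := ha.exists_right_inv
  obtain ⟨b, rfl⟩ := pr_surjective h hW k b
  have hmem : a * b - 1 ∈ Ideal.jacobson (⊥ : Ideal (Ox h W)) := by
    refine IsAdicComplete.le_jacobson_bot (J h W) ((Ideal.pow_le_self k.succ_ne_zero) ?_)
    rw [← ker_pr h hW, RingHom.mem_ker, map_sub, map_mul, hb, map_one, sub_self]
  have h1 := Ideal.mem_jacobson_bot.1 hmem 1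
  rw [mul_one, sub_add_cancel] at h1
  exact isUnit_of_mul_isUnit_left h1

theorem exists_affine {W : (𝔛.X 0).Opens} {x : 𝔛.X 0} (hx : x ∈ W) :
    ∃ V : (𝔛.X 0).Opens, IsAffineOpen V ∧ x ∈ V ∧ V ≤ W := by
  obtain ⟨V, hV, hxV, hVW⟩ := Opens.isBasis_iff_nbhd.1 (𝔛.X 0).isBasis_affineOpens hx
  exact ⟨V, hV, hxV, hVW⟩

/-- A function is a unit at a point iff its image on a level is. -/
theorem isUnit_gH_iff (k : ℕ) {W : (𝔛.X 0).Opens} {x : 𝔛.X 0} (hx : x ∈ W) (a : Ox h W) :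
    IsUnit (gH (𝔛.Osh h.1) hx a) ↔ 𝔛.toX k x ∈ (𝔛.X k).basicOpen (pr h k W a) := by
  have hres : ∀ {V : (𝔛.X 0).Opens} (hVW : V ≤ W),
      pr h k V (rO h hVW a) = (𝔛.X k).presheaf.map (homOfLE (lvU_mono h k hVW)).op (pr h k W a) :=
    fun hVW => (rn_pr h k hVW a).symm
  constructor
  · intro hu
    obtain ⟨b, hb⟩ := hu.exists_right_inv
    obtain ⟨V, hxV, b', rfl⟩ := exists_gH b
    obtain ⟨V', hV', hxV', he⟩ := exists_rr_eq_zero (U := W ⊓ V) (x := x) ⟨hx, hxV⟩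
      (a := rr _ inf_le_left a * rr _ inf_le_right b' - 1) (by
        rw [map_sub, map_mul, gH_rr, gH_rr, hb, map_one, sub_self])
    have h1 : IsUnit (pr h k V' (rO h (hV'.trans inf_le_left) a)) := by
      rw [map_sub, map_mul, map_one, rr_rr, rr_rr, sub_eq_zero] at he
      exact (IsUnit.of_mul_eq_one _ he).map (pr h k V')
    have h2 := (𝔛.X k).basicOpen_of_isUnit h1
    rw [hres, Scheme.basicOpen_res] at h2
    exact (h2.ge ((toX_mem_lvU h k).2 hxV')).2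
  · intro hm
    obtain ⟨V, hV, hxV, hVW⟩ := exists_affine (W := W ⊓ 𝔛.toX k ⁻¹ᵁ (𝔛.X k).basicOpen (pr h k W a))
      (x := x) ⟨hx, hm⟩
    have hle : 𝔛.lvU h.1 k V ≤ (𝔛.X k).basicOpen (pr h k W a) := by
      intro y hy
      obtain ⟨z, rfl⟩ := (FComplLib.surjective_toX h.1 k).surj y
      exact (hVW ((toX_mem_lvU h k).1 hy)).2
    have h1 : IsUnit (pr h k V (rO h (hVW.trans inf_le_left) a)) := by
      rw [hres]
      exact isUnit_rr_basicOpen (Y := 𝔛.X k) _ _ hle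
    have h2 := (isUnit_of_pr h k hV h1).map (gH (𝔛.Osh h.1) hxV)
    rwa [show gH (𝔛.Osh h.1) hxV (rO h (hVW.trans inf_le_left) a) = gH (𝔛.Osh h.1) hx a from gH_rr _ hxV a] at h2

/-- Sums of non-units of a stalk are non-units. -/
theorem isUnit_or_isUnit_of_add {x : 𝔛.X 0} (r₁ r₂ : St (𝔛.Osh h.1) x) (hu : IsUnit (r₁ + r₂)) :
    IsUnit r₁ ∨ IsUnit r₂ := by
  obtain ⟨V₁, hV₁, a₁, rfl⟩ := exists_gH r₁
  obtain ⟨V₂, hV₂, a₂, rfl⟩ := exists_gH r₂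
  have hx : x ∈ V₁ ⊓ V₂ := ⟨hV₁, hV₂⟩
  rw [← gH_rr inf_le_left hx a₁, ← gH_rr inf_le_right hx a₂] at hu ⊢
  rw [← map_add, isUnit_gH_iff h 0, Scheme.mem_basicOpen _ _ _ ((toX_mem_lvU h 0).2 hx), map_add, map_add] at hu
  rw [isUnit_gH_iff h 0, isUnit_gH_iff h 0, Scheme.mem_basicOpen _ _ _ ((toX_mem_lvU h 0).2 hx),
    Scheme.mem_basicOpen _ _ _ ((toX_mem_lvU h 0).2 hx)]
  exact IsLocalRing.isUnit_or_isUnit_of_isUnit_add hu

/-- Units at a point only inside a given neighbourhood. -/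
theorem exists_unit_nbhd {W W' : (𝔛.X 0).Opens} (hW : IsAffineOpen W) {x : 𝔛.X 0} (hx : x ∈ W)
    (hx' : x ∈ W') : ∃ g : Ox h W, IsUnit (gH (𝔛.Osh h.1) hx g) ∧
      ∀ y (hy : y ∈ W), IsUnit (gH (𝔛.Osh h.1) hy g) → y ∈ W' := by
  obtain ⟨g, hg, hxg⟩ := (affine_lvU h hW 0).exists_basicOpen_le (V := 𝔛.lvU h.1 0 W')
    ⟨_, (toX_mem_lvU h 0).2 hx'⟩ ((toX_mem_lvU h 0).2 hx)
  obtain ⟨g, rfl⟩ := pr_surjective h hW 0 g
  exact ⟨g, (isUnit_gH_iff h 0 hx g).2 hxg, fun y hy hu =>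
    (toX_mem_lvU h 0).1 (hg ((isUnit_gH_iff h 0 hy g).1 hu))⟩

/-- The open where a function is a unit. -/
theorem exists_unitOpen {W : (𝔛.X 0).Opens} (g : Ox h W) :
    ∃ D : (𝔛.X 0).Opens, D ≤ W ∧ ∀ y (hy : y ∈ W), y ∈ D ↔ IsUnit (gH (𝔛.Osh h.1) hy g) :=
  ⟨W ⊓ 𝔛.toX 0 ⁻¹ᵁ (𝔛.X 0).basicOpen (pr h 0 W g), inf_le_left, fun y hy =>
    ⟨fun hm => (isUnit_gH_iff h 0 hy g).2 hm.2, fun hu => ⟨hy, (isUnit_gH_iff h 0 hy g).1 hu⟩⟩⟩

/-- Elements of the stalk are fractions modulo powers of the ideal of definition. -/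
theorem exists_frac (k : ℕ) {W : (𝔛.X 0).Opens} (hW : IsAffineOpen W) {x : 𝔛.X 0} (hx : x ∈ W)
    (c : St (𝔛.Osh h.1) x) :
    ∃ a b : Ox h W, IsUnit (gH (𝔛.Osh h.1) hx a) ∧
      gH (𝔛.Osh h.1) hx a * c - gH (𝔛.Osh h.1) hx b ∈ (J h W ^ (k + 1)).map (gH (𝔛.Osh h.1) hx) := by
  obtain ⟨V, hxV, c', rfl⟩ := exists_gH c
  obtain ⟨g, hgx, hgV⟩ := exists_unit_nbhd h hW (W' := W ⊓ V) hx ⟨hx, hxV⟩
  let G := pr h k W g
  have hGV : (𝔛.X k).basicOpen G ≤ 𝔛.lvU h.1 k (W ⊓ V) := by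
    intro y hy
    obtain ⟨z, rfl⟩ := (FComplLib.surjective_toX h.1 k).surj y
    have hzW : z ∈ W := (toX_mem_lvU h k).1 ((𝔛.X k).basicOpen_le G hy)
    exact (toX_mem_lvU h k).2 (hgV z hzW ((isUnit_gH_iff h k hzW g).2 hy))
  obtain ⟨n, u, hu⟩ := exists_fraction (affine_lvU h hW k) G
    (Finsupp.single PUnit.unit.{1} ((𝔛.X k).presheaf.map (homOfLE hGV).op (pr h k (W ⊓ V) (rO h inf_le_right c'))))
  have hu' := DFunLike.congr_fun hu PUnit.unit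
  rw [pv_apply, Finsupp.smul_apply, Finsupp.single_eq_same, smul_eq_mul] at hu'
  obtain ⟨b, hb⟩ := pr_surjective h hW k (u PUnit.unit)
  refine ⟨g ^ n, b, by rw [map_pow]; exact hgx.pow n, ?_⟩
  obtain ⟨D, hD, hxD, hDW⟩ := exists_affine (W := (W ⊓ V) ⊓ 𝔛.toX k ⁻¹ᵁ (𝔛.X k).basicOpen G)
    (x := x) ⟨⟨hx, hxV⟩, (isUnit_gH_iff h k hx g).1 hgx⟩
  have hDW' : D ≤ W := hDW.trans (inf_le_left.trans inf_le_left)
  have hDV : D ≤ V := hDW.trans (inf_le_left.trans inf_le_right)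
  have hDG : 𝔛.lvU h.1 k D ≤ (𝔛.X k).basicOpen G := by
    intro y hy
    obtain ⟨z, rfl⟩ := (FComplLib.surjective_toX h.1 k).surj y
    exact (hDW ((toX_mem_lvU h k).1 hy)).2
  have he : rO h hDW' (g ^ n) * rO h hDV c' - rO h hDW' b ∈ J h D ^ (k + 1) := by
    rw [← ker_pr h hD, RingHom.mem_ker, map_sub, map_mul, map_pow, map_pow, ← rn_pr, ← rn_pr, ← rn_pr,
      sub_eq_zero, hb]
    have h2 := congrArg ((𝔛.X k).presheaf.map (homOfLE hDG).op).hom hu'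
    rw [RingHom.map_mul, RingHom.map_pow] at h2
    have e1 : ∀ z, (𝔛.X k).presheaf.map (homOfLE hDG).op (rs ((𝔛.X k).basicOpen_le G) z) = rn h k hDW' z :=
      fun z => by
        rw [rs, ← CommRingCat.comp_apply, ← Functor.map_comp]
        rfl
    have e2 : (𝔛.X k).presheaf.map (homOfLE hDG).op ((𝔛.X k).presheaf.map (homOfLE hGV).op
        (pr h k (W ⊓ V) (rO h inf_le_right c'))) = rn h k hDV (pr h k V c') := by
      rw [← rn_pr, ← CommRingCat.comp_apply, ← Functor.map_comp]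
      change (rn h k (hDW.trans inf_le_left)) (rn h k inf_le_right (pr h k V c')) = _
      rw [← RingHom.comp_apply]
      congr 1
      exact (congrArg CommRingCat.Hom.hom ((𝔛.levelObj h.1 k).obj.map_comp _ _)).symm
    rw [e1, e1, e2] at h2
    exact h2.symm
  rw [← map_rO_J h hW hD hDW', ← Ideal.map_pow] at he
  have h3 := Ideal.mem_map_of_mem (gH (𝔛.Osh h.1) hxD) he
  rw [Ideal.map_map, gH_comp_rr hDW' hxD, map_sub, map_mul] at h3
  rwa [show gH (𝔛.Osh h.1) hxD (rO h hDW' (g ^ n)) = gH (𝔛.Osh h.1) hx (g ^ n) from gH_rr _ hxD _,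
    show gH (𝔛.Osh h.1) hxD (rO h hDV c') = gH (𝔛.Osh h.1) hxV c' from gH_rr _ hxD _,
    show gH (𝔛.Osh h.1) hxD (rO h hDW' b) = gH (𝔛.Osh h.1) hx b from gH_rr _ hxD _] at h3

/-- An open ideal defining nothing where `g` is invertible contains a power of `g`. -/
theorem exists_pow_mem {k : ℕ} {W : (𝔛.X 0).Opens} (hW : IsAffineOpen W) {𝔞 : Ideal (Ox h W)}
    (hk : J h W ^ k ≤ 𝔞) (g : Ox h W)
    (hg : ∀ x (hx : x ∈ W), IsUnit (gH (𝔛.Osh h.1) hx g) → 𝔞.map (gH (𝔛.Osh h.1) hx) = ⊤) :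
    ∃ m, g ^ m ∈ 𝔞 := by
  change g ∈ 𝔞.radical
  rw [Ideal.radical_eq_sInf, Ideal.mem_sInf]
  rintro p ⟨hap, hp⟩
  by_contra hgp
  have hJp : RingHom.ker (pr h 0 W) ≤ p := fun r hr => hp.mem_of_pow_mem k ((hk.trans hap) (Ideal.pow_mem_pow hr k))
  have hsur := pr_surjective h hW 0
  haveI : (p.map (pr h 0 W)).IsPrime := Ideal.map_isPrime_of_surjective hsur hJp
  have hcm : (p.map (pr h 0 W)).comap (pr h 0 W) = p := by
    rw [Ideal.comap_map_of_surjective' _ hsur, sup_eq_left]; exact hJp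
  let q : PrimeSpectrum (On h 0 W) := ⟨p.map (pr h 0 W), inferInstance⟩
  obtain ⟨x, hx0⟩ := (FComplLib.surjective_toX h.1 0).surj ((affine_lvU h hW 0).fromSpec q)
  have hx : x ∈ W := (toX_mem_lvU h 0).1 (hx0 ▸ (affine_lvU h hW 0).range_fromSpec.le ⟨q, rfl⟩)
  have hiff : ∀ a, IsUnit (gH (𝔛.Osh h.1) hx a) ↔ a ∉ p := fun a => by
    rw [isUnit_gH_iff h 0, hx0]
    have h4 := iff_of_eq (congrArg (fun S : (Spec Γ(𝔛.X 0, 𝔛.lvU h.1 0 W)).Opens => q ∈ S)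
      ((affine_lvU h hW 0).fromSpec_preimage_basicOpen (pr h 0 W a)))
    refine Iff.trans h4 ?_
    change ¬ (pr h 0 W a ∈ p.map (pr h 0 W)) ↔ _
    rw [← Ideal.mem_comap, hcm]
  have key : ∀ r ∈ 𝔞.map (gH (𝔛.Osh h.1) hx), ¬ IsUnit r := by
    intro r hr
    induction hr using Submodule.span_induction with
    | mem r hr =>
      obtain ⟨a, ha, rfl⟩ := hr
      rw [hiff]
      exact not_not.2 (hap ha)
    | zero => exact fun hu => (hiff 0).not.2 (not_not.2 p.zero_mem) (by rwa [map_zero])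
    | add r s _ _ hr hs => exact fun hu => (isUnit_or_isUnit_of_add h r s hu).elim hr hs
    | smul c r _ hr => exact fun hu => hr (isUnit_of_mul_isUnit_right hu)
  exact key 1 ((hg x hx ((hiff g).2 hgp)).symm ▸ trivial) isUnit_one

end Groth.Agent.FTorsL
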