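import Groth.Agent.FTorsL.Stalk
import Groth.Agent.H9FCoh.LQ
import Groth.Agent.H9FCoh.Coherator
import Groth.Agent.H9FCoh.PushCoprod
import Groth.Prelude.Def_FTors3

/-!
# Torsion modules on formal schemes, germwise
-/

set_option autoImplicit false
set_option backward.isDefEq.respectTransparency false
set_option backward.isDefEq.respectTransparency.types false
set_option linter.style.haveILetI false

universe u

open CategoryTheory CategoryTheory.Limits AlgebraicGeometry TopologicalSpace Opposite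
open Groth.Agent.H9FCoh Groth.Agent.ClosedRinged Groth.Agent.ModPull
open Groth.Agent.RngSp (pt gm mp fns)

noncomputable section

namespace Groth.Agent.FTorsL

variable {𝔛 : FSch.Sys.{u}} (h : 𝔛.IsLocNoethFormal) {M : FSch.ModF 𝔛 h.1}

theorem gm_smul' {U : (𝔛.X 0).Opens} {x : 𝔛.X 0} (hx : x ∈ U) (a : Ox h U) (z : M.val.obj (op U)) :
    gm M hx (HSMul.hSMul (α := fns (𝔛.Osh h.1) U) a z) = gH (𝔛.Osh h.1) hx a • gm M hx z :=
  RngSp.gm_smul hx a z

theorem gH_rO {U V : (𝔛.X 0).Opens} (hVU : V ≤ U) {x : 𝔛.X 0} (hx : x ∈ V) (a : Ox h U) :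
    gH (𝔛.Osh h.1) hx (rO h hVU a) = gH (𝔛.Osh h.1) (hVU hx) a := gH_rr hVU hx a

/-- A power of the ideal of definition kills the germ. -/
def KillsAt {U : (𝔛.X 0).Opens} {x : 𝔛.X 0} (hx : x ∈ U) (k : ℕ) (z : ModSite.stalkAb (pt x) M) : Prop :=
  ∀ a ∈ J h U ^ k, gH (𝔛.Osh h.1) hx a • z = 0

variable {h}

theorem KillsAt.mono {U : (𝔛.X 0).Opens} {x : 𝔛.X 0} {hx : x ∈ U} {k l : ℕ}
    {z : ModSite.stalkAb (pt x) M} (hz : KillsAt h hx k z) (hkl : k ≤ l) : KillsAt h hx l z :=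
  fun a ha => hz a (Ideal.pow_le_pow_right hkl ha)

theorem KillsAt.of_le {U V : (𝔛.X 0).Opens} (hU : IsAffineOpen U) (hV : IsAffineOpen V) (hVU : V ≤ U)
    {x : 𝔛.X 0} (hx : x ∈ V) {k : ℕ} {z : ModSite.stalkAb (pt x) M} :
    KillsAt h (hVU hx) k z ↔ KillsAt h hx k z := by
  constructor
  · intro hz a ha
    rw [← map_rO_J h hU hV hVU, ← Ideal.map_pow] at ha
    induction ha using Submodule.span_induction with
    | mem a ha =>
      obtain ⟨b, hb, rfl⟩ := ha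
      rw [gH_rO]
      exact hz b hb
    | zero => rw [map_zero, zero_smul]
    | add a b _ _ iha ihb => rw [map_add, add_smul, iha, ihb, add_zero]
    | smul c a _ iha => rw [smul_eq_mul, map_mul, mul_smul, iha, smul_zero]
  · intro hz a ha
    rw [← gH_rO h hVU hx]
    refine hz _ ?_
    rw [← map_rO_J h hU hV hVU, ← Ideal.map_pow]
    exact Ideal.mem_map_of_mem _ ha

theorem KillsAt.change {U V : (𝔛.X 0).Opens} (hU : IsAffineOpen U) (hV : IsAffineOpen V) {x : 𝔛.X 0}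
    (hxU : x ∈ U) (hxV : x ∈ V) {k : ℕ} {z : ModSite.stalkAb (pt x) M} (hz : KillsAt h hxU k z) :
    KillsAt h hxV k z := by
  obtain ⟨W, hW, hxW, hWUV⟩ := exists_affine (W := U ⊓ V) (x := x) ⟨hxU, hxV⟩
  exact (KillsAt.of_le hV hW (hWUV.trans inf_le_right) hxW).2
    ((KillsAt.of_le hU hW (hWUV.trans inf_le_left) hxW).1 hz)

variable (h)

/-- The germ is torsion. -/
def TorsAt {x : 𝔛.X 0} (z : ModSite.stalkAb (pt x) M) : Prop :=
  ∃ (U : (𝔛.X 0).Opens) (_ : IsAffineOpen U) (hx : x ∈ U) (k : ℕ), KillsAt h hx k z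

variable {h}

theorem TorsAt.exists_kills {x : 𝔛.X 0} {z : ModSite.stalkAb (pt x) M} (hz : TorsAt h z)
    {U : (𝔛.X 0).Opens} (hU : IsAffineOpen U) (hx : x ∈ U) : ∃ k, KillsAt h hx k z := by
  obtain ⟨V, hV, hxV, k, hk⟩ := hz
  exact ⟨k, hk.change hV hU hxV hx⟩

variable (h)

theorem killedBy_of_affine {V : (𝔛.X 0).Opens} (hV : IsAffineOpen V) {k : ℕ} (s : M.val.obj (op V))
    (hs : ∀ x (hx : x ∈ V), KillsAt h hx (k + 1) (gm M hx s)) :
    FTors.KilledBy (FTors.openIdealFam 𝔛 h.1) M k s := by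
  intro W g a ha
  change HSMul.hSMul (α := fns (𝔛.Osh h.1) W) a (res M g.le s) = 0
  refine eq_of_gm fun x hx => ?_
  obtain ⟨W', hW', hxW', hle⟩ := exists_affine (W := W) hx
  rw [gm_smul' h hx a, RngSp.gm_res, RngSp.gm_zero, ← gH_rO h hle hxW']
  refine (hs x (g.le hx)).change hV hW' (g.le hx) hxW' _ ?_
  rw [← ker_pr h hW', RingHom.mem_ker, ← rn_pr]
  exact (congrArg (rn h k hle) ha).trans (map_zero _)

theorem kills_of_killedBy {V : (𝔛.X 0).Opens} {k : ℕ} {s : M.val.obj (op V)}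
    (hs : FTors.KilledBy (FTors.openIdealFam 𝔛 h.1) M k s) {W : (𝔛.X 0).Opens} (hW : IsAffineOpen W)
    (hWV : W ≤ V) {x : 𝔛.X 0} (hx : x ∈ W) : KillsAt h hx (k + 1) (gm M (hWV hx) s) := by
  intro a ha
  rw [← ker_pr h hW] at ha
  have h1 : HSMul.hSMul (α := fns (𝔛.Osh h.1) W) a (res M hWV s) = 0 := hs (homOfLE hWV) a ha
  have h2 := congrArg (gm M hx) h1
  rw [gm_smul' h hx a, RngSp.gm_res, RngSp.gm_zero] at h2
  exact h2

theorem torsAt_of_isTorsF (hM : FTors.IsTorsF 𝔛 h.1 M) {x : 𝔛.X 0} (z : ModSite.stalkAb (pt x) M) :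
    TorsAt h z := by
  obtain ⟨V, hxV, s, rfl⟩ := RngSp.exists_gm z
  obtain ⟨W, g, ⟨k, hk⟩, hxW⟩ := (show FTors.killSieve (FTors.openIdealFam 𝔛 h.1) M s ∈
    Opens.grothendieckTopology (𝔛.X 0) V from hM V s) x hxV
  obtain ⟨U, hU, hxU, hle⟩ := exists_affine (W := W) hxW
  have h1 : gm M (hle hxU) (FTors.res M g s) = gm M hxV s := RngSp.gm_res (M := M) g.le hxW s
  exact ⟨U, hU, hxU, k + 1, h1 ▸ kills_of_killedBy h hk hU hle hxU⟩

variable {h} in
theorem exists_nbhd_kills {V : (𝔛.X 0).Opens} {s : M.val.obj (op V)} {x : 𝔛.X 0} (hx : x ∈ V)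
    (hz : TorsAt h (gm M hx s)) :
    ∃ (W : (𝔛.X 0).Opens) (_ : IsAffineOpen W) (hWV : W ≤ V) (k : ℕ), x ∈ W ∧
      ∀ y (hy : y ∈ W), KillsAt h hy k (gm M (hWV hy) s) := by
  obtain ⟨U, hU, hxU, hUV⟩ := exists_affine (W := V) hx
  obtain ⟨k, hk⟩ := hz.exists_kills hU hxU
  haveI := isNoetherianRing_Ox h hU
  obtain ⟨n, a, ha⟩ := Submodule.fg_iff_exists_fin_generating_family.1 (IsNoetherian.noetherian (J h U ^ k))
  have hev : ∀ l, ∃ (W : (𝔛.X 0).Opens) (hW : W ≤ U), x ∈ W ∧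
      ∀ y (hy : y ∈ W), gH (𝔛.Osh h.1) (hW hy) (a l) • gm M (hUV (hW hy)) s = 0 := fun l => by
    have h0 := hk (a l) (ha ▸ Submodule.subset_span ⟨l, rfl⟩)
    rw [← RngSp.gm_res hUV hxU, ← gm_smul' h hxU, ← RngSp.gm_zero hxU] at h0
    obtain ⟨W, hW, hxW, he⟩ := (RngSp.gm_eq_iff hxU _ _).1 h0
    refine ⟨W, hW, hxW, fun y hy => ?_⟩
    have h2 := congrArg (gm M hy) he
    rw [RngSp.gm_res, RngSp.gm_res, gm_smul' h, RngSp.gm_res, RngSp.gm_zero] at h2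
    exact h2
  choose W hW hxW he using hev
  obtain ⟨W', hW', hxW', hle⟩ := exists_affine (W := U ⊓ ⨅ l, W l) (x := x)
    ⟨hxU, by exact (Opens.coe_iInf W).ge (Set.mem_iInter.2 hxW)⟩
  refine ⟨W', hW', (hle.trans inf_le_left).trans hUV, k, hxW', fun y hy => ?_⟩
  refine (KillsAt.of_le hU hW' (hle.trans inf_le_left) hy).1 fun b hb => ?_
  rw [← ha] at hb
  induction hb using Submodule.span_induction with
  | mem b hb =>
    obtain ⟨l, rfl⟩ := hb
    exact he l y ((hle.trans (inf_le_right.trans (iInf_le _ l))) hy)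
  | zero => rw [map_zero, zero_smul]
  | add b c _ _ ihb ihc => rw [map_add, add_smul, ihb, ihc, add_zero]
  | smul c b _ ihb => rw [smul_eq_mul, map_mul, mul_smul, ihb, smul_zero]

theorem isTorsF_of_torsAt (hM : ∀ (x : 𝔛.X 0) (z : ModSite.stalkAb (pt x) M), TorsAt h z) :
    FTors.IsTorsF 𝔛 h.1 M := by
  intro V s x hx
  obtain ⟨W, hW, hWV, k, hxW, hk⟩ := exists_nbhd_kills hx (hM x (gm M hx s))
  refine ⟨W, homOfLE hWV, ⟨k, ?_⟩, hxW⟩
  refine killedBy_of_affine h hW _ fun y hy => ?_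
  rw [show gm M hy (FTors.res M (homOfLE hWV) s) = gm M (hWV hy) s from RngSp.gm_res (M := M) hWV hy s]
  exact (hk y hy).mono k.le_succ

variable {h} in
theorem TorsAt.map {N : FSch.ModF 𝔛 h.1} (f : M ⟶ N) {x : 𝔛.X 0} {z : ModSite.stalkAb (pt x) M}
    (hz : TorsAt h z) : TorsAt h (fx f x z) := by
  obtain ⟨U, hU, hx, k, hk⟩ := hz
  refine ⟨U, hU, hx, k, fun a ha => ?_⟩
  obtain ⟨V, hV, s, rfl⟩ := RngSp.exists_gm z
  have h1 := hk a ha
  have e : gH (𝔛.Osh h.1) hx a • fx f x (gm M hV s) = fx f x (gH (𝔛.Osh h.1) hx a • gm M hV s) := by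
    rw [← gH_rO h (inf_le_left : U ⊓ V ≤ U) (show x ∈ U ⊓ V from ⟨hx, hV⟩),
      ← RngSp.gm_res (inf_le_right : U ⊓ V ≤ V) (show x ∈ U ⊓ V from ⟨hx, hV⟩), fx_gm,
      ← gm_smul' h, ← gm_smul' h, fx_gm]
    exact congrArg _ (LinearMap.map_smul _ _ _).symm
  rw [e, h1, map_zero]

theorem isTorsF_of_mono {N : FSch.ModF 𝔛 h.1} (f : M ⟶ N) [Mono f] (hN : FTors.IsTorsF 𝔛 h.1 N) :
    FTors.IsTorsF 𝔛 h.1 M := by
  refine isTorsF_of_torsAt h fun x z => ?_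
  obtain ⟨U, hU, hx, k, hk⟩ := torsAt_of_isTorsF h hN (fx f x z)
  refine ⟨U, hU, hx, k, fun a ha => fx_injective f x ?_⟩
  obtain ⟨V, hV, s, rfl⟩ := RngSp.exists_gm z
  have h1 := hk a ha
  rw [← gH_rO h (inf_le_left : U ⊓ V ≤ U) (show x ∈ U ⊓ V from ⟨hx, hV⟩),
    ← RngSp.gm_res (inf_le_right : U ⊓ V ≤ V) (show x ∈ U ⊓ V from ⟨hx, hV⟩)] at h1 ⊢
  rw [fx_gm, ← gm_smul' h, ← map_smul] at h1
  rw [map_zero, ← gm_smul' h, fx_gm]
  exact h1

theorem isTorsF_of_epi {N : FSch.ModF 𝔛 h.1} (f : M ⟶ N) [Epi f] (hM : FTors.IsTorsF 𝔛 h.1 M) :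
    FTors.IsTorsF 𝔛 h.1 N := by
  refine isTorsF_of_torsAt h fun x z => ?_
  obtain ⟨V, hV, s, rfl⟩ := RngSp.exists_gm z
  obtain ⟨W, hW, hxW, t, ht⟩ := RngSp.exists_mp_eq f s x hV
  have h1 := congrArg (gm N hxW) ht
  rw [RngSp.gm_res, ← fx_gm] at h1
  rw [← h1]
  exact (torsAt_of_isTorsF h hM _).map f

theorem isTorsF_extension {S : ShortComplex (FSch.ModF 𝔛 h.1)} (hS : S.ShortExact)
    (h₁ : FTors.IsTorsF 𝔛 h.1 S.X₁) (h₃ : FTors.IsTorsF 𝔛 h.1 S.X₃) : FTors.IsTorsF 𝔛 h.1 S.X₂ := by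
  refine isTorsF_of_torsAt h fun x z => ?_
  obtain ⟨U, hU, hx, k, hk⟩ := torsAt_of_isTorsF h h₃ (fx S.g x z)
  haveI := isNoetherianRing_Ox h hU
  obtain ⟨n, a, ha⟩ := Submodule.fg_iff_exists_fin_generating_family.1 (IsNoetherian.noetherian (J h U ^ k))
  have hl : ∀ l, ∃ m, KillsAt h hx m (gH (𝔛.Osh h.1) hx (a l) • z) := fun l => by
    obtain ⟨V, hV, s, rfl⟩ := RngSp.exists_gm z
    have hxI : x ∈ U ⊓ V := ⟨hx, hV⟩
    have h1 := hk (a l) (ha ▸ Submodule.subset_span ⟨l, rfl⟩)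
    rw [← gH_rO h (inf_le_left : U ⊓ V ≤ U) hxI, ← RngSp.gm_res (inf_le_right : U ⊓ V ≤ V) hxI] at h1 ⊢
    rw [fx_gm, ← gm_smul' h, ← map_smul, ← RngSp.gm_zero hxI] at h1
    rw [← gm_smul' h]
    obtain ⟨W, hW, hxW, he⟩ := (RngSp.gm_eq_iff hxI _ _).1 h1
    rw [res_zero, ← RngSp.mp_res] at he
    obtain ⟨w, hw⟩ := exists_app_eq_of_exact hS _ he
    have h2 := congrArg (gm S.X₂ hxW) hw
    rw [RngSp.gm_res] at h2
    rw [← h2]
    change ∃ m, KillsAt h hx m (gm S.X₂ hxW (mp S.f W w))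
    rw [← fx_gm]
    exact ((torsAt_of_isTorsF h h₁ _).map S.f).exists_kills hU hx
  choose m hm using hl
  refine ⟨U, hU, hx, Finset.univ.sup m + k, fun b hb => ?_⟩
  rw [pow_add] at hb
  refine Submodule.mul_induction_on hb (fun p hp q hq => ?_) fun p q hp hq => by
    rw [map_add, add_smul, hp, hq, add_zero]
  rw [← ha] at hq
  induction hq using Submodule.span_induction with
  | mem q hq =>
    obtain ⟨l, rfl⟩ := hq
    rw [map_mul, mul_smul]
    exact hm l p (Ideal.pow_le_pow_right (Finset.le_sup (Finset.mem_univ l)) hp)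
  | zero => rw [mul_zero, map_zero, zero_smul]
  | add q q' _ _ iq iq' => rw [mul_add, map_add, add_smul, iq, iq', add_zero]
  | smul c q _ iq => rw [smul_eq_mul, mul_left_comm, map_mul, mul_smul, iq, smul_zero]

instance isClosedUnderIsomorphisms_isTorsF : (FTors.IsTorsF 𝔛 h.1).IsClosedUnderIsomorphisms :=
  ⟨fun e hM => isTorsF_of_epi h e.hom hM⟩

theorem isTorsF_colimit {J' : Type*} [Category J'] {D : J' ⥤ FSch.ModF 𝔛 h.1} {c : Cocone D}
    (hc : IsColimit c) (hD : ∀ j, FTors.IsTorsF 𝔛 h.1 (D.obj j)) : FTors.IsTorsF 𝔛 h.1 c.pt := by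
  have hiso : ∀ j, IsIso ((FTors.gammaTι 𝔛 h.1).app (D.obj j)) := fun j =>
    isIso_of_bijective_mp _ fun W => ⟨fun s t e => Subtype.ext e, fun s => ⟨⟨s, hD j W s⟩, rfl⟩⟩
  let cc : Cocone D :=
    { pt := (FTors.gammaT 𝔛 h.1).obj c.pt
      ι :=
        { app := fun j => inv ((FTors.gammaTι 𝔛 h.1).app (D.obj j)) ≫ (FTors.gammaT 𝔛 h.1).map (c.ι.app j)
          naturality := fun i j g => by
            dsimp only [Functor.const_obj_obj, Functor.const_obj_map]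
            rw [Category.comp_id, IsIso.eq_inv_comp, ← Category.assoc]
            have h1 := (FTors.gammaTι 𝔛 h.1).naturality (D.map g)
            dsimp only [Functor.id_obj, Functor.id_map] at h1
            rw [← h1, Category.assoc, IsIso.hom_inv_id_assoc, ← Functor.map_comp, c.w] } }
  have hsec : hc.desc cc ≫ (FTors.gammaTι 𝔛 h.1).app c.pt = 𝟙 c.pt := hc.hom_ext fun j => by
    rw [hc.fac_assoc, Category.comp_id]
    change (inv _ ≫ _) ≫ _ = _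
    rw [Category.assoc, IsIso.inv_comp_eq]
    exact (FTors.gammaTι 𝔛 h.1).naturality (c.ι.app j)
  intro U s
  have e := congrArg (fun q : c.pt ⟶ c.pt => mp q U s) hsec
  change ((hc.desc cc).val.app (op U) s).1 = s at e
  rw [← e]
  exact ((hc.desc cc).val.app (op U) s).2

end Groth.Agent.FTorsL
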